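import Cfsg.Agent.Base

/-!
Basic API for `Cfsg.IsElementaryAbelian`, `Cfsg.omegaOne` and some cardinality lemmas for
pairs of subgroups.
-/

set_option autoImplicit false

namespace CL.EA

open Cfsg
open scoped Pointwise

variable {G : Type*} [Group G] {p : ℕ}

theorem comm {A : Subgroup G} (hA : IsElementaryAbelian p A) {a b : G} (ha : a ∈ A) (hb : b ∈ A) :
    a * b = b * a := by
  have := hA.1
  exact congrArg Subtype.val (mul_comm' (⟨a, ha⟩ : A) ⟨b, hb⟩)

theorem commute {A : Subgroup G} (hA : IsElementaryAbelian p A) {a b : G} (ha : a ∈ A)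
    (hb : b ∈ A) : Commute a b := comm hA ha hb

theorem pow_eq_one {A : Subgroup G} (hA : IsElementaryAbelian p A) {a : G} (ha : a ∈ A) :
    a ^ p = 1 := hA.2 a ha

theorem of_comm {A : Subgroup G} (h1 : ∀ a ∈ A, ∀ b ∈ A, a * b = b * a)
    (h2 : ∀ a ∈ A, a ^ p = 1) : IsElementaryAbelian p A :=
  ⟨⟨⟨fun a b => Subtype.ext (h1 a a.2 b b.2)⟩⟩, h2⟩

theorem iff {A : Subgroup G} : IsElementaryAbelian p A ↔
    (∀ a ∈ A, ∀ b ∈ A, a * b = b * a) ∧ ∀ a ∈ A, a ^ p = 1 :=
  ⟨fun h => ⟨fun _ ha _ hb => comm h ha hb, h.2⟩, fun h => of_comm h.1 h.2⟩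

theorem le_centralizer {A : Subgroup G} (hA : IsElementaryAbelian p A) :
    A ≤ Subgroup.centralizer (A : Set G) := fun _ ha =>
  Subgroup.mem_centralizer_iff.2 fun _ hb => comm hA hb ha

theorem le_centralizer_of_le {A B C : Subgroup G} (hA : IsElementaryAbelian p A) (hB : B ≤ A)
    (hC : C ≤ A) : B ≤ Subgroup.centralizer (C : Set G) := fun _ ha =>
  Subgroup.mem_centralizer_iff.2 fun _ hb => comm hA (hC hb) (hB ha)

theorem commutator_self {A : Subgroup G} (hA : IsElementaryAbelian p A) : ⁅A, A⁆ = ⊥ :=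
  Subgroup.commutator_eq_bot_iff_le_centralizer.2 (le_centralizer hA)

theorem mono {A B : Subgroup G} (hA : IsElementaryAbelian p A) (h : B ≤ A) :
    IsElementaryAbelian p B :=
  of_comm (fun _ ha _ hb => comm hA (h ha) (h hb)) (fun a ha => hA.2 a (h ha))

theorem bot : IsElementaryAbelian p (⊥ : Subgroup G) :=
  of_comm (by simp) (by simp)

theorem map {G' : Type*} [Group G'] {A : Subgroup G} (hA : IsElementaryAbelian p A)
    (f : G →* G') : IsElementaryAbelian p (A.map f) := by
  refine of_comm ?_ ?_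
  · rintro _ ⟨a, ha, rfl⟩ _ ⟨b, hb, rfl⟩
    rw [← map_mul, ← map_mul, comm hA ha hb]
  · rintro _ ⟨a, ha, rfl⟩
    rw [← map_pow, hA.2 a ha, map_one]

theorem comap_of_injective {G' : Type*} [Group G'] {A : Subgroup G}
    (hA : IsElementaryAbelian p A) {f : G' →* G} (hf : Function.Injective f) :
    IsElementaryAbelian p (A.comap f) := by
  refine of_comm (fun a ha b hb => hf ?_) (fun a ha => hf ?_)
  · rw [map_mul, map_mul, comm hA ha hb]
  · rw [map_pow, hA.2 _ ha, map_one]

theorem of_map_of_injective {G' : Type*} [Group G'] {A : Subgroup G} {f : G →* G'}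
    (hf : Function.Injective f) (hA : IsElementaryAbelian p (A.map f)) :
    IsElementaryAbelian p A :=
  mono (comap_of_injective hA hf) (Subgroup.le_comap_map f A)

theorem map_iff_of_injective {G' : Type*} [Group G'] {A : Subgroup G} {f : G →* G'}
    (hf : Function.Injective f) : IsElementaryAbelian p (A.map f) ↔ IsElementaryAbelian p A :=
  ⟨of_map_of_injective hf, fun h => map h f⟩

theorem subgroupOf {A : Subgroup G} (hA : IsElementaryAbelian p A) (U : Subgroup G) :
    IsElementaryAbelian p (A.subgroupOf U) :=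
  comap_of_injective hA U.subtype_injective

theorem isPGroup {A : Subgroup G} (hA : IsElementaryAbelian p A) : IsPGroup p A :=
  fun a => ⟨1, Subtype.ext (by simpa using hA.2 a a.2)⟩

theorem closure {s : Set G} (h1 : ∀ a ∈ s, ∀ b ∈ s, a * b = b * a) (h2 : ∀ a ∈ s, a ^ p = 1) :
    IsElementaryAbelian p (Subgroup.closure s) := by
  have hc : IsMulCommutative (Subgroup.closure s) := Subgroup.isMulCommutative_closure h1
  have hc' : ∀ a ∈ Subgroup.closure s, ∀ b ∈ Subgroup.closure s, a * b = b * a := fun a ha b hb =>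
    congrArg Subtype.val (mul_comm' (⟨a, ha⟩ : Subgroup.closure s) ⟨b, hb⟩)
  refine ⟨hc, fun a ha => ?_⟩
  induction ha using Subgroup.closure_induction with
  | mem x hx => exact h2 x hx
  | one => simp
  | mul x y hx hy ihx ihy => rw [Commute.mul_pow (hc' x hx y hy), ihx, ihy, one_mul]
  | inv x hx ih => rw [inv_pow, ih, inv_one]

theorem zpowers {x : G} (hx : x ^ p = 1) : IsElementaryAbelian p (Subgroup.zpowers x) := by
  rw [Subgroup.zpowers_eq_closure]
  exact closure (by simp) (by simpa using hx)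

theorem sup {A B : Subgroup G} (hA : IsElementaryAbelian p A) (hB : IsElementaryAbelian p B)
    (h : A ≤ Subgroup.centralizer (B : Set G)) : IsElementaryAbelian p (A ⊔ B) := by
  rw [Subgroup.sup_eq_closure]
  refine closure ?_ ?_
  · rintro a (ha | ha) b (hb | hb)
    · exact comm hA ha hb
    · exact (Subgroup.mem_centralizer_iff.1 (h ha) b hb).symm
    · exact Subgroup.mem_centralizer_iff.1 (h hb) a ha
    · exact comm hB ha hb
  · rintro a (ha | ha)
    · exact hA.2 a ha
    · exact hB.2 a ha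

theorem iSup {ι : Sort*} {A : ι → Subgroup G} (hA : ∀ i, IsElementaryAbelian p (A i))
    (h : ∀ i j, A i ≤ Subgroup.centralizer (A j : Set G)) : IsElementaryAbelian p (⨆ i, A i) := by
  rw [Subgroup.iSup_eq_closure]
  refine closure ?_ ?_
  · intro a ha b hb
    obtain ⟨i, hi⟩ := Set.mem_iUnion.1 ha
    obtain ⟨j, hj⟩ := Set.mem_iUnion.1 hb
    exact (Subgroup.mem_centralizer_iff.1 (h i j hi) b hj).symm
  · intro a ha
    obtain ⟨i, hi⟩ := Set.mem_iUnion.1 ha
    exact (hA i).2 a hi

/-- The order of a nonidentity element of an elementary abelian `p`-group is `p`. -/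
theorem orderOf_eq [Fact p.Prime] {A : Subgroup G} (hA : IsElementaryAbelian p A) {a : G}
    (ha : a ∈ A) (h1 : a ≠ 1) : orderOf a = p :=
  orderOf_eq_prime (hA.2 a ha) h1

theorem card_zpowers [Fact p.Prime] {A : Subgroup G} (hA : IsElementaryAbelian p A) {a : G}
    (ha : a ∈ A) (h1 : a ≠ 1) : Nat.card (Subgroup.zpowers a) = p := by
  rw [Nat.card_zpowers, orderOf_eq hA ha h1]

theorem exists_card_eq [Finite G] [Fact p.Prime] {A : Subgroup G}
    (hA : IsElementaryAbelian p A) : ∃ n, Nat.card A = p ^ n :=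
  IsPGroup.iff_card.1 (isPGroup hA)

/-! ### `omegaOne` -/

theorem omegaOne_le (H : Subgroup G) : omegaOne p H ≤ H :=
  (Subgroup.closure_le _).2 fun _ hx => hx.1

theorem mem_omegaOne {H : Subgroup G} {x : G} (hx : x ∈ H) (hp : x ^ p = 1) :
    x ∈ omegaOne p H := Subgroup.subset_closure ⟨hx, hp⟩

theorem omegaOne_mono {H K : Subgroup G} (h : H ≤ K) : omegaOne p H ≤ omegaOne p K :=
  Subgroup.closure_mono fun _ hx => ⟨h hx.1, hx.2⟩

theorem omegaOne_le_iff {H K : Subgroup G} :
    omegaOne p H ≤ K ↔ ∀ x ∈ H, x ^ p = 1 → x ∈ K := by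
  unfold omegaOne
  rw [Subgroup.closure_le]
  exact ⟨fun h x hx hp => h ⟨hx, hp⟩, fun h x hx => h x hx.1 hx.2⟩

theorem le_omegaOne {A H : Subgroup G} (hA : IsElementaryAbelian p A) (h : A ≤ H) :
    A ≤ omegaOne p H := fun a ha => mem_omegaOne (h ha) (hA.2 a ha)

theorem omegaOne_of_comm {H : Subgroup G} (h : ∀ a ∈ H, ∀ b ∈ H, a * b = b * a) :
    IsElementaryAbelian p (omegaOne p H) :=
  closure (fun a ha b hb => h a ha.1 b hb.1) fun _ ha => ha.2

theorem mem_omegaOne_iff_of_comm {H : Subgroup G} (h : ∀ a ∈ H, ∀ b ∈ H, a * b = b * a) {x : G} :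
    x ∈ omegaOne p H ↔ x ∈ H ∧ x ^ p = 1 :=
  ⟨fun hx => ⟨omegaOne_le H hx, (omegaOne_of_comm h).2 x hx⟩, fun hx => mem_omegaOne hx.1 hx.2⟩

/-- `Ω₁(Z(H))` is elementary abelian. -/
theorem omegaOne_center (H : Subgroup G) :
    IsElementaryAbelian p (omegaOne p (H ⊓ Subgroup.centralizer (H : Set G))) :=
  omegaOne_of_comm fun a ha _ hb => Subgroup.mem_centralizer_iff.1 hb.2 a ha.1

theorem mem_omegaOne_center_iff {H : Subgroup G} {x : G} :
    x ∈ omegaOne p (H ⊓ Subgroup.centralizer (H : Set G)) ↔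
      x ∈ H ∧ x ∈ Subgroup.centralizer (H : Set G) ∧ x ^ p = 1 := by
  rw [mem_omegaOne_iff_of_comm (H := H ⊓ Subgroup.centralizer (H : Set G))
    (fun a ha _ hb => Subgroup.mem_centralizer_iff.1 hb.2 a ha.1), Subgroup.mem_inf, and_assoc]

theorem omegaOne_map_le {G' : Type*} [Group G'] (H : Subgroup G) (f : G →* G') :
    (omegaOne p H).map f ≤ omegaOne p (H.map f) := by
  rw [Subgroup.map_le_iff_le_comap, omegaOne_le_iff]
  intro x hx hp
  exact mem_omegaOne (Subgroup.mem_map_of_mem f hx) (by rw [← map_pow, hp, map_one])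

theorem omegaOne_map_of_injective {G' : Type*} [Group G'] (H : Subgroup G) {f : G →* G'}
    (hf : Function.Injective f) : (omegaOne p H).map f = omegaOne p (H.map f) := by
  refine le_antisymm (omegaOne_map_le H f) (omegaOne_le_iff.2 ?_)
  rintro _ ⟨x, hx, rfl⟩ hp
  exact Subgroup.mem_map_of_mem f (mem_omegaOne hx (hf (by rw [map_pow, hp, map_one])))

theorem normalizer_le_normalizer_omegaOne (H : Subgroup G) :
    Subgroup.normalizer (H : Set G) ≤ Subgroup.normalizer (omegaOne p H : Set G) := by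
  intro g hg
  rw [Subgroup.mem_normalizer_iff_map_conj_eq] at hg ⊢
  have := omegaOne_map_of_injective (p := p) H (f := (MulAut.conj g).toMonoidHom)
    (MulAut.conj g).injective
  rw [show H.map (MulAut.conj g).toMonoidHom = H from hg] at this
  exact this

theorem omegaOne_normal (H : Subgroup G) [H.Normal] : (omegaOne p H).Normal := by
  rw [← Subgroup.normalizer_eq_top_iff, eq_top_iff, ← H.normalizer_eq_top]
  exact normalizer_le_normalizer_omegaOne H

/-! ### Cardinalities -/

theorem card_subgroupOf (H K : Subgroup G) :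
    Nat.card (H.subgroupOf K) = Nat.card (H ⊓ K : Subgroup G) := by
  rw [← Subgroup.inf_subgroupOf_right]
  exact Nat.card_congr (Subgroup.subgroupOfEquivOfLe inf_le_right).toEquiv

theorem card_inf_mul_relIndex (H K : Subgroup G) :
    Nat.card (H ⊓ K : Subgroup G) * H.relIndex K = Nat.card K := by
  rw [← card_subgroupOf, Subgroup.relIndex, Subgroup.card_mul_index]

theorem card_mul_relIndex {H K : Subgroup G} (h : H ≤ K) :
    Nat.card H * H.relIndex K = Nat.card K := by
  have := card_inf_mul_relIndex H K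
  rwa [inf_eq_left.2 h] at this

theorem relIndex_sup_of_le_normalizer {H N : Subgroup G} (h : H ≤ Subgroup.normalizer (N : Set G)) :
    N.relIndex (H ⊔ N) = N.relIndex H := by
  have := Subgroup.normal_subgroupOf_of_le_normalizer h
  have := Subgroup.normal_subgroupOf_sup_of_le_normalizer h
  exact (Nat.card_congr (QuotientGroup.quotientInfEquivProdNormalizerQuotient H N h).toEquiv).symm

/-- `|H| |K| ≤ |H ∩ K| |⟨H, K⟩|`. -/
theorem card_mul_card_le [Finite G] (H K : Subgroup G) :
    Nat.card H * Nat.card K ≤ Nat.card (H ⊓ K : Subgroup G) * Nat.card (H ⊔ K : Subgroup G) := by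
  have h1 := card_inf_mul_relIndex K H
  have h2 := card_mul_relIndex (le_sup_right : K ≤ H ⊔ K)
  have h3 : K.relIndex H ≤ K.relIndex (H ⊔ K) :=
    Subgroup.relIndex_le_of_le_right le_sup_left Subgroup.index_ne_zero_of_finite
  rw [← h1, ← h2, inf_comm K H]
  calc Nat.card (H ⊓ K : Subgroup G) * K.relIndex H * Nat.card K
      ≤ Nat.card (H ⊓ K : Subgroup G) * K.relIndex (H ⊔ K) * Nat.card K := by gcongr
    _ = _ := by ring

/-- `|H| |N| = |H ∩ N| |HN|` when `H` normalizes `N`. -/
theorem card_mul_card_eq {H N : Subgroup G} (h : H ≤ Subgroup.normalizer (N : Set G)) :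
    Nat.card H * Nat.card N = Nat.card (H ⊓ N : Subgroup G) * Nat.card (H ⊔ N : Subgroup G) := by
  have h1 := card_inf_mul_relIndex N H
  have h2 := card_mul_relIndex (le_sup_right : N ≤ H ⊔ N)
  rw [← h1, ← h2, inf_comm N H, relIndex_sup_of_le_normalizer h]
  ring

theorem card_mul_card_eq' {H N : Subgroup G} (h : H ≤ Subgroup.normalizer (N : Set G)) :
    Nat.card N * Nat.card H = Nat.card (N ⊓ H : Subgroup G) * Nat.card (N ⊔ H : Subgroup G) := by
  rw [mul_comm, card_mul_card_eq h, inf_comm, sup_comm]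

theorem card_sup_of_disjoint {H N : Subgroup G} (h : H ≤ Subgroup.normalizer (N : Set G))
    (hd : H ⊓ N = ⊥) : Nat.card (H ⊔ N : Subgroup G) = Nat.card H * Nat.card N := by
  rw [card_mul_card_eq h, hd, Subgroup.card_bot, one_mul]

theorem card_pos [Finite G] (H : Subgroup G) : 0 < Nat.card H := Nat.card_pos

theorem card_lt_of_lt [Finite G] {H K : Subgroup G} (h : H < K) : Nat.card H < Nat.card K := by
  refine lt_of_le_of_ne (Subgroup.card_le_of_le h.le) fun he => h.ne ?_
  exact Subgroup.eq_of_le_of_card_ge h.le he.ge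

theorem mem_sup_of_le_normalizer {H N : Subgroup G} (h : H ≤ Subgroup.normalizer (N : Set G))
    {x : G} : x ∈ H ⊔ N ↔ ∃ a ∈ H, ∃ b ∈ N, a * b = x := by
  rw [← SetLike.mem_coe, Subgroup.coe_mul_of_left_le_normalizer_right H N h]
  exact Set.mem_mul

theorem mem_sup_of_le_normalizer' {H N : Subgroup G} (h : H ≤ Subgroup.normalizer (N : Set G))
    {x : G} : x ∈ N ⊔ H ↔ ∃ a ∈ N, ∃ b ∈ H, a * b = x := by
  rw [← SetLike.mem_coe, Subgroup.coe_mul_of_right_le_normalizer_left N H h]
  exact Set.mem_mul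

theorem centralizer_sup (H K : Subgroup G) :
    Subgroup.centralizer ((H ⊔ K : Subgroup G) : Set G) =
      Subgroup.centralizer (H : Set G) ⊓ Subgroup.centralizer (K : Set G) := by
  apply le_antisymm
  · exact le_inf (Subgroup.centralizer_le (SetLike.coe_subset_coe.2 le_sup_left))
      (Subgroup.centralizer_le (SetLike.coe_subset_coe.2 le_sup_right))
  · rw [Subgroup.le_centralizer_iff, sup_le_iff, Subgroup.le_centralizer_iff,
      Subgroup.le_centralizer_iff (H := K)]
    exact ⟨inf_le_left, inf_le_right⟩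

theorem centralizer_iSup {ι : Sort*} (H : ι → Subgroup G) :
    Subgroup.centralizer ((⨆ i, H i : Subgroup G) : Set G) =
      ⨅ i, Subgroup.centralizer (H i : Set G) := by
  apply le_antisymm
  · exact le_iInf fun i => Subgroup.centralizer_le (SetLike.coe_subset_coe.2 (le_iSup H i))
  · rw [Subgroup.le_centralizer_iff, iSup_le_iff]
    intro i
    rw [Subgroup.le_centralizer_iff]
    exact iInf_le _ i

theorem centralizer_anti {H K : Subgroup G} (h : H ≤ K) :
    Subgroup.centralizer (K : Set G) ≤ Subgroup.centralizer (H : Set G) :=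
  Subgroup.centralizer_le (SetLike.coe_subset_coe.2 h)

theorem centralizer_bot : Subgroup.centralizer ((⊥ : Subgroup G) : Set G) = ⊤ := by
  rw [eq_top_iff, Subgroup.le_centralizer_iff]
  exact bot_le

theorem centralizer_map_equiv {G' : Type*} [Group G'] (H : Subgroup G) (e : G ≃* G') :
    Subgroup.centralizer ((H.map (e : G →* G') : Subgroup G') : Set G') =
      (Subgroup.centralizer (H : Set G)).map (e : G →* G') := by
  ext x
  obtain ⟨y, rfl⟩ := e.surjective x
  rw [show e y = (e : G →* G') y from rfl,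
    Subgroup.mem_map_iff_mem (f := (e : G →* G')) e.injective, Subgroup.mem_centralizer_iff,
    Subgroup.mem_centralizer_iff]
  constructor
  · intro h a ha
    apply e.injective
    simpa using h (e a) ⟨a, ha, rfl⟩
  · rintro h _ ⟨a, ha, rfl⟩
    rw [← map_mul, ← map_mul, h a ha]

theorem normalizer_le_normalizer_centralizer (H : Subgroup G) :
    Subgroup.normalizer (H : Set G) ≤
      Subgroup.normalizer (Subgroup.centralizer (H : Set G) : Set G) := by
  intro g hg
  rw [Subgroup.mem_normalizer_iff_map_conj_eq] at hg ⊢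
  rw [← centralizer_map_equiv, hg]

theorem le_normalizer_inf {A H K : Subgroup G} (h1 : A ≤ Subgroup.normalizer (H : Set G))
    (h2 : A ≤ Subgroup.normalizer (K : Set G)) :
    A ≤ Subgroup.normalizer ((H ⊓ K : Subgroup G) : Set G) :=
  (le_inf h1 h2).trans Subgroup.inf_normalizer_le_normalizer_inf

theorem le_normalizer_sup {A H K : Subgroup G} (h1 : A ≤ Subgroup.normalizer (H : Set G))
    (h2 : A ≤ Subgroup.normalizer (K : Set G)) :
    A ≤ Subgroup.normalizer ((H ⊔ K : Subgroup G) : Set G) :=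
  (le_inf h1 h2).trans (Subgroup.normalizer_inf_normalizer_le_normalizer_sup H K)

theorem le_normalizer_commutator {A H K : Subgroup G} (h1 : A ≤ Subgroup.normalizer (H : Set G))
    (h2 : A ≤ Subgroup.normalizer (K : Set G)) :
    A ≤ Subgroup.normalizer ((⁅H, K⁆ : Subgroup G) : Set G) := by
  intro g hg
  have a1 := h1 hg
  have a2 := h2 hg
  rw [Subgroup.mem_normalizer_iff_map_conj_eq] at a1 a2 ⊢
  rw [Subgroup.map_commutator, a1, a2]

theorem le_normalizer_centralizer {A H : Subgroup G} (h : A ≤ Subgroup.normalizer (H : Set G)) :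
    A ≤ Subgroup.normalizer (Subgroup.centralizer (H : Set G) : Set G) :=
  h.trans (normalizer_le_normalizer_centralizer H)

theorem le_normalizer_of_le_centralizer {A H : Subgroup G}
    (h : A ≤ Subgroup.centralizer (H : Set G)) : A ≤ Subgroup.normalizer (H : Set G) :=
  h.trans (Subgroup.centralizer_le_normalizer _)

end CL.EA
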