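import Cfsg.Agent.PLocal.Constraint

/-!
The upper `p`-series.
-/

set_option autoImplicit false

open Cfsg Subgroup
open scoped commutatorElement

namespace CL.PL

variable {G : Type*} [Group G] {p : ℕ}

theorem upperPSeries_zero : (upperPSeries p G 0).1 = ⊥ := rfl

theorem upperPSeries_succ_of_even {n : ℕ} (h : Even n) :
    (upperPSeries p G (n + 1)).1 =
      (pPrimeCore p (G ⧸ (upperPSeries p G n).1)).comap (QuotientGroup.mk' _) := by
  rw [upperPSeries, if_pos h]

theorem upperPSeries_succ_of_odd {n : ℕ} (h : ¬ Even n) :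
    (upperPSeries p G (n + 1)).1 =
      (pCore p (G ⧸ (upperPSeries p G n).1)).comap (QuotientGroup.mk' _) := by
  rw [upperPSeries, if_neg h]

theorem upperPSeries_two_mul_add_one (k : ℕ) :
    (upperPSeries p G (2 * k + 1)).1 =
      (pPrimeCore p (G ⧸ (upperPSeries p G (2 * k)).1)).comap (QuotientGroup.mk' _) :=
  upperPSeries_succ_of_even (even_two_mul k)

theorem upperPSeries_two_mul_add_two (k : ℕ) :
    (upperPSeries p G (2 * k + 2)).1 =
      (pCore p (G ⧸ (upperPSeries p G (2 * k + 1)).1)).comap (QuotientGroup.mk' _) :=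
  upperPSeries_succ_of_odd (by simp)

theorem upperPSeries_le_succ (n : ℕ) : (upperPSeries p G n).1 ≤ (upperPSeries p G (n + 1)).1 := by
  by_cases h : Even n
  · rw [upperPSeries_succ_of_even h]
    conv_lhs => rw [← QuotientGroup.ker_mk' (upperPSeries p G n).1]
    exact ker_le_comap _ _
  · rw [upperPSeries_succ_of_odd h]
    conv_lhs => rw [← QuotientGroup.ker_mk' (upperPSeries p G n).1]
    exact ker_le_comap _ _

theorem upperPSeries_mono : Monotone fun n => (upperPSeries p G n).1 :=
  monotone_nat_of_le_succ upperPSeries_le_succ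

theorem quotient_map_surjective {U N : Subgroup G} [U.Normal] [N.Normal] (h : U ≤ N) :
    Function.Surjective (QuotientGroup.map U N (MonoidHom.id G) h) := by
  intro x
  obtain ⟨x, rfl⟩ := QuotientGroup.mk_surjective x
  exact ⟨QuotientGroup.mk x, rfl⟩

theorem ker_quotient_map {U N : Subgroup G} [U.Normal] [N.Normal] (h : U ≤ N) :
    (QuotientGroup.map U N (MonoidHom.id G) h).ker = N.map (QuotientGroup.mk' U) :=
  QuotientGroup.ker_map U N (MonoidHom.id G) h

theorem pPrimeCore_quotient_eq_bot_of_eq_comap [Finite G] {U N : Subgroup G} [U.Normal]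
    [N.Normal] (h : N = (pPrimeCore p (G ⧸ U)).comap (QuotientGroup.mk' U)) :
    pPrimeCore p (G ⧸ N) = ⊥ := by
  have hle : U ≤ N := by
    rw [h]
    conv_lhs => rw [← QuotientGroup.ker_mk' U]
    exact ker_le_comap _ _
  refine pPrimeCore_eq_bot_of_ker_eq _ (quotient_map_surjective hle) ?_
  rw [ker_quotient_map, h, map_comap_eq_self_of_surjective (QuotientGroup.mk'_surjective U)]

theorem pCore_quotient_eq_bot_of_eq_comap {U N : Subgroup G} [U.Normal]
    [N.Normal] (h : N = (pCore p (G ⧸ U)).comap (QuotientGroup.mk' U)) :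
    pCore p (G ⧸ N) = ⊥ := by
  have hle : U ≤ N := by
    rw [h]
    conv_lhs => rw [← QuotientGroup.ker_mk' U]
    exact ker_le_comap _ _
  refine pCore_eq_bot_of_ker_eq _ (quotient_map_surjective hle) ?_
  rw [ker_quotient_map, h, map_comap_eq_self_of_surjective (QuotientGroup.mk'_surjective U)]

theorem pPrimeCore_quotient_upperPSeries [Finite G] (k : ℕ) :
    pPrimeCore p (G ⧸ (upperPSeries p G (2 * k + 1)).1) = ⊥ :=
  pPrimeCore_quotient_eq_bot_of_eq_comap (upperPSeries_two_mul_add_one k)

theorem pCore_quotient_upperPSeries (k : ℕ) :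
    pCore p (G ⧸ (upperPSeries p G (2 * k + 2)).1) = ⊥ :=
  pCore_quotient_eq_bot_of_eq_comap (upperPSeries_two_mul_add_two k)

theorem map_upperPSeries_two_mul_add_two (k : ℕ) :
    (upperPSeries p G (2 * k + 2)).1.map (QuotientGroup.mk' (upperPSeries p G (2 * k + 1)).1) =
      pCore p (G ⧸ (upperPSeries p G (2 * k + 1)).1) := by
  rw [upperPSeries_two_mul_add_two, map_comap_eq_self_of_surjective
    (QuotientGroup.mk'_surjective _)]

theorem mem_pPrimeCore_quotient_bot_iff [Finite G] {U : Subgroup G} [U.Normal] (hU : U = ⊥) :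
    (pPrimeCore p (G ⧸ U)).comap (QuotientGroup.mk' U) = pPrimeCore p G :=
  comap_pPrimeCore_eq _ (QuotientGroup.mk'_surjective U)
    (by rw [QuotientGroup.ker_mk', hU]; simp)

theorem upperPSeries_one [Finite G] : (upperPSeries p G 1).1 = pPrimeCore p G := by
  rw [upperPSeries_succ_of_even Even.zero]
  exact mem_pPrimeCore_quotient_bot_iff rfl

theorem upperPSeries_two [Finite G] : (upperPSeries p G 2).1 = pPrimePCore p G := by
  rw [upperPSeries_succ_of_odd (n := 1) (by simp)]
  exact (pPrimePCore_eq_comap _ (QuotientGroup.mk'_surjective _)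
    (by rw [QuotientGroup.ker_mk', upperPSeries_one])).symm

/-- If the term at position `2k` contains a Sylow `p`-subgroup then the `p`-length is at most
`k`. -/
theorem pLengthLE_of_sylow_le [Finite G] [hp : Fact p.Prime] (S : Sylow p G) {k : ℕ}
    (h : (S : Subgroup G) ≤ (upperPSeries p G (2 * k)).1) : PLengthLE p k G := by
  rw [PLengthLE, upperPSeries_two_mul_add_one, pPrimeCore_eq_top_iff.2, comap_top]
  rw [← index_eq_card, Nat.coprime_comm, hp.out.coprime_iff_not_dvd]
  exact fun hd => S.not_dvd_index (hd.trans (index_dvd_of_le h))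

/-- In a `p`-solvable group, an element centralizing a Sylow `p`-subgroup modulo the term at
position `2k+1` lies in the term at position `2k+2`. -/
theorem mem_upperPSeries_of_commutator_mem [Finite G] [Fact p.Prime] (hsol : IsPSolvable p G)
    (S : Sylow p G) (k : ℕ) {x : G}
    (hx : ∀ s ∈ (S : Subgroup G), ⁅s, x⁆ ∈ (upperPSeries p G (2 * k + 1)).1) :
    x ∈ (upperPSeries p G (2 * k + 2)).1 := by
  rw [upperPSeries_two_mul_add_two, mem_comap]
  refine centralizer_pCore_le_of_isPSolvable (isPSolvable_quotient hsol _)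
    (pPrimeCore_quotient_upperPSeries k) fun y hy => ?_
  obtain ⟨s, hs, rfl⟩ := pCore_le_sylow (S.mapSurjective (QuotientGroup.mk'_surjective _)) hy
  rw [← commutatorElement_eq_one_iff_mul_comm, ← map_commutatorElement, QuotientGroup.mk'_apply,
    QuotientGroup.eq_one_iff]
  exact hx s hs

end CL.PL
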