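import Cfsg.Agent.PLocal.PSolv
import Cfsg.Agent.Transfer.SylowIn
import Cfsg.Agent.Transfer.PCompl

/-!
Normalizers and centralizers of `p`-subgroups modulo a normal `p'`-subgroup, `O_{p',p}(G)`,
`p`-constraint and groups of characteristic `p` (`C_G(O_p(G)) ≤ O_p(G)`).
-/

set_option autoImplicit false

open Cfsg Subgroup
open scoped commutatorElement

namespace CL.PL

open CL.Transfer

variable {G : Type*} [Group G] {H : Type*} [Group H] {p : ℕ}

theorem relIndex_comap_map_dvd [Finite G] (f : G →* H) (P : Subgroup G) :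
    P.relIndex ((P.map f).comap f) ∣ Nat.card f.ker := by
  have hle : P ≤ (P.map f).comap f := le_comap_map f P
  have h1 : Nat.card P * P.relIndex ((P.map f).comap f) = Nat.card ((P.map f).comap f) := by
    rw [relIndex, ← Nat.card_congr (subgroupOfEquivOfLe hle).toEquiv, card_mul_index]
  have h2 : Nat.card ((P.map f).comap f) ∣ Nat.card P * Nat.card f.ker := by
    rw [mul_comm]
    exact (card_comap_dvd f _).trans (mul_dvd_mul_left _ (card_map_dvd P f))
  rw [← h1] at h2
  exact Nat.dvd_of_mul_dvd_mul_left Nat.card_pos h2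

theorem isSylowIn_comap_map [Finite G] [hp : Fact p.Prime] (f : G →* H)
    (hk : (Nat.card f.ker).Coprime p) {P : Subgroup G} (hP : IsPGroup p P) :
    IsSylowIn p P ((P.map f).comap f) :=
  ⟨le_comap_map f P, hP, fun h =>
    (hp.out.coprime_iff_not_dvd.1 hk.symm) (h.trans (relIndex_comap_map_dvd f P))⟩

theorem inf_ker_eq_bot (f : G →* H) (hk : (Nat.card f.ker).Coprime p) {P : Subgroup G}
    (hP : IsPGroup p P) : P ⊓ f.ker = ⊥ :=
  inf_eq_bot_of_isPGroup_of_coprime hP hk

theorem eq_one_of_mem_of_map_eq_one (f : G →* H) (hk : (Nat.card f.ker).Coprime p)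
    {P : Subgroup G} (hP : IsPGroup p P) {x : G} (hx : x ∈ P) (h : f x = 1) : x = 1 := by
  have : x ∈ P ⊓ f.ker := ⟨hx, h⟩
  rwa [inf_ker_eq_bot f hk hP, mem_bot] at this

theorem exists_mem_normalizer_map_eq [Finite G] [Fact p.Prime] (f : G →* H)
    (hk : (Nat.card f.ker).Coprime p) {P : Subgroup G} (hP : IsPGroup p P) {g : G}
    (hg : f g ∈ normalizer (P.map f : Set H)) :
    ∃ g' ∈ normalizer (P : Set G), f g' = f g := by
  have h1 : g ∈ normalizer (((P.map f).comap f : Subgroup G) : Set G) :=
    le_normalizer_comap f hg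
  obtain ⟨n, hn, hng⟩ := (isSylowIn_comap_map f hk hP).frattini_argument h1
  obtain ⟨x, hx, hxn⟩ := hn
  refine ⟨x⁻¹ * (n * g), mul_mem (inv_mem (le_normalizer hx)) hng, ?_⟩
  simp [hxn]

theorem mem_centralizer_of_map_mem (f : G →* H) (hk : (Nat.card f.ker).Coprime p)
    {P : Subgroup G} (hP : IsPGroup p P) {g : G} (hg : g ∈ normalizer (P : Set G))
    (h : f g ∈ centralizer (P.map f : Set H)) : g ∈ centralizer (P : Set G) := by
  intro x hx
  have h1 : g * x * g⁻¹ * x⁻¹ ∈ P := mul_mem ((mem_normalizer_iff.1 hg x).1 hx) (inv_mem hx)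
  have h2 : f (g * x * g⁻¹ * x⁻¹) = 1 := by
    have := h (f x) ⟨x, hx, rfl⟩
    simp only [map_mul, map_inv, ← this]
    group
  have := eq_one_of_mem_of_map_eq_one f hk hP h1 h2
  rw [mul_inv_eq_one, mul_inv_eq_iff_eq_mul] at this
  exact this.symm

theorem exists_mem_centralizer_map_eq [Finite G] [Fact p.Prime] (f : G →* H)
    (hk : (Nat.card f.ker).Coprime p) {P : Subgroup G} (hP : IsPGroup p P) {g : G}
    (hg : f g ∈ centralizer (P.map f : Set H)) :
    ∃ g' ∈ centralizer (P : Set G), f g' = f g := by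
  obtain ⟨g', hg', h⟩ := exists_mem_normalizer_map_eq f hk hP (centralizer_le_normalizer _ hg)
  exact ⟨g', mem_centralizer_of_map_mem f hk hP hg' (h ▸ hg), h⟩

theorem map_normalizer_eq [Finite G] [Fact p.Prime] (f : G →* H) (hf : Function.Surjective f)
    (hk : (Nat.card f.ker).Coprime p) {P : Subgroup G} (hP : IsPGroup p P) :
    (normalizer (P : Set G)).map f = normalizer (P.map f : Set H) := by
  refine le_antisymm (le_normalizer_map f) fun y hy => ?_
  obtain ⟨g, rfl⟩ := hf y
  exact exists_mem_normalizer_map_eq f hk hP hy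

theorem map_centralizer_le (f : G →* H) (P : Subgroup G) :
    (centralizer (P : Set G)).map f ≤ centralizer (P.map f : Set H) :=
  map_centralizer_le_centralizer_image _ f

theorem map_centralizer_eq [Finite G] [Fact p.Prime] (f : G →* H) (hf : Function.Surjective f)
    (hk : (Nat.card f.ker).Coprime p) {P : Subgroup G} (hP : IsPGroup p P) :
    (centralizer (P : Set G)).map f = centralizer (P.map f : Set H) := by
  refine le_antisymm (map_centralizer_le f P) fun y hy => ?_
  obtain ⟨g, rfl⟩ := hf y
  exact exists_mem_centralizer_map_eq f hk hP hy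

/-- If the image of a `p`-subgroup modulo a `p'`-kernel is normal, then `G = ker · N_G(P)`. -/
theorem ker_sup_normalizer_eq_top [Finite G] [Fact p.Prime] (f : G →* H)
    (hk : (Nat.card f.ker).Coprime p) {P : Subgroup G} (hP : IsPGroup p P)
    (hn : (P.map f).Normal) : f.ker ⊔ normalizer (P : Set G) = ⊤ := by
  rw [eq_top_iff]
  intro g _
  obtain ⟨g', hg', h⟩ := exists_mem_normalizer_map_eq f hk hP (g := g)
    (by rw [normalizer_eq_top]; trivial)
  have : g = (g * g'⁻¹) * g' := by group
  rw [this]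
  exact mul_mem_sup (by simp [MonoidHom.mem_ker, h]) hg'

/-- A `p`-subgroup of the image lifts to a `p`-subgroup. -/
theorem exists_isPGroup_map_eq [Finite G] [Fact p.Prime] (f : G →* H)
    (hf : Function.Surjective f) {Q : Subgroup H} (hQ : IsPGroup p Q) :
    ∃ P : Subgroup G, IsSylowIn p P (Q.comap f) ∧ P.map f = Q := by
  obtain ⟨P, hP⟩ := exists_isSylowIn (p := p) (Q.comap f)
  have h1 := hP.map f
  rw [map_comap_eq_self_of_surjective hf] at h1
  exact ⟨P, hP, (h1.eq_of_le hQ h1.le le_rfl).symm⟩

/-! ### `O_{p',p}(G)` -/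

theorem pPrimePCore_normal (p : ℕ) (G : Type*) [Group G] : (pPrimePCore p G).Normal :=
  Normal.comap inferInstance _

theorem pPrimeCore_le_pPrimePCore : pPrimeCore p G ≤ pPrimePCore p G := by
  conv_lhs => rw [← QuotientGroup.ker_mk' (pPrimeCore p G)]
  exact ker_le_comap _ _

theorem pCore_le_pPrimePCore : pCore p G ≤ pPrimePCore p G :=
  map_le_iff_le_comap.1 (map_pCore_le _ (QuotientGroup.mk'_surjective _))

theorem pPrimePCore_eq_comap (f : G →* H) (hf : Function.Surjective f)
    (hk : f.ker = pPrimeCore p G) : pPrimePCore p G = (pCore p H).comap f := by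
  let φ : G ⧸ pPrimeCore p G →* H := QuotientGroup.lift _ f hk.ge
  have hφ : φ.comp (QuotientGroup.mk' _) = f := QuotientGroup.lift_comp_mk' _ _ _
  have h1 : Function.Surjective φ := QuotientGroup.lift_surjective_of_surjective _ _ hf _
  have h2 : Function.Injective φ := by
    rw [← MonoidHom.ker_eq_bot_iff, QuotientGroup.ker_lift, hk, Subgroup.map_eq_bot_iff,
      QuotientGroup.ker_mk']
  rw [← hφ, ← comap_comap, comap_pCore_eq φ h1 (IsPGroup.ker_isPGroup_of_injective h2)]
  rfl

theorem pPrimePCore_eq_pCore (h : pPrimeCore p G = ⊥) : pPrimePCore p G = pCore p G := by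
  rw [pPrimePCore_eq_comap (MonoidHom.id G) Function.surjective_id (by rw [h]; rfl), comap_id]

theorem map_pPrimePCore (f : G →* H) (hf : Function.Surjective f)
    (hk : f.ker = pPrimeCore p G) : (pPrimePCore p G).map f = pCore p H := by
  rw [pPrimePCore_eq_comap f hf hk, map_comap_eq_self_of_surjective hf]

theorem map_eq_pCore_of_isSylowIn [Fact p.Prime] (f : G →* H) (hf : Function.Surjective f)
    (hk : f.ker = pPrimeCore p G) {P : Subgroup G} (hP : IsSylowIn p P (pPrimePCore p G)) :
    P.map f = pCore p H := by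
  have h1 := hP.map f
  rw [map_pPrimePCore f hf hk] at h1
  exact (h1.eq_of_le (pCore_isPGroup p H) h1.le le_rfl).symm

theorem sup_pPrimeCore_eq_of_isSylowIn [Fact p.Prime] {P : Subgroup G}
    (hP : IsSylowIn p P (pPrimePCore p G)) : P ⊔ pPrimeCore p G = pPrimePCore p G := by
  have := map_eq_pCore_of_isSylowIn (QuotientGroup.mk' (pPrimeCore p G))
    (QuotientGroup.mk'_surjective _) (QuotientGroup.ker_mk' _) hP
  rw [pPrimePCore, ← this, comap_map_eq, QuotientGroup.ker_mk']

/-! ### `p`-constraint -/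

theorem centralizer_le_pPrimePCore_iff [Finite G] [Fact p.Prime] (f : G →* H)
    (hf : Function.Surjective f) (hk : f.ker = pPrimeCore p G) {P : Subgroup G}
    (hP : IsSylowIn p P (pPrimePCore p G)) :
    centralizer (P : Set G) ≤ pPrimePCore p G ↔ centralizer (pCore p H : Set H) ≤ pCore p H := by
  rw [pPrimePCore_eq_comap f hf hk, ← map_le_iff_le_comap,
    map_centralizer_eq f hf (hk ▸ pPrimeCore_coprime p G) hP.isPGroup,
    map_eq_pCore_of_isSylowIn f hf hk hP]

theorem isPConstrained_iff_of_ker_eq [Finite G] [Fact p.Prime] (f : G →* H)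
    (hf : Function.Surjective f) (hk : f.ker = pPrimeCore p G) :
    IsPConstrained p G ↔ centralizer (pCore p H : Set H) ≤ pCore p H := by
  constructor
  · intro h
    obtain ⟨P⟩ : Nonempty (Sylow p (pPrimePCore p G)) := inferInstance
    exact (centralizer_le_pPrimePCore_iff f hf hk (isSylowIn_map_subtype P)).1 (h P)
  · intro h P
    exact (centralizer_le_pPrimePCore_iff f hf hk (isSylowIn_map_subtype P)).2 h

/-- `G` is `p`-constrained iff `G / O_{p'}(G)` has characteristic `p`. -/
theorem isPConstrained_iff [Finite G] [Fact p.Prime] :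
    IsPConstrained p G ↔ centralizer (pCore p (G ⧸ pPrimeCore p G) : Set (G ⧸ pPrimeCore p G)) ≤
      pCore p (G ⧸ pPrimeCore p G) :=
  isPConstrained_iff_of_ker_eq _ (QuotientGroup.mk'_surjective _) (QuotientGroup.ker_mk' _)

theorem isPConstrained_iff_of_pPrimeCore_eq_bot [Finite G] [Fact p.Prime]
    (h : pPrimeCore p G = ⊥) :
    IsPConstrained p G ↔ centralizer (pCore p G : Set G) ≤ pCore p G :=
  isPConstrained_iff_of_ker_eq (MonoidHom.id G) Function.surjective_id (by rw [h]; rfl)

theorem isPConstrained_of_charP [Finite G] [Fact p.Prime]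
    (h : centralizer (pCore p G : Set G) ≤ pCore p G) : IsPConstrained p G :=
  (isPConstrained_iff_of_pPrimeCore_eq_bot (pPrimeCore_eq_bot_of_charP h)).2 h

theorem isPConstrained_of_isPSolvable [Finite G] [Fact p.Prime] (h : IsPSolvable p G) :
    IsPConstrained p G :=
  isPConstrained_iff.2 (centralizer_pCore_le_of_isPSolvable (isPSolvable_quotient h _)
    (pPrimeCore_quotient_pPrimeCore p G))

theorem IsPConstrained.centralizer_le [Finite G] [Fact p.Prime] (h : IsPConstrained p G)
    {P : Subgroup G} (hP : IsSylowIn p P (pPrimePCore p G)) :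
    centralizer (P : Set G) ≤ pPrimePCore p G := by
  obtain ⟨S, rfl⟩ := isSylowIn_iff.1 hP
  exact h S

/-- If `f : G → H` is onto with `p'`-kernel and `H` has characteristic `p`, then the kernel is
`O_{p'}(G)`. -/
theorem ker_eq_pPrimeCore_of_charP [Finite G] (f : G →* H) (hf : Function.Surjective f)
    (hk : (Nat.card f.ker).Coprime p) (h : centralizer (pCore p H : Set H) ≤ pCore p H) :
    f.ker = pPrimeCore p G := by
  have : Finite H := Finite.of_surjective f hf
  rw [← comap_pPrimeCore_eq f hf hk, pPrimeCore_eq_bot_of_charP h, MonoidHom.comap_bot]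

theorem isPConstrained_of_surjective_charP [Finite G] [Fact p.Prime] (f : G →* H)
    (hf : Function.Surjective f) (hk : (Nat.card f.ker).Coprime p)
    (h : centralizer (pCore p H : Set H) ≤ pCore p H) : IsPConstrained p G :=
  (isPConstrained_iff_of_ker_eq f hf (ker_eq_pPrimeCore_of_charP f hf hk h)).2 h

/-! ### Groups of characteristic `p` -/

theorem charP_of_equiv (e : G ≃* H) (h : centralizer (pCore p G : Set G) ≤ pCore p G) :
    centralizer (pCore p H : Set H) ≤ pCore p H := by
  intro y hy
  obtain ⟨x, rfl⟩ := e.surjective y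
  rw [← map_pCore_equiv e] at hy ⊢
  refine mem_map_of_mem e.toMonoidHom (h fun z hz => e.injective ?_)
  simpa using hy (e z) (mem_map_of_mem e.toMonoidHom hz)

theorem isPGroup_of_forall_coprime_eq_one [Finite G] [Fact p.Prime] {K : Subgroup G}
    (h : ∀ x ∈ K, (orderOf x).Coprime p → x = 1) : IsPGroup p K := by
  rw [isPGroup_subgroup_iff]
  intro g hg
  obtain ⟨a, b, -, hb, hk, hb', rfl⟩ := exists_p_part_mul_p'_part (p := p) g
  rwa [h b (zpowers_le.2 hg hb) hb', mul_one]

/-- A group has characteristic `p` iff no nontrivial `p'`-element centralizes `O_p(G)`. -/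
theorem charP_of_forall_coprime [Finite G] [Fact p.Prime]
    (h : ∀ x ∈ centralizer (pCore p G : Set G), (orderOf x).Coprime p → x = 1) :
    centralizer (pCore p G : Set G) ≤ pCore p G :=
  le_pCore inferInstance (isPGroup_of_forall_coprime_eq_one h)

theorem eq_one_of_mem_isPGroup_of_coprime {P : Subgroup G} (hP : IsPGroup p P) {x : G}
    (hx : x ∈ P) (h : (orderOf x).Coprime p) : x = 1 :=
  let ⟨_, hk⟩ := (isPGroup_subgroup_iff P).1 hP x hx
  eq_one_of_pow_eq_one_of_coprime hk h

theorem pCore_subgroupOf_le (L : Subgroup G) : (pCore p G).subgroupOf L ≤ pCore p L :=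
  comap_pCore_le_of_injective L.subtype L.subtype_injective

theorem subgroupOf_le_pCore {P L : Subgroup G} (hP : IsPGroup p P)
    (hL : L ≤ normalizer (P : Set G)) : P.subgroupOf L ≤ pCore p L :=
  le_pCore (normal_subgroupOf_of_le_normalizer hL) hP.comap_subtype

/-- Overgroups of `O_p(G)` in a group of characteristic `p` have characteristic `p`. -/
theorem charP_of_pCore_le (h : centralizer (pCore p G : Set G) ≤ pCore p G) {L : Subgroup G}
    (hL : pCore p G ≤ L) : centralizer (pCore p L : Set L) ≤ pCore p L := by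
  intro x hx
  refine pCore_subgroupOf_le L (h fun z hz => ?_)
  exact congrArg Subtype.val (hx ⟨z, hL hz⟩ (pCore_subgroupOf_le L hz))

/-- If `x` has order prime to `p`, `⁅q, x⁆` is a `p`-element commuting with `x`, then `q` and
`x` commute. -/
theorem commutator_eq_one_of_coprime {q x : G} (hx : (orderOf x).Coprime p) {k : ℕ}
    (hc : ⁅q, x⁆ ^ p ^ k = 1) (hcx : Commute ⁅q, x⁆ x) : ⁅q, x⁆ = 1 := by
  have h1 : q * x * q⁻¹ = ⁅q, x⁆ * x := by rw [commutatorElement_def]; group
  have h2 : (⁅q, x⁆ * x) ^ orderOf x = 1 := by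
    rw [← h1, conj_pow, pow_orderOf_eq_one]; group
  rw [hcx.mul_pow, pow_orderOf_eq_one, mul_one] at h2
  exact eq_one_of_pow_of_coprime (hx.pow_right k) h2 hc

/-- Normal subgroups of groups of characteristic `p` have characteristic `p`. -/
theorem charP_of_normal [Finite G] [Fact p.Prime]
    (h : centralizer (pCore p G : Set G) ≤ pCore p G) (N : Subgroup G) [hN : N.Normal] :
    centralizer (pCore p N : Set N) ≤ pCore p N := by
  refine charP_of_forall_coprime fun x hx hx' => ?_
  have hx'' : (orderOf (x : G)).Coprime p := by simpa using hx'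
  refine Subtype.ext (eq_one_of_mem_isPGroup_of_coprime (pCore_isPGroup p G) (h ?_) hx'')
  intro q hq
  have h1 : ⁅q, (x : G)⁆ ∈ pCore p G := commutator_le_left _ ⊤ (commutator_mem_commutator hq trivial)
  have h2 : ⁅q, (x : G)⁆ ∈ N := commutator_le_right ⊤ _ (commutator_mem_commutator trivial x.2)
  obtain ⟨k, hk⟩ := (isPGroup_subgroup_iff _).1 (pCore_isPGroup p G) _ h1
  refine commutatorElement_eq_one_iff_mul_comm.1 (commutator_eq_one_of_coprime hx'' hk ?_)
  exact congrArg Subtype.val (hx ⟨_, h2⟩ (pCore_subgroupOf_le N h1))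

end CL.PL
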