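import Cfsg.Agent.PLocal.ZJFam

/-!
Glauberman's ZJ-theorem, simultaneously for the abelian Thompson subgroup and for the full centre
of the elementary abelian Thompson subgroup.
-/

set_option autoImplicit false

namespace CL.ZJ

open Subgroup Cfsg
open scoped commutatorElement

variable {G : Type*} [Group G]

/-- Weak form of `p`-stability: an abelian `p`-subgroup acting quadratically on a normal
`p`-subgroup `B` lies in a normal subgroup which is a `p`-group modulo `C_G(B)`. -/
def Stab (p : ℕ) (G : Type*) [Group G] : Prop :=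
  ∀ B A : Subgroup G, B.Normal → IsPGroup p B → IsPGroup p A → IsMulCommutative A →
    ⁅⁅B, A⁆, A⁆ = ⊥ →
      ∃ K : Subgroup G, K.Normal ∧ A ≤ K ∧ ∀ k ∈ K, ∃ n : ℕ, k ^ p ^ n ∈ centralizer (B : Set G)

theorem relIndex_dvd_index_of_normal_right [Finite G] (H K : Subgroup G) [K.Normal] :
    H.relIndex K ∣ H.index := by
  have h1 := ReplHyp.card_sup_mul_card_inf (H := H) (K := K) le_normalizer_of_normal
  have h2 := (H.subgroupOf (H ⊔ K)).card_mul_index
  have h3 := (H.subgroupOf K).card_mul_index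
  rw [Nat.card_congr (subgroupOfEquivOfLe le_sup_left).toEquiv] at h2
  rw [← inf_subgroupOf_right, Nat.card_congr (subgroupOfEquivOfLe inf_le_right).toEquiv,
    inf_subgroupOf_right] at h3
  have : H.relIndex K = H.relIndex (H ⊔ K) := by
    rw [← h2, ← h3] at h1
    have hpos : 0 < Nat.card H * Nat.card ↥(H ⊓ K) := Nat.mul_pos Nat.card_pos Nat.card_pos
    apply Nat.eq_of_mul_eq_mul_left hpos
    rw [relIndex, relIndex]
    linarith
  rw [this]
  exact relIndex_dvd_index_of_le le_sup_left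

/-- Frattini argument for `S ⊓ K`. -/
theorem normalizer_sylow_inf_sup [Finite G] {p : ℕ} [Fact p.Prime] (S : Sylow p G)
    (K : Subgroup G) [K.Normal] :
    normalizer (((S : Subgroup G) ⊓ K : Subgroup G) : Set G) ⊔ K = ⊤ := by
  have h1 : IsPGroup p ((S : Subgroup G).subgroupOf K) := S.isPGroup'.comap_subtype
  have h2 : ¬ p ∣ ((S : Subgroup G).subgroupOf K).index := fun h =>
    S.not_dvd_index (h.trans (relIndex_dvd_index_of_normal_right _ K))
  have := Sylow.normalizer_sup_eq_top (h1.toSylow h2)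
  rwa [IsPGroup.toSylow_coe, subgroupOf_map_subtype] at this

theorem le_sylow_sup_of_pow_mem [Finite G] {p : ℕ} [Fact p.Prime] (S : Sylow p G)
    (K C : Subgroup G) [K.Normal] [C.Normal] (h : ∀ k ∈ K, ∃ n : ℕ, k ^ p ^ n ∈ C) :
    K ≤ (S : Subgroup G) ⊔ C := by
  have hsurj := QuotientGroup.mk'_surjective C
  have : (K.map (QuotientGroup.mk' C)).Normal := Normal.map inferInstance _ hsurj
  have hK : IsPGroup p (K.map (QuotientGroup.mk' C)) := by
    rintro ⟨_, k, hk, rfl⟩
    obtain ⟨n, hn⟩ := h k hk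
    refine ⟨n, Subtype.ext ?_⟩
    show (QuotientGroup.mk' C k) ^ p ^ n = 1
    rw [← map_pow]
    exact (QuotientGroup.eq_one_iff _).mpr hn
  have := hK.le_sylow_of_normal (S.mapSurjective hsurj)
  rw [map_le_iff_le_comap] at this
  refine this.trans (le_of_eq ?_)
  show ((S : Subgroup G).map _).comap _ = _
  rw [comap_map_eq, QuotientGroup.ker_mk']

theorem le_normalCore_of_sup_eq_top {M X N K : Subgroup G} [K.Normal] (hNK : N ⊔ K = ⊤)
    (hK : ∀ k ∈ K, ∀ m ∈ M, k * m * k⁻¹ ∈ X) (hN : N ≤ normalizer (X : Set G)) :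
    M ≤ X.normalCore := by
  intro m hm g
  have hg : g ∈ ((N ⊔ K : Subgroup G) : Set G) := by rw [hNK]; trivial
  rw [mul_normal] at hg
  obtain ⟨n, hn, k, hk, rfl⟩ := hg
  have := (mem_normalizer_iff.mp (hN hn) _).mp (hK k hk m hm)
  convert this using 1
  group

theorem mul_pow_eq_of_class_two {B : Subgroup G} (hB : ⁅⁅B, B⁆, B⁆ = ⊥) {x y : G} (hx : x ∈ B)
    (hy : y ∈ B) {q : ℕ} (hq : Odd q) (hc : Commute (y ^ q) x) : (x * y) ^ q = x ^ q * y ^ q := by
  rw [commutator_eq_bot_iff_le_centralizer] at hB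
  have hcm := hB (commutator_mem_commutator (inv_mem hy) (inv_mem hx))
  set c := ⁅y⁻¹, x⁻¹⁆ with hcdef
  have h : y * x = x * y * c := by rw [hcdef, commutatorElement_def]; group
  have hcx : Commute c x := (hcm x hx).symm
  have hcy : Commute c y := (hcm y hy).symm
  have h1 : ∀ k : ℕ, y ^ k * x = x * y ^ k * c ^ k := by
    intro k
    induction k with
    | zero => simp
    | succ k ih =>
      calc y ^ (k + 1) * x = y ^ k * (y * x) := by rw [pow_succ, mul_assoc]
        _ = (y ^ k * x) * y * c := by rw [h]; simp only [mul_assoc]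
        _ = x * y ^ k * (c ^ k * y) * c := by rw [ih]; simp only [mul_assoc]
        _ = x * y ^ (k + 1) * c ^ (k + 1) := by
          rw [(hcy.pow_left k).eq, pow_succ, pow_succ]; simp only [mul_assoc]
  have h2 : c ^ q = 1 := by
    have := h1 q
    rw [hc.eq] at this
    exact (mul_eq_left.mp this.symm)
  rw [mul_pow_of_central h hcx hcy]
  obtain ⟨k, rfl⟩ := hq
  have : (2 * k + 1).choose 2 = (2 * k + 1) * k := by
    rw [Nat.choose_two_right, Nat.add_sub_cancel, ← mul_assoc, mul_comm _ 2, mul_assoc,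
      Nat.mul_div_cancel_left _ two_pos]
  rw [this, pow_mul, h2, one_pow, mul_one]

/-- Elements of `B` killed by `q`, in a group of class at most two, `q` zero or odd. -/
def omegaIn (B : Subgroup G) (hB : ⁅⁅B, B⁆, B⁆ = ⊥) (q : ℕ) (hq : q = 0 ∨ Odd q) : Subgroup G where
  carrier := {x | x ∈ B ∧ x ^ q = 1}
  one_mem' := ⟨one_mem _, one_pow q⟩
  mul_mem' := by
    rintro x y ⟨hx, hxq⟩ ⟨hy, hyq⟩
    refine ⟨mul_mem hx hy, ?_⟩
    rcases hq with rfl | hq
    · exact pow_zero _
    · rw [mul_pow_eq_of_class_two hB hx hy hq (by rw [hyq]; exact Commute.one_left x), hxq, hyq,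
        one_mul]
  inv_mem' := by
    rintro x ⟨hx, hxq⟩
    exact ⟨inv_mem hx, by rw [inv_pow, hxq, inv_one]⟩

theorem mem_omegaIn {B : Subgroup G} {hB : ⁅⁅B, B⁆, B⁆ = ⊥} {q : ℕ} {hq : q = 0 ∨ Odd q} {x : G} :
    x ∈ omegaIn B hB q hq ↔ x ∈ B ∧ x ^ q = 1 := Iff.rfl

theorem omegaIn_normal {B : Subgroup G} [hn : B.Normal] (hB : ⁅⁅B, B⁆, B⁆ = ⊥) (q : ℕ)
    (hq : q = 0 ∨ Odd q) : (omegaIn B hB q hq).Normal :=
  ⟨fun x hx g => ⟨hn.conj_mem x hx.1 g, by rw [conj_pow, hx.2]; group⟩⟩

theorem commutator_lt_of_isPGroup [Finite G] {p : ℕ} [Fact p.Prime] {B : Subgroup G}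
    (hB : IsPGroup p B) (h : B ≠ ⊥) : ⁅B, B⁆ < B := by
  have := hB.isNilpotent
  have : Nontrivial B := (nontrivial_iff_ne_bot B).mpr h
  have h1 := Group.IsSolvable.commutator_lt_top_of_nontrivial B
  rw [← map_subtype_commutator]
  conv_rhs => rw [← map_top_subtype B]
  exact (map_lt_map_iff_of_injective B.subtype_injective).mpr h1

/-- Glauberman's theorem: `Z(J(S)) ∩ B` is normal for every normal `p`-subgroup `B`. -/
theorem Z_inf_normal [Finite G] {p : ℕ} [Fact p.Prime] (hp : p ≠ 2) {e : ℕ} (he : e = 0 ∨ e = p)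
    (hst : Stab p G) (S : Sylow p G) (B : Subgroup G) (hBn : B.Normal) (hB : IsPGroup p B) :
    (Z e (S : Subgroup G) ⊓ B).Normal := by
  have hodd : Odd p := (Fact.out : p.Prime).odd_of_ne_two hp
  have he' : e = 0 ∨ Odd e := he.imp id fun (h : e = p) => h ▸ hodd
  induction B using WellFoundedLT.induction with
  | ind B ih =>
  by_contra hM
  set M := Z e (S : Subgroup G) ⊓ B with hMdef
  have hBS : B ≤ S := hB.le_sylow_of_normal S
  have hSZ : (S : Subgroup G) ≤ normalizer (Z e (S : Subgroup G) : Set G) :=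
    le_normalizer.trans normalizer_le_normalizer_ZJ
  have hNM : normalizer (Z e (S : Subgroup G) : Set G) ≤ normalizer (M : Set G) :=
    (le_inf le_rfl le_normalizer_of_normal).trans inf_normalizer_le_normalizer_inf
  have ih' : ∀ X : Subgroup G, X.Normal → X < B → (Z e (S : Subgroup G) ⊓ X).Normal :=
    fun X hX hlt => ih X hlt hX (hB.to_le hlt.le)
  have hgen : ∀ X : Subgroup G, X.Normal → M ≤ X → B ≤ X := by
    intro X hX hMX
    by_contra hnot
    have hlt : B ⊓ X < B := inf_lt_left.mpr hnot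
    have := ih' _ inferInstance hlt
    rw [← inf_assoc, ← hMdef, inf_eq_left.mpr hMX] at this
    exact hM this
  have hB0 : B ≠ ⊥ := by
    rintro rfl
    rw [hMdef, inf_bot_eq] at hM
    exact hM inferInstance
  -- (a) the derived subgroup of `B` lies in `Z`
  have hderZ : ⁅B, B⁆ ≤ Z e (S : Subgroup G) := by
    have hN₁ := ih' _ inferInstance (commutator_lt_of_isPGroup hB hB0)
    set N₁ := Z e (S : Subgroup G) ⊓ ⁅B, B⁆ with hN₁def
    have : (B.map (QuotientGroup.mk' N₁)).Normal :=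
      Normal.map inferInstance _ (QuotientGroup.mk'_surjective N₁)
    have hX : ∀ x, x ∈ (centralizer (B.map (QuotientGroup.mk' N₁) : Set (G ⧸ N₁))).comap
        (QuotientGroup.mk' N₁) ↔ ∀ b ∈ B, ⁅x, b⁆ ∈ N₁ := by
      intro x
      rw [mem_comap, mem_centralizer_iff_commutator_eq_one']
      constructor
      · intro h b hb
        have := h _ (mem_map_of_mem _ hb)
        rw [← map_commutatorElement] at this
        exact (QuotientGroup.eq_one_iff _).mp this
      · rintro h _ ⟨b, hb, rfl⟩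
        rw [← map_commutatorElement]
        exact (QuotientGroup.eq_one_iff _).mpr (h b hb)
    have := hgen _ (inferInstance : ((centralizer (B.map (QuotientGroup.mk' N₁) :
        Set (G ⧸ N₁))).comap (QuotientGroup.mk' N₁)).Normal) (fun m hm => (hX m).mpr fun b hb =>
      ⟨le_normalizer_iff_commutator_le_left.mp hSZ (commutator_mem_commutator hm.1 (hBS hb)),
        commutator_mem_commutator hm.2 hb⟩)
    exact commutator_le.mpr fun x hx b hb => ((hX x).mp (this hx) b hb).1
  have hcl : ⁅⁅B, B⁆, B⁆ = ⊥ := by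
    rw [commutator_eq_bot_iff_le_centralizer, le_centralizer_iff]
    exact hgen _ inferInstance fun m hm d hd => comm_of_mem ZJ_comm (hderZ hd) hm.1
  -- (b) `B = M E`
  have hEn := omegaIn_normal hcl e he'
  set E := omegaIn B hcl e he' with hEdef
  have hEB : E ≤ B := fun _ hx => hx.1
  have hBME : B ≤ M ⊔ E := by
    rcases he with rfl | rfl
    · exact fun x hx => mem_sup_right ⟨hx, pow_zero x⟩
    have hex : ∃ n : ℕ, ∀ x ∈ B, x ^ e ^ n = 1 := by
      obtain ⟨n, hn⟩ := isPGroup_iff_exists_pow_pow_eq_one.mp hB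
      exact ⟨n, fun x hx => congrArg Subtype.val (hn ⟨x, hx⟩)⟩
    classical
    have hn := Nat.find_spec hex
    obtain ⟨n, hn'⟩ : ∃ n, Nat.find hex = n + 1 := by
      refine Nat.exists_eq_succ_of_ne_zero fun h0 => hB0 ?_
      rw [h0] at hn
      exact eq_bot_iff.mpr fun x hx => by simpa using hn x hx
    have hn1 := Nat.find_min hex (show n < Nat.find hex by omega)
    rw [hn'] at hn
    have hYn := omegaIn_normal hcl (e ^ n) (Or.inr hodd.pow)
    set Y := omegaIn B hcl (e ^ n) (Or.inr hodd.pow) with hYdef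
    have hYlt : Y < B := lt_of_le_of_ne (fun _ hx => hx.1) fun h =>
      hn1 fun x hx => (show x ∈ Y from h ▸ hx).2
    have hY₀ := ih' Y hYn hYlt
    set K := centralizer ((Z e (S : Subgroup G) ⊓ Y : Subgroup G) : Set G) with hKdef
    have hJK : J e (S : Subgroup G) ≤ K :=
      le_centralizer_iff.mp (inf_le_left.trans ZJ_le_centralizer)
    have hBK : B ≤ K := hgen _ inferInstance (inf_le_left.trans (ZJ_le_J.trans hJK))
    have hZT : Z e ((S : Subgroup G) ⊓ K) = Z e (S : Subgroup G) :=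
      ZJ_eq_of_J_le (le_inf J_le hJK) inf_le_left
    refine (hgen _ inferInstance (le_normalCore_of_sup_eq_top (normalizer_sylow_inf_sup S K)
      ?_ ?_)).trans (normalCore_le _)
    · intro k hk m hm
      have hmp : m ^ e ∈ Z e (S : Subgroup G) ⊓ Y :=
        ⟨pow_mem hm.1 e, pow_mem hm.2 e, by rw [← pow_mul, ← pow_succ', hn m hm.2]⟩
      have hu : k * m * k⁻¹ ∈ B := hBn.conj_mem m hm.2 k
      have hup : (k * m * k⁻¹) ^ e = m ^ e := by
        rw [conj_pow, ← hk _ hmp]; group
      have hc : Commute ((k * m * k⁻¹) ^ e) m⁻¹ := by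
        rw [hup]; exact ((Commute.refl m).pow_left e).inv_right
      have h1 : m⁻¹ * (k * m * k⁻¹) ∈ E := ⟨mul_mem (inv_mem hm.2) hu, by
        rw [mul_pow_eq_of_class_two hcl (inv_mem hm.2) hu hodd hc, hup, inv_pow, inv_mul_cancel]⟩
      have := mul_mem (mem_sup_left (T := E) hm) (mem_sup_right (S := M) h1)
      simpa using this
    · refine le_trans ?_ normalizer_le_normalizer_sup_normal
      exact (normalizer_le_normalizer_ZJ (e := e)).trans (hZT ▸ hNM)
  -- (c) replacement
  have hEE : ∀ A ∈ fam e (S : Subgroup G), ⁅E, E⁆ ≤ A := by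
    intro A hA x hx
    exact mem_sInf.mp (mem_sInf_fam_iff.mpr ⟨hderZ (commutator_mono hEB hEB hx),
      (commutator_le_self E hx).2⟩) A hA
  obtain ⟨U, hU, hEU⟩ : ∃ U ∈ fam e (S : Subgroup G), ¬ E ≤ U := by
    by_contra hcon
    push Not at hcon
    have hEZ : E ≤ Z e (S : Subgroup G) := fun x hx =>
      (mem_sInf_fam_iff.mp (mem_sInf.mpr fun A hA => hcon A hA hx)).1
    have : M = B := le_antisymm inf_le_right
      (le_inf (hBME.trans (sup_le inf_le_left hEZ)) le_rfl)
    exact hM (this ▸ hBn)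
  obtain ⟨A, hA, -, hEA, hEN⟩ := exists_mem_fam_le_normalizer S.isPGroup' he' le_rfl le_normalizer
    (hEB.trans hBS) le_normalizer_of_normal (fun h => absurd h hp) hU (hEE U hU) hEU
  have hBN : B ≤ normalizer (A : Set G) := hBME.trans (sup_le
    ((inf_le_left.trans (ZJ_le_centralizer_of_mem hA)).trans (centralizer_le_normalizer _)) hEN)
  have hq : ⁅⁅B, A⁆, A⁆ = ⊥ := by
    rw [commutator_eq_bot_iff_le_centralizer]
    exact (le_normalizer_iff_commutator_le_right.mp hBN).trans
      (le_centralizer_iff_isMulCommutative.mpr hA.2.1)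
  obtain ⟨K, hKn, hAK, hK⟩ := hst B A hBn hB (S.isPGroup'.to_le hA.1) hA.2.1 hq
  have hKM : K ≤ normalizer (M : Set G) :=
    (le_sylow_sup_of_pow_mem S K _ hK).trans (sup_le (hSZ.trans hNM)
      ((centralizer_le (by exact (inf_le_right : M ≤ B))).trans (centralizer_le_normalizer _)))
  have hAT : A ≤ (S : Subgroup G) ⊓ K := le_inf hA.1 hAK
  have hMX : M ≤ centralizer (J e ((S : Subgroup G) ⊓ K) : Set G) :=
    (inf_le_left.trans ZJ_le_centralizer).trans
      (centralizer_le (by exact J_le_J_of_le hA hAT inf_le_left))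
  have hBX := (hgen _ inferInstance (le_normalCore_of_sup_eq_top (normalizer_sylow_inf_sup S K)
    (fun k hk m hm => hMX ((mem_normalizer_iff.mp (hKM hk) m).mp hm))
    (normalizer_le_normalizer_J.trans (normalizer_le_normalizer_centralizer _)))).trans
      (normalCore_le _)
  refine hEA fun x hx => mem_of_mem_centralizer hA (hBS hx.1) ?_ hx.2
  exact centralizer_le (by exact le_J (mem_fam_of_le hA hAT inf_le_left)) (hBX hx.1)

theorem isPGroup_pCore [Finite G] (p : ℕ) : IsPGroup p (pCore p G) :=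
  Sylow.sSup_of_normal _ (fun _ h => h.2) (fun _ h => h.1)

theorem le_pCore {p : ℕ} {N : Subgroup G} (hN : N.Normal) (h : IsPGroup p N) : N ≤ pCore p G :=
  le_sSup ⟨hN, h⟩

/-- An abelian subgroup normalized by `O_p(G)` lies in `O_p(G)`. -/
theorem le_pCore_of_stab [Finite G] {p : ℕ} (hst : Stab p G)
    (hc : centralizer (pCore p G : Set G) ≤ pCore p G) {A : Subgroup G} (hA : IsPGroup p A)
    (hAc : IsMulCommutative A) (hN : pCore p G ≤ normalizer (A : Set G)) : A ≤ pCore p G := by
  have hq : ⁅⁅pCore p G, A⁆, A⁆ = ⊥ := by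
    rw [commutator_eq_bot_iff_le_centralizer]
    exact (le_normalizer_iff_commutator_le_right.mp hN).trans
      (le_centralizer_iff_isMulCommutative.mpr hAc)
  obtain ⟨K, hKn, hAK, hK⟩ := hst _ A inferInstance (isPGroup_pCore p) hA hAc hq
  refine hAK.trans (le_pCore hKn ?_)
  rintro ⟨k, hk⟩
  obtain ⟨n, hn⟩ := hK k hk
  obtain ⟨m, hm⟩ := isPGroup_pCore p ⟨_, hc hn⟩
  refine ⟨n + m, Subtype.ext ?_⟩
  have := congrArg Subtype.val hm
  simpa [pow_add, pow_mul] using this

/-- The ZJ-theorem. -/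
theorem Z_normal [Finite G] {p : ℕ} [Fact p.Prime] (hp : p ≠ 2) {e : ℕ} (he : e = 0 ∨ e = p)
    (hst : Stab p G) (hc : centralizer (pCore p G : Set G) ≤ pCore p G) (S : Sylow p G) :
    (Z e (S : Subgroup G)).Normal := by
  have h1 := Z_inf_normal hp he hst S (pCore p G) inferInstance (isPGroup_pCore p)
  have h2 : Z e (S : Subgroup G) ≤ pCore p G :=
    le_pCore_of_stab hst hc (S.isPGroup'.to_le ZJ_le) ZJ_comm
      (((isPGroup_pCore p).le_sylow_of_normal S).trans
        (le_normalizer.trans normalizer_le_normalizer_ZJ))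
  rwa [inf_eq_left.mpr h2] at h1

theorem Z_characteristic_of_normal [Finite G] {p : ℕ} [Fact p.Prime] {e : ℕ} (S : Sylow p G)
    (h : (Z e (S : Subgroup G)).Normal) : (Z e (S : Subgroup G)).Characteristic := by
  refine characteristic_iff_map_eq.mpr fun φ => ?_
  rw [← ZJ_map (f := φ.toMonoidHom) φ.injective]
  obtain ⟨g, hg⟩ := MulAction.exists_smul_eq G S ((show MulAut G from φ) • S)
  have h1 : (S : Subgroup G).map φ.toMonoidHom = (S : Subgroup G).map (MulAut.conj g : G →* G) :=
    (congrArg Sylow.toSubgroup hg).symm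
  rw [h1, ZJ_map (f := (MulAut.conj g : G →* G)) (MulAut.conj g).injective,
    ← mem_normalizer_iff_map_conj_eq, normalizer_eq_top]
  trivial

theorem stab_of_isPStableOn [Finite G] {p : ℕ}
    (hst : ∀ (P : Subgroup G) [P.Normal], IsPGroup p P → IsPStableOn p P) : Stab p G := by
  intro B A hBn hB _ _ hq
  refine ⟨(pCore p (G ⧸ centralizer (B : Set G))).comap (QuotientGroup.mk' _), inferInstance,
    fun a ha => hst B hB a ?_, fun k hk => ?_⟩
  · rw [eq_bot_iff, ← hq]
    exact commutator_mono (commutator_mono le_rfl (zpowers_le.mpr ha)) (zpowers_le.mpr ha)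
  · obtain ⟨n, hn⟩ := isPGroup_pCore p ⟨_, hk⟩
    refine ⟨n, (QuotientGroup.eq_one_iff _).mp ?_⟩
    simpa using congrArg Subtype.val hn

theorem centerThompsonAOf_normal [Finite G] {p : ℕ} [Fact p.Prime] (hp : p ≠ 2) (hst : Stab p G)
    (hc : centralizer (pCore p G : Set G) ≤ pCore p G) (S : Sylow p G) :
    (centerThompsonAOf (S : Subgroup G)).Normal :=
  ZJ_zero_eq_centerThompsonAOf (S : Subgroup G) ▸ Z_normal hp (Or.inl rfl) hst hc S

theorem centerThompsonOf_normal [Finite G] {p : ℕ} [Fact p.Prime] (hp : p ≠ 2) (hst : Stab p G)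
    (hc : centralizer (pCore p G : Set G) ≤ pCore p G) (S : Sylow p G) :
    (centerThompsonOf p (S : Subgroup G)).Normal :=
  ZJ_eq_centerThompsonOf p (S : Subgroup G) ▸ Z_normal hp (Or.inr rfl) hst hc S

end CL.ZJ
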