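import Cfsg.Agent.Base

/-!
Elementwise descriptions of `p`-groups / `p'`-groups modulo a normal subgroup and the basic
behaviour of `O_p`, `O_{p'}` under homomorphisms (namespace `CL.PL`).
-/

set_option autoImplicit false

open Cfsg

namespace CL.PL

variable {G : Type*} [Group G] {H : Type*} [Group H] {p : ℕ}

/-! ### `p'`-groups elementwise -/

theorem coprime_card_iff [Finite G] [hp : Fact p.Prime] :
    (Nat.card G).Coprime p ↔ ∀ g : G, (orderOf g).Coprime p := by
  constructor
  · intro h g
    exact Nat.Coprime.coprime_dvd_left (orderOf_dvd_natCard g) h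
  · intro h
    rw [Nat.coprime_comm, hp.out.coprime_iff_not_dvd]
    intro hd
    obtain ⟨g, hg⟩ := exists_prime_orderOf_dvd_card' p hd
    have := h g
    rw [hg, Nat.coprime_self] at this
    exact hp.out.one_lt.ne' this

theorem coprime_card_subgroup_iff [Finite G] [Fact p.Prime] (K : Subgroup G) :
    (Nat.card K).Coprime p ↔ ∀ g ∈ K, (orderOf g).Coprime p := by
  rw [coprime_card_iff]
  constructor
  · intro h g hg
    simpa using h ⟨g, hg⟩
  · rintro h ⟨g, hg⟩
    simpa using h g hg

theorem orderOf_coprime_iff {g : G} :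
    (orderOf g).Coprime p ↔ ∃ m : ℕ, m.Coprime p ∧ g ^ m = 1 := by
  constructor
  · intro h
    exact ⟨orderOf g, h, pow_orderOf_eq_one g⟩
  · rintro ⟨m, hm, h⟩
    exact Nat.Coprime.coprime_dvd_left (orderOf_dvd_of_pow_eq_one h) hm

theorem isPGroup_subgroup_iff (K : Subgroup G) :
    IsPGroup p K ↔ ∀ g ∈ K, ∃ k : ℕ, g ^ p ^ k = 1 := by
  constructor
  · intro h g hg
    obtain ⟨k, hk⟩ := h ⟨g, hg⟩
    exact ⟨k, by simpa using congrArg Subtype.val hk⟩
  · rintro h ⟨g, hg⟩
    obtain ⟨k, hk⟩ := h g hg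
    exact ⟨k, Subtype.ext (by simpa using hk)⟩

/-- An element that is both a `p`-element and a `p'`-element modulo a subgroup lies in it. -/
theorem mem_of_pow_mem_of_coprime {K : Subgroup G} {g : G} {m n : ℕ} (hmn : m.Coprime n)
    (hm : g ^ m ∈ K) (hn : g ^ n ∈ K) : g ∈ K := by
  have h1 : ((m : ℤ) * m.gcdA n + n * m.gcdB n) = 1 := by
    rw [← Nat.gcd_eq_gcd_ab, hmn.gcd_eq_one]; rfl
  have : g = (g ^ m) ^ (m.gcdA n) * (g ^ n) ^ (m.gcdB n) := by
    rw [← zpow_natCast, ← zpow_natCast, ← zpow_mul, ← zpow_mul, ← zpow_add, h1, zpow_one]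
  rw [this]
  exact K.mul_mem (K.zpow_mem hm _) (K.zpow_mem hn _)

theorem eq_one_of_pow_of_coprime {g : G} {m n : ℕ} (hmn : m.Coprime n)
    (hm : g ^ m = 1) (hn : g ^ n = 1) : g = 1 := by
  have := mem_of_pow_mem_of_coprime (K := ⊥) hmn (by simpa using hm) (by simpa using hn)
  simpa using this

theorem inf_eq_bot_of_isPGroup_of_coprime {A B : Subgroup G} (hA : IsPGroup p A)
    (hB : (Nat.card B).Coprime p) : A ⊓ B = ⊥ := by
  rw [eq_bot_iff]
  rintro x ⟨hxA, hxB⟩
  obtain ⟨k, hk⟩ := (isPGroup_subgroup_iff A).1 hA x hxA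
  have h2 : x ^ Nat.card B = 1 := by
    exact congrArg Subtype.val (pow_card_eq_one' (G := B) (x := ⟨x, hxB⟩))
  exact Subgroup.mem_bot.2 (eq_one_of_pow_of_coprime (hB.pow_right k) h2 hk)

theorem relIndex_eq_pow_iff [Finite G] [Fact p.Prime] (K M : Subgroup G) [K.Normal] :
    (∃ m : ℕ, K.relIndex M = p ^ m) ↔ ∀ x ∈ M, ∃ k : ℕ, x ^ p ^ k ∈ K := by
  have h1 : K.relIndex M = Nat.card (M.map (QuotientGroup.mk' K)) := by
    rw [← Subgroup.relIndex_ker, QuotientGroup.ker_mk']
  rw [h1, ← IsPGroup.iff_card, isPGroup_subgroup_iff]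
  constructor
  · intro h x hx
    obtain ⟨k, hk⟩ := h _ (Subgroup.mem_map_of_mem _ hx)
    refine ⟨k, ?_⟩
    rwa [← map_pow, QuotientGroup.mk'_apply, QuotientGroup.eq_one_iff] at hk
  · rintro h _ ⟨x, hx, rfl⟩
    obtain ⟨k, hk⟩ := h x hx
    exact ⟨k, by rwa [← map_pow, QuotientGroup.mk'_apply, QuotientGroup.eq_one_iff]⟩

theorem relIndex_coprime_iff [Finite G] [Fact p.Prime] (K M : Subgroup G) [K.Normal] :
    (K.relIndex M).Coprime p ↔ ∀ x ∈ M, ∃ m : ℕ, m.Coprime p ∧ x ^ m ∈ K := by
  have h1 : K.relIndex M = Nat.card (M.map (QuotientGroup.mk' K)) := by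
    rw [← Subgroup.relIndex_ker, QuotientGroup.ker_mk']
  rw [h1, coprime_card_subgroup_iff]
  constructor
  · intro h x hx
    obtain ⟨m, hm, hk⟩ := orderOf_coprime_iff.1
      (h _ (Subgroup.mem_map_of_mem (QuotientGroup.mk' K) hx))
    refine ⟨m, hm, ?_⟩
    rwa [← map_pow, QuotientGroup.mk'_apply, QuotientGroup.eq_one_iff] at hk
  · rintro h _ ⟨x, hx, rfl⟩
    obtain ⟨m, hm, hk⟩ := h x hx
    exact orderOf_coprime_iff.2
      ⟨m, hm, by rwa [← map_pow, QuotientGroup.mk'_apply, QuotientGroup.eq_one_iff]⟩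

theorem coprime_card_subgroup_iff' [Finite G] [Fact p.Prime] (K : Subgroup G) :
    (Nat.card K).Coprime p ↔ ∀ g ∈ K, ∃ m : ℕ, m.Coprime p ∧ g ^ m = 1 := by
  rw [coprime_card_subgroup_iff]
  exact forall₂_congr fun g _ => orderOf_coprime_iff

theorem coprime_card_of_le {A B : Subgroup G} (h : A ≤ B) {n : ℕ} (hB : (Nat.card B).Coprime n) :
    (Nat.card A).Coprime n :=
  Nat.Coprime.coprime_dvd_left (Subgroup.card_dvd_of_le h) hB

theorem coprime_card_map {A : Subgroup G} (f : G →* H) {n : ℕ} (hA : (Nat.card A).Coprime n) :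
    (Nat.card (A.map f)).Coprime n :=
  Nat.Coprime.coprime_dvd_left (Subgroup.card_map_dvd A f) hA

theorem card_comap_dvd (f : G →* H) (B : Subgroup H) :
    Nat.card (B.comap f) ∣ Nat.card f.ker * Nat.card B := by
  have h1 : f.ker ≤ B.comap f := Subgroup.ker_le_comap f B
  have h2 : Nat.card (B.comap f) = Nat.card f.ker * f.ker.relIndex (B.comap f) := by
    rw [Subgroup.relIndex, ← Subgroup.card_mul_index (f.ker.subgroupOf (B.comap f)),
      Nat.card_congr (Subgroup.subgroupOfEquivOfLe h1).toEquiv]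
  rw [h2, Subgroup.relIndex_ker]
  exact mul_dvd_mul_left _ (Subgroup.card_dvd_of_le (Subgroup.map_comap_le f B))

theorem coprime_card_comap {B : Subgroup H} (f : G →* H) {n : ℕ} (hB : (Nat.card B).Coprime n)
    (hf : (Nat.card f.ker).Coprime n) : (Nat.card (B.comap f)).Coprime n :=
  Nat.Coprime.coprime_dvd_left (card_comap_dvd f B) (Nat.Coprime.mul_left hf hB)

theorem coprime_card_sup_of_normal {A B : Subgroup G} [B.Normal] {n : ℕ}
    (hA : (Nat.card A).Coprime n) (hB : (Nat.card B).Coprime n) :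
    (Nat.card (A ⊔ B : Subgroup G)).Coprime n := by
  have : A ⊔ B = (A.map (QuotientGroup.mk' B)).comap (QuotientGroup.mk' B) := by
    rw [Subgroup.comap_map_eq, QuotientGroup.ker_mk']
  rw [this]
  exact coprime_card_comap _ (coprime_card_map _ hA) (by rwa [QuotientGroup.ker_mk'])

/-! ### The cores -/

theorem pCore_isPGroup (p : ℕ) (G : Type*) [Group G] : IsPGroup p (pCore p G) :=
  Sylow.sSup_of_normal _ (fun _ h => h.2) (fun _ h => h.1)

theorem le_pCore {N : Subgroup G} (hN : N.Normal) (h : IsPGroup p N) : N ≤ pCore p G :=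
  le_sSup ⟨hN, h⟩

theorem le_pPrimeCore {N : Subgroup G} (hN : N.Normal) (h : (Nat.card N).Coprime p) :
    N ≤ pPrimeCore p G :=
  le_sSup ⟨hN, h⟩

theorem pPrimeCore_coprime (p : ℕ) (G : Type*) [Group G] [Finite G] :
    (Nat.card (pPrimeCore p G)).Coprime p := by
  obtain ⟨M, hM⟩ : ∃ M, Maximal (fun N : Subgroup G => N.Normal ∧ (Nat.card N).Coprime p) M :=
    Set.Finite.exists_maximal (s := {N : Subgroup G | N.Normal ∧ (Nat.card N).Coprime p})
      (Set.toFinite _) ⟨⊥, inferInstance, by simp⟩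
  have hle : pPrimeCore p G ≤ M := by
    refine sSup_le ?_
    rintro N ⟨hN, hN'⟩
    have := hM.prop.1
    have := hM.le_of_ge (y := M ⊔ N) ⟨inferInstance, coprime_card_sup_of_normal hM.prop.2 hN'⟩
      le_sup_left
    exact le_sup_right.trans this
  exact coprime_card_of_le hle hM.prop.2

theorem pCore_le_sylow (S : Sylow p G) : pCore p G ≤ S :=
  (pCore_isPGroup p G).le_sylow_of_normal S

theorem pCore_inf_pPrimeCore [Finite G] : pCore p G ⊓ pPrimeCore p G = ⊥ :=
  inf_eq_bot_of_isPGroup_of_coprime (pCore_isPGroup p G) (pPrimeCore_coprime p G)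

theorem map_pCore_le (f : G →* H) (hf : Function.Surjective f) :
    (pCore p G).map f ≤ pCore p H :=
  le_pCore (Subgroup.Normal.map inferInstance f hf) ((pCore_isPGroup p G).map f)

theorem map_pPrimeCore_le [Finite G] (f : G →* H) (hf : Function.Surjective f) :
    (pPrimeCore p G).map f ≤ pPrimeCore p H :=
  le_pPrimeCore (Subgroup.Normal.map inferInstance f hf)
    (coprime_card_map f (pPrimeCore_coprime p G))

theorem comap_pCore_le (f : G →* H) (hf : IsPGroup p f.ker) :
    (pCore p H).comap f ≤ pCore p G :=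
  le_pCore inferInstance ((pCore_isPGroup p H).comap_of_ker_isPGroup f hf)

theorem comap_pCore_le_of_injective (f : G →* H) (hf : Function.Injective f) :
    (pCore p H).comap f ≤ pCore p G :=
  comap_pCore_le f (IsPGroup.ker_isPGroup_of_injective hf)

theorem comap_pPrimeCore_le [Finite H] (f : G →* H) (hf : (Nat.card f.ker).Coprime p) :
    (pPrimeCore p H).comap f ≤ pPrimeCore p G :=
  le_pPrimeCore inferInstance (coprime_card_comap f (pPrimeCore_coprime p H) hf)

theorem comap_pPrimeCore_le_of_injective [Finite H] (f : G →* H) (hf : Function.Injective f) :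
    (pPrimeCore p H).comap f ≤ pPrimeCore p G :=
  comap_pPrimeCore_le f (by rw [f.ker_eq_bot hf]; simp)

theorem map_pCore_eq (f : G →* H) (hf : Function.Surjective f) (hk : IsPGroup p f.ker) :
    (pCore p G).map f = pCore p H := by
  refine le_antisymm (map_pCore_le f hf) ?_
  rw [← Subgroup.map_comap_eq_self_of_surjective hf (pCore p H)]
  exact Subgroup.map_mono (comap_pCore_le f hk)

theorem comap_pCore_eq (f : G →* H) (hf : Function.Surjective f) (hk : IsPGroup p f.ker) :
    (pCore p H).comap f = pCore p G :=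
  le_antisymm (comap_pCore_le f hk) (Subgroup.map_le_iff_le_comap.1 (map_pCore_le f hf))

theorem map_pPrimeCore_eq [Finite G] (f : G →* H) (hf : Function.Surjective f)
    (hk : (Nat.card f.ker).Coprime p) : (pPrimeCore p G).map f = pPrimeCore p H := by
  have : Finite H := Finite.of_surjective f hf
  refine le_antisymm (map_pPrimeCore_le f hf) ?_
  rw [← Subgroup.map_comap_eq_self_of_surjective hf (pPrimeCore p H)]
  exact Subgroup.map_mono (comap_pPrimeCore_le f hk)

theorem comap_pPrimeCore_eq [Finite G] (f : G →* H) (hf : Function.Surjective f)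
    (hk : (Nat.card f.ker).Coprime p) : (pPrimeCore p H).comap f = pPrimeCore p G := by
  have : Finite H := Finite.of_surjective f hf
  exact le_antisymm (comap_pPrimeCore_le f hk)
    (Subgroup.map_le_iff_le_comap.1 (map_pPrimeCore_le f hf))

theorem map_pCore_equiv (e : G ≃* H) : (pCore p G).map e.toMonoidHom = pCore p H :=
  map_pCore_eq _ e.surjective (IsPGroup.ker_isPGroup_of_injective e.injective)

theorem map_pPrimeCore_equiv [Finite G] (e : G ≃* H) :
    (pPrimeCore p G).map e.toMonoidHom = pPrimeCore p H :=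
  map_pPrimeCore_eq _ e.surjective (by
    rw [MonoidHom.ker_eq_bot _ (by exact e.injective)]; simp)

theorem pCore_characteristic (p : ℕ) (G : Type*) [Group G] : (pCore p G).Characteristic :=
  Subgroup.characteristic_iff_map_eq.2 fun e => map_pCore_equiv e

theorem pPrimeCore_characteristic (p : ℕ) (G : Type*) [Group G] [Finite G] :
    (pPrimeCore p G).Characteristic :=
  Subgroup.characteristic_iff_map_eq.2 fun e => map_pPrimeCore_equiv e

theorem pCore_map_subtype_normal (N : Subgroup G) [N.Normal] :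
    ((pCore p N).map N.subtype).Normal :=
  haveI := pCore_characteristic p N
  ConjAct.normal_of_characteristic_of_normal

theorem pPrimeCore_map_subtype_normal [Finite G] (N : Subgroup G) [N.Normal] :
    ((pPrimeCore p N).map N.subtype).Normal :=
  haveI := pPrimeCore_characteristic p N
  ConjAct.normal_of_characteristic_of_normal

theorem pCore_map_subtype_le (N : Subgroup G) [N.Normal] :
    (pCore p N).map N.subtype ≤ pCore p G :=
  le_pCore (pCore_map_subtype_normal N) ((pCore_isPGroup p N).map _)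

theorem pPrimeCore_map_subtype_le [Finite G] (N : Subgroup G) [N.Normal] :
    (pPrimeCore p N).map N.subtype ≤ pPrimeCore p G :=
  le_pPrimeCore (pPrimeCore_map_subtype_normal N) (coprime_card_map _ (pPrimeCore_coprime p N))

theorem pCore_eq_bot_of_normal {N : Subgroup G} [N.Normal] (h : pCore p G = ⊥) :
    pCore p N = ⊥ := by
  have := pCore_map_subtype_le (p := p) N
  rw [h, le_bot_iff, Subgroup.map_eq_bot_iff_of_injective _ N.subtype_injective] at this
  exact this

theorem pPrimeCore_eq_bot_of_normal [Finite G] {N : Subgroup G} [N.Normal]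
    (h : pPrimeCore p G = ⊥) : pPrimeCore p N = ⊥ := by
  have := pPrimeCore_map_subtype_le (p := p) N
  rw [h, le_bot_iff, Subgroup.map_eq_bot_iff_of_injective _ N.subtype_injective] at this
  exact this

/-- The `p'`-core of the image of a surjection whose kernel is exactly `O_{p'}(G)` is trivial. -/
theorem pPrimeCore_eq_bot_of_ker_eq [Finite G] (f : G →* H) (hf : Function.Surjective f)
    (hk : f.ker = pPrimeCore p G) : pPrimeCore p H = ⊥ := by
  rw [← map_pPrimeCore_eq f hf (hk ▸ pPrimeCore_coprime p G), ← hk]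
  exact Subgroup.map_ker_self f

theorem pCore_eq_bot_of_ker_eq (f : G →* H) (hf : Function.Surjective f)
    (hk : f.ker = pCore p G) : pCore p H = ⊥ := by
  rw [← map_pCore_eq f hf (hk ▸ pCore_isPGroup p G), ← hk]
  exact Subgroup.map_ker_self f

theorem pPrimeCore_quotient_pPrimeCore (p : ℕ) (G : Type*) [Group G] [Finite G] :
    pPrimeCore p (G ⧸ pPrimeCore p G) = ⊥ :=
  pPrimeCore_eq_bot_of_ker_eq _ (QuotientGroup.mk'_surjective _) (QuotientGroup.ker_mk' _)

theorem pCore_quotient_pCore (p : ℕ) (G : Type*) [Group G] : pCore p (G ⧸ pCore p G) = ⊥ :=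
  pCore_eq_bot_of_ker_eq _ (QuotientGroup.mk'_surjective _) (QuotientGroup.ker_mk' _)

theorem pCore_eq_top_iff : pCore p G = ⊤ ↔ IsPGroup p G := by
  constructor
  · intro h
    have := pCore_isPGroup p G
    rw [h] at this
    exact this.of_equiv Subgroup.topEquiv
  · intro h
    exact top_le_iff.1 (le_pCore inferInstance (h.to_subgroup _))

theorem pPrimeCore_eq_top_iff [Finite G] : pPrimeCore p G = ⊤ ↔ (Nat.card G).Coprime p := by
  constructor
  · intro h
    have := pPrimeCore_coprime p G
    rwa [h, Subgroup.card_top] at this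
  · intro h
    exact top_le_iff.1 (le_pPrimeCore inferInstance (by rwa [Subgroup.card_top]))

/-- `O_{p'}(G)` centralizes `O_p(G)`. -/
theorem pPrimeCore_le_centralizer_pCore [Finite G] :
    pPrimeCore p G ≤ Subgroup.centralizer (pCore p G : Set G) := by
  rw [← Subgroup.commutator_eq_bot_iff_le_centralizer, eq_bot_iff,
    ← pCore_inf_pPrimeCore (p := p), inf_comm]
  exact Subgroup.commutator_le_inf _ _

/-- A group of characteristic `p` has trivial `p'`-core. -/
theorem pPrimeCore_eq_bot_of_charP [Finite G]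
    (h : Subgroup.centralizer (pCore p G : Set G) ≤ pCore p G) : pPrimeCore p G = ⊥ := by
  rw [eq_bot_iff, ← pCore_inf_pPrimeCore (p := p)]
  exact le_inf (pPrimeCore_le_centralizer_pCore.trans h) le_rfl

end CL.PL
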