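import Cfsg.Agent.PLocal.Constraint

/-!
Ambient descriptions of "the image lies in `O_p` of a section", and `p`-stability modulo the
`p'`-core.
-/

set_option autoImplicit false

open Cfsg Subgroup
open scoped commutatorElement

namespace CL.PL

open CL.Transfer

variable {G : Type*} [Group G] {H : Type*} [Group H] {p : ℕ}

/-- The image of `A` in `G / C` lies in `O_p(G / C)` iff `A` lies in a normal subgroup which is a
`p`-group modulo `C`. -/
theorem map_le_pCore_quotient_iff (A C : Subgroup G) [C.Normal] :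
    A.map (QuotientGroup.mk' C) ≤ pCore p (G ⧸ C) ↔
      ∃ D : Subgroup G, D.Normal ∧ A ≤ D ∧ ∀ d ∈ D, ∃ k : ℕ, d ^ p ^ k ∈ C := by
  constructor
  · intro h
    refine ⟨(pCore p (G ⧸ C)).comap (QuotientGroup.mk' C), inferInstance,
      map_le_iff_le_comap.1 h, fun d hd => ?_⟩
    obtain ⟨k, hk⟩ := (isPGroup_subgroup_iff _).1 (pCore_isPGroup p (G ⧸ C)) _ hd
    exact ⟨k, by rwa [← map_pow, QuotientGroup.mk'_apply, QuotientGroup.eq_one_iff] at hk⟩
  · rintro ⟨D, hD, hAD, h⟩
    refine (map_mono hAD).trans (le_pCore (hD.map _ (QuotientGroup.mk'_surjective C)) ?_)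
    rw [isPGroup_subgroup_iff]
    rintro _ ⟨d, hd, rfl⟩
    obtain ⟨k, hk⟩ := h d hd
    exact ⟨k, by rwa [← map_pow, QuotientGroup.mk'_apply, QuotientGroup.eq_one_iff]⟩

theorem mk_mem_pCore_quotient_iff (a : G) (C : Subgroup G) [C.Normal] :
    (QuotientGroup.mk a : G ⧸ C) ∈ pCore p (G ⧸ C) ↔
      ∃ D : Subgroup G, D.Normal ∧ a ∈ D ∧ ∀ d ∈ D, ∃ k : ℕ, d ^ p ^ k ∈ C := by
  have := map_le_pCore_quotient_iff (p := p) (zpowers a) C
  simp only [MonoidHom.map_zpowers, zpowers_le] at this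
  exact this

/-- Relative form of `map_le_pCore_quotient_iff` inside a subgroup `L`. -/
theorem map_subgroupOf_le_pCore_quotient_iff {A L : Subgroup G} (C : Subgroup G)
    [(C.subgroupOf L).Normal] (hA : A ≤ L) :
    (A.subgroupOf L).map (QuotientGroup.mk' (C.subgroupOf L)) ≤ pCore p (L ⧸ C.subgroupOf L) ↔
      ∃ D : Subgroup G, A ≤ D ∧ D ≤ L ∧ L ≤ normalizer (D : Set G) ∧
        ∀ d ∈ D, ∃ k : ℕ, d ^ p ^ k ∈ C := by
  rw [map_le_pCore_quotient_iff]
  constructor
  · rintro ⟨D, hD, hAD, h⟩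
    refine ⟨D.map L.subtype, ?_, map_subtype_le _, ?_, ?_⟩
    · rw [← map_subgroupOf_eq_of_le hA]
      exact map_mono hAD
    · refine le_normalizer_iff.2 ?_
      rintro l hl _ ⟨d, hd, rfl⟩
      exact ⟨_, hD.conj_mem d hd ⟨l, hl⟩, rfl⟩
    · rintro _ ⟨d, hd, rfl⟩
      exact h d hd
  · rintro ⟨D, hAD, -, hN, h⟩
    exact ⟨D.subgroupOf L, normal_subgroupOf_of_le_normalizer hN, comap_mono hAD,
      fun d hd => h d hd⟩

/-- The conclusion of `p`-stability, in ambient form. -/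
def InStableCore (p : ℕ) (A P : Subgroup G) : Prop :=
  ∃ D : Subgroup G, A ≤ D ∧ D ≤ normalizer (P : Set G) ∧
    normalizer (P : Set G) ≤ normalizer (D : Set G) ∧
      ∀ d ∈ D, ∃ k : ℕ, d ^ p ^ k ∈ centralizer (P : Set G)

theorem isPStable_iff :
    IsPStable p G ↔ Odd p ∧ pCore p G ≠ ⊥ ∧ ∀ A P : Subgroup G, IsPGroup p A → IsPGroup p P →
      A ≤ normalizer (P : Set G) → P ≤ pPrimePCore p G → (pPrimeCore p G ⊔ P).Normal →
      ⁅⁅P, A⁆, A⁆ = ⊥ → InStableCore p A P := by
  refine and_congr_right fun _ => and_congr_right fun _ => forall₂_congr fun A P =>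
    forall₂_congr fun _ _ => ?_
  rw [← le_normalizer_iff]
  refine forall₄_congr fun hA _ _ _ => ?_
  exact map_subgroupOf_le_pCore_quotient_iff _ hA

theorem InStableCore.map [Finite G] [Fact p.Prime] {A P : Subgroup G} (h : InStableCore p A P)
    (f : G →* H) (hf : Function.Surjective f) (hk : (Nat.card f.ker).Coprime p)
    (hP : IsPGroup p P) : InStableCore p (A.map f) (P.map f) := by
  obtain ⟨D, h1, h2, h3, h4⟩ := h
  refine ⟨D.map f, map_mono h1, (map_mono h2).trans (le_normalizer_map f), ?_, ?_⟩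
  · rw [← map_normalizer_eq f hf hk hP]
    exact (map_mono h3).trans (le_normalizer_map f)
  · rintro _ ⟨d, hd, rfl⟩
    obtain ⟨k, hk⟩ := h4 d hd
    exact ⟨k, by rw [← map_pow]; exact map_centralizer_le f P (mem_map_of_mem f hk)⟩

theorem InStableCore.of_map {A P : Subgroup G} (f : G →* H)
    (h : InStableCore p (A.map f) (P.map f)) (hk : (Nat.card f.ker).Coprime p)
    (hP : IsPGroup p P) (hA : A ≤ normalizer (P : Set G)) : InStableCore p A P := by
  obtain ⟨D, h1, -, h3, h4⟩ := h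
  refine ⟨D.comap f ⊓ normalizer (P : Set G), le_inf (map_le_iff_le_comap.1 h1) hA,
    inf_le_right, ?_, ?_⟩
  · refine le_trans (le_inf ?_ le_normalizer) inf_normalizer_le_normalizer_inf
    refine le_trans ?_ (le_normalizer_comap f)
    exact map_le_iff_le_comap.1 ((le_normalizer_map f).trans h3)
  · rintro d ⟨hd, hdN⟩
    obtain ⟨k, hk'⟩ := h4 _ hd
    exact ⟨k, mem_centralizer_of_map_mem f hk hP (pow_mem hdN _) (by rwa [map_pow])⟩

theorem eq_bot_of_map_eq_bot (f : G →* H) (hk : (Nat.card f.ker).Coprime p) {P : Subgroup G}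
    (hP : IsPGroup p P) (h : P.map f = ⊥) : P = ⊥ := by
  rw [← inf_ker_eq_bot f hk hP, eq_comm, inf_eq_left]
  exact (Subgroup.map_eq_bot_iff _).1 h

theorem le_of_map_le_of_le {R A B : Subgroup G} (f : G →* H) (hR : R ⊓ f.ker = ⊥) (hA : A ≤ R)
    (hB : B ≤ R) (h : A.map f ≤ B.map f) : A ≤ B := by
  intro a ha
  obtain ⟨b, hb, hab⟩ := h (mem_map_of_mem f ha)
  have : b⁻¹ * a ∈ R ⊓ f.ker := ⟨R.mul_mem (R.inv_mem (hB hb)) (hA ha), by
    simp [hab]⟩
  rw [hR, mem_bot, inv_mul_eq_one] at this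
  exact this ▸ hb

theorem map_inf_comap_eq {R : Subgroup G} (f : G →* H) {B : Subgroup H} (h : B ≤ R.map f) :
    (R ⊓ B.comap f).map f = B := by
  refine le_antisymm (map_le_iff_le_comap.2 inf_le_right) fun b hb => ?_
  obtain ⟨r, hr, rfl⟩ := h hb
  exact ⟨r, ⟨hr, hb⟩, rfl⟩

theorem isPStable_iff_of_ker_eq [Finite G] [Fact p.Prime] (hO : pCore p G ≠ ⊥) (f : G →* H)
    (hf : Function.Surjective f) (hk : f.ker = pPrimeCore p G) :
    IsPStable p G ↔ IsPStable p H := by
  have hk' : (Nat.card f.ker).Coprime p := hk ▸ pPrimeCore_coprime p G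
  have hH : pPrimeCore p H = ⊥ := pPrimeCore_eq_bot_of_ker_eq f hf hk
  have hOH : pCore p H ≠ ⊥ := fun h => hO (eq_bot_of_map_eq_bot f hk' (pCore_isPGroup p G)
    (le_bot_iff.1 (h ▸ map_pCore_le f hf)))
  rw [isPStable_iff, isPStable_iff, pPrimePCore_eq_pCore hH, hH, pPrimePCore_eq_comap f hf hk,
    ← hk]
  refine and_congr_right fun _ => ?_
  simp only [bot_sup_eq]
  constructor
  · rintro ⟨-, h⟩
    refine ⟨hOH, fun A P hA hP hAP hPO hPn hq => ?_⟩
    obtain ⟨R, hR, hRm⟩ := exists_isPGroup_map_eq f hf (hA.to_sup_of_normal_right hP)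
    have hRk := inf_ker_eq_bot f hk' hR.isPGroup
    have hA' : (R ⊓ A.comap f).map f = A := map_inf_comap_eq f (hRm ▸ le_sup_left)
    have hP' : (R ⊓ P.comap f).map f = P := map_inf_comap_eq f (hRm ▸ le_sup_right)
    have := h (R ⊓ A.comap f) (R ⊓ P.comap f) hR.isPGroup.to_inf_left hR.isPGroup.to_inf_left
      (inf_le_left.trans (le_trans (le_inf le_normalizer le_normalizer_of_normal)
        inf_normalizer_le_normalizer_inf))
      (inf_le_right.trans (comap_mono hPO))
      (by rw [sup_comm, ← comap_map_eq, hP']; infer_instance)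
      (by
        have hle : ⁅⁅R ⊓ P.comap f, R ⊓ A.comap f⁆, R ⊓ A.comap f⁆ ≤ R :=
          (commutator_mono ((commutator_mono inf_le_left inf_le_left).trans
            (commutator_le_self R)) inf_le_left).trans (commutator_le_self R)
        refine eq_bot_of_map_eq_bot f hk' (hR.isPGroup.to_le hle) ?_
        rw [map_commutator, map_commutator, hA', hP', hq])
    have := this.map f hf hk' hR.isPGroup.to_inf_left
    rwa [hA', hP'] at this
  · rintro ⟨-, h⟩
    refine ⟨hO, fun A P hA hP hAP hPO hPn hq => ?_⟩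
    refine InStableCore.of_map f (h _ _ (hA.map f) (hP.map f)
      ((map_mono hAP).trans (le_normalizer_map f)) (map_le_iff_le_comap.2 hPO) ?_ ?_) hk' hP hAP
    · have := hPn.map f hf
      rwa [Subgroup.map_sup, map_ker_self, bot_sup_eq] at this
    · rw [← map_commutator, ← map_commutator, hq, Subgroup.map_bot]

end CL.PL
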