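import Cfsg.Agent.PLocal.ZJOmega
import Cfsg.Agent.PLocal.StableQuot

/-!
The ZJ-theorem modulo `O_{p'}(G)`, for `p`-constrained `p`-stable groups, and for groups all of
whose `p`-local subgroups satisfy the hypotheses of the ZJ-theorem.
-/

set_option autoImplicit false

namespace CL.ZJ

open Subgroup Cfsg CL.Transfer
open scoped Pointwise

variable {G : Type*} [Group G] {H : Type*} [Group H] {p e : ℕ}

theorem injective_comp_subtype {f : G →* H} {T : Subgroup G} (h : T ⊓ f.ker = ⊥) :
    Function.Injective (f.comp T.subtype) := by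
  rw [← MonoidHom.ker_eq_bot_iff, eq_bot_iff]
  intro x hx
  have : (x : G) ∈ T ⊓ f.ker := ⟨x.2, hx⟩
  rw [h, mem_bot] at this
  exact Subtype.ext this

theorem J_map_of_disjoint {f : G →* H} {T : Subgroup G} (h : T ⊓ f.ker = ⊥) :
    J e (T.map f) = (J e T).map f := by
  conv_lhs => rw [← map_top_subtype T, map_map, J_map (injective_comp_subtype h), ← map_map,
    ← J_map T.subtype_injective, map_top_subtype]

theorem Z_map_of_disjoint {f : G →* H} {T : Subgroup G} (h : T ⊓ f.ker = ⊥) :
    Z e (T.map f) = (Z e T).map f := by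
  conv_lhs => rw [← map_top_subtype T, map_map, ZJ_map (injective_comp_subtype h), ← map_map,
    ← ZJ_map T.subtype_injective, map_top_subtype]

theorem Z_conj_smul (g : G) (T : Subgroup G) :
    Z e (MulAut.conj g • T) = MulAut.conj g • Z e T :=
  ZJ_map (f := (MulAut.conj g).toMonoidHom) (MulAut.conj g).injective

theorem J_conj_smul (g : G) (T : Subgroup G) :
    J e (MulAut.conj g • T) = MulAut.conj g • J e T :=
  J_map (f := (MulAut.conj g).toMonoidHom) (MulAut.conj g).injective

theorem Z_ne_bot [Finite G] [Fact p.Prime] (he : e = 0 ∨ e = p) {T : Subgroup G}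
    (hT : IsPGroup p T) (h : T ≠ ⊥) : Z e T ≠ ⊥ := by
  have : Nontrivial T := (nontrivial_iff_ne_bot T).mpr h
  have hc := hT.center_nontrivial
  obtain ⟨x, hx⟩ := exists_prime_orderOf_dvd_card' (G := center T) p (by
    rcases (hT.to_subgroup (center T)).card_eq_or_dvd with h1 | h1
    · exact absurd h1 Finite.one_lt_card.ne'
    · exact h1)
  have hx' : orderOf ((x : T) : G) = p := by rw [orderOf_coe, orderOf_coe, hx]
  intro hbot
  have hmem : ((x : T) : G) ∈ Z e T := by
    refine mem_ZJ_of_mem_centralizer (x : T).2 (fun y hy => ?_) ?_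
    · exact congrArg Subtype.val (mem_center_iff.mp x.2 ⟨y, J_le hy⟩)
    · rcases he with rfl | rfl
      · exact pow_zero _
      · rw [← hx', pow_orderOf_eq_one]
  rw [hbot, mem_bot] at hmem
  rw [hmem, orderOf_one] at hx'
  exact (Fact.out : p.Prime).one_lt.ne hx'

theorem stab_of_isPStable_of_pPrimeCore_eq_bot (hs : IsPStable p G) (hO : pPrimeCore p G = ⊥) :
    Stab p G := by
  intro B A hBn hB hA _ hq
  obtain ⟨D, h1, -, h3, h4⟩ := (PL.isPStable_iff.mp hs).2.2 A B hA hB le_normalizer_of_normal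
    ((le_pCore hBn hB).trans PL.pCore_le_pPrimePCore) (by rwa [hO, bot_sup_eq]) hq
  refine ⟨D, ?_, h1, h4⟩
  rwa [normalizer_eq_top, top_le_iff, normalizer_eq_top_iff] at h3

theorem stab_quotient_of_isPStable [Finite G] [Fact p.Prime] (hs : IsPStable p G) :
    Stab p (G ⧸ pPrimeCore p G) :=
  stab_of_isPStable_of_pPrimeCore_eq_bot
    ((PL.isPStable_iff_of_ker_eq hs.2.1 _ (QuotientGroup.mk'_surjective _)
      (QuotientGroup.ker_mk' _)).mp hs) (PL.pPrimeCore_quotient_pPrimeCore p G)

/-- ZJ modulo a normal `p'`-subgroup. -/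
theorem Z_map_normal [Finite G] [Fact p.Prime] (hp : p ≠ 2) (he : e = 0 ∨ e = p) (f : G →* H)
    (hf : Function.Surjective f) (hk : (Nat.card f.ker).Coprime p) (hst : Stab p H)
    (hc : centralizer (pCore p H : Set H) ≤ pCore p H) (S : Sylow p G) :
    ((Z e (S : Subgroup G)).map f).Normal := by
  have : Finite H := Finite.of_surjective f hf
  rw [← Z_map_of_disjoint (PL.inf_ker_eq_bot f hk S.isPGroup')]
  exact Z_normal hp he hst hc (S.mapSurjective hf)

theorem Z_sup_pPrimeCore_normal [Finite G] [Fact p.Prime] (hp : p ≠ 2) (he : e = 0 ∨ e = p)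
    (hst : Stab p (G ⧸ pPrimeCore p G)) (hc : IsPConstrained p G) (S : Sylow p G) :
    (Z e (S : Subgroup G) ⊔ pPrimeCore p G).Normal := by
  have := Z_map_normal hp he _ (QuotientGroup.mk'_surjective (pPrimeCore p G))
    (by rw [QuotientGroup.ker_mk']; exact PL.pPrimeCore_coprime p G) hst
    (PL.isPConstrained_iff.mp hc) S
  have h2 := this.comap (QuotientGroup.mk' (pPrimeCore p G))
  rwa [comap_map_eq, QuotientGroup.ker_mk'] at h2

theorem pPrimeCore_sup_normalizer_Z [Finite G] [Fact p.Prime] (hp : p ≠ 2) (he : e = 0 ∨ e = p)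
    (hst : Stab p (G ⧸ pPrimeCore p G)) (hc : IsPConstrained p G) (S : Sylow p G) :
    pPrimeCore p G ⊔ normalizer (Z e (S : Subgroup G) : Set G) = ⊤ := by
  have hk : (Nat.card (QuotientGroup.mk' (pPrimeCore p G)).ker).Coprime p := by
    rw [QuotientGroup.ker_mk']; exact PL.pPrimeCore_coprime p G
  have := Z_map_normal hp he _ (QuotientGroup.mk'_surjective (pPrimeCore p G)) hk hst
    (PL.isPConstrained_iff.mp hc) S
  have h2 := PL.ker_sup_normalizer_eq_top _ hk (S.isPGroup'.to_le ZJ_le) this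
  rwa [QuotientGroup.ker_mk'] at h2

/-- ZJ inside a subgroup `L`. -/
theorem le_normalizer_Z_of_isSylowIn [Finite G] [Fact p.Prime] (hp : p ≠ 2) (he : e = 0 ∨ e = p)
    {L R : Subgroup G} (hst : Stab p L) (hc : centralizer (pCore p L : Set L) ≤ pCore p L)
    (hR : IsSylowIn p R L) : L ≤ normalizer (Z e R : Set G) := by
  have h1 := Z_normal hp he hst hc hR.toSylow
  rw [← hR.map_toSylow, ZJ_map L.subtype_injective]
  refine le_trans ?_ (le_normalizer_map L.subtype)
  rw [normalizer_eq_top, map_top_subtype]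

/-- If every `p`-local subgroup satisfies the hypotheses of the ZJ-theorem, then `N_G(Z(J(P)))`
contains every `p`-local subgroup meeting it in a nontrivial `p`-subgroup. -/
theorem normalizer_le_normalizer_Z_of_locals [Finite G] [Fact p.Prime] (hp : p ≠ 2)
    (he : e = 0 ∨ e = p)
    (hloc : ∀ Q : Subgroup G, IsPGroup p Q → Q ≠ ⊥ → Stab p (normalizer (Q : Set G)) ∧
      centralizer (pCore p (normalizer (Q : Set G)) : Set (normalizer (Q : Set G))) ≤
        pCore p (normalizer (Q : Set G)))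
    (P : Sylow p G) (R : Subgroup G) (hR : IsPGroup p R) (hR1 : R ≠ ⊥)
    (hRM : R ≤ normalizer (Z e (P : Subgroup G) : Set G)) (Q : Subgroup G) (hQ : IsPGroup p Q)
    (hQ1 : Q ≠ ⊥) (hRQ : R ≤ normalizer (Q : Set G)) :
    normalizer (Q : Set G) ≤ normalizer (Z e (P : Subgroup G) : Set G) := by
  set M := normalizer (Z e (P : Subgroup G) : Set G) with hM
  have hPM : (P : Subgroup G) ≤ M := le_normalizer.trans normalizer_le_normalizer_ZJ
  induction R using WellFoundedGT.induction generalizing Q with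
  | ind R ih =>
  obtain ⟨R₁, hR₁, hRR₁⟩ := exists_isSylowIn_ge hR (le_inf hRQ hRM)
  rcases hRR₁.lt_or_eq with hlt | rfl
  · exact ih R₁ hlt hR₁.isPGroup (ne_bot_of_gt hlt) Q hQ hQ1
      (hR₁.le.trans inf_le_left) (hR₁.le.trans inf_le_right)
  obtain ⟨P₁, hP₁, hRP₁⟩ := exists_isSylowIn_ge hR hRM
  obtain ⟨m, hm, rfl⟩ := (isSylowIn_of_le P hPM).exists_conj hP₁
  have key : IsSylowIn p R (normalizer (Q : Set G)) ∧ normalizer (Z e R : Set G) ≤ M := by
    rcases hRP₁.lt_or_eq with hlt | rfl
    · have hlt' := lt_inf_normalizer hP₁.isPGroup hlt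
      have ih' := fun Q h1 h2 h3 => ih _ hlt' hP₁.isPGroup.to_inf_left (ne_bot_of_gt hlt') Q h1 h2 h3
        (inf_le_left.trans hP₁.le)
      refine ⟨isSylowIn_of_maximal hR hRQ fun T hT hRT hTQ => ?_,
        ih' _ (hR.to_le ZJ_le) (Z_ne_bot he hR hR1)
          (inf_le_right.trans normalizer_le_normalizer_ZJ)⟩
      by_contra hnot
      have h1 := lt_inf_normalizer hT (lt_of_le_not_ge hRT hnot)
      exact h1.ne' (hR₁.eq_of_le hT.to_inf_left h1.le (le_inf (inf_le_left.trans hTQ)
        (inf_le_right.trans (ih' R hR hR1 inf_le_right))))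
    · refine ⟨(((isSylowIn_top P).smul_of_mem_normalizer (by
        rw [normalizer_eq_top]; exact mem_top m))).of_le hRQ le_top, ?_⟩
      rw [Z_conj_smul, conj_smul_eq_iff_mem_normalizer.mpr hm]
  exact (le_normalizer_Z_of_isSylowIn hp he (hloc Q hQ hQ1).1 (hloc Q hQ hQ1).2 key.1).trans key.2

end CL.ZJ
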