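import Cfsg.Agent.Base
import Cfsg.Agent.PLocal.ElemAb

/-!
The Thompson subgroup `J(G)` (elementary abelian version): basic API, also in the
ambient form `thompsonSubgroupOf p U` with the family `maxIn p U`.
-/

set_option autoImplicit false

namespace CL.Thompson

open Cfsg

variable {G : Type*} [Group G] {p : ℕ}

/-- Elementary abelian `p`-subgroups of `U ≤ G` of largest order, as subgroups of `G`. -/
def maxIn (p : ℕ) (U : Subgroup G) : Set (Subgroup G) :=
  {A | A ≤ U ∧ IsElementaryAbelian p A ∧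
    ∀ B : Subgroup G, B ≤ U → IsElementaryAbelian p B → Nat.card B ≤ Nat.card A}

theorem mem_maxIn {U A : Subgroup G} : A ∈ maxIn p U ↔ A ≤ U ∧ IsElementaryAbelian p A ∧
    ∀ B : Subgroup G, B ≤ U → IsElementaryAbelian p B → Nat.card B ≤ Nat.card A := Iff.rfl

theorem maxIn_top : maxIn p (⊤ : Subgroup G) = maxElementaryAbelianSubgroups p G := by
  ext A
  simp [maxIn, maxElementaryAbelianSubgroups]

theorem map_subtype_mem_maxIn {U : Subgroup G} {A : Subgroup U} :
    A.map U.subtype ∈ maxIn p U ↔ A ∈ maxElementaryAbelianSubgroups p U := by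
  have hc : Nat.card (A.map U.subtype) = Nat.card A :=
    Subgroup.card_map_of_injective U.subtype_injective
  constructor
  · rintro ⟨-, h2, h3⟩
    refine ⟨EA.of_map_of_injective U.subtype_injective h2, fun B hB => ?_⟩
    have := h3 (B.map U.subtype) (Subgroup.map_subtype_le B) (EA.map hB _)
    rwa [hc, Subgroup.card_map_of_injective U.subtype_injective] at this
  · rintro ⟨h2, h3⟩
    refine ⟨Subgroup.map_subtype_le A, EA.map h2 _, fun B hBU hB => ?_⟩
    have := h3 (B.subgroupOf U) (EA.subgroupOf hB U)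
    rwa [EA.card_subgroupOf, inf_eq_left.2 hBU, ← hc] at this

theorem subgroupOf_mem_max {U A : Subgroup G} (hA : A ∈ maxIn p U) :
    A.subgroupOf U ∈ maxElementaryAbelianSubgroups p U := by
  rw [← map_subtype_mem_maxIn, Subgroup.subgroupOf_map_subtype, inf_eq_left.2 hA.1]
  exact hA

theorem maxIn_eq_image (U : Subgroup G) :
    maxIn p U = (fun A : Subgroup U => A.map U.subtype) '' maxElementaryAbelianSubgroups p U := by
  ext A
  constructor
  · intro hA
    exact ⟨A.subgroupOf U, subgroupOf_mem_max hA, by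
      simp only [Subgroup.subgroupOf_map_subtype, inf_eq_left.2 hA.1]⟩
  · rintro ⟨B, hB, rfl⟩
    exact map_subtype_mem_maxIn.2 hB

theorem thompsonOf_eq_sSup (U : Subgroup G) : thompsonSubgroupOf p U = sSup (maxIn p U) := by
  rw [maxIn_eq_image, thompsonSubgroupOf, thompsonSubgroup, sSup_eq_iSup, sSup_image]
  simp only [Subgroup.map_iSup]

theorem thompsonOf_top : thompsonSubgroupOf p (⊤ : Subgroup G) = thompsonSubgroup p G := by
  rw [thompsonOf_eq_sSup, maxIn_top, thompsonSubgroup]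

theorem thompsonOf_le (U : Subgroup G) : thompsonSubgroupOf p U ≤ U :=
  Subgroup.map_subtype_le _

theorem le_thompsonOf {U A : Subgroup G} (hA : A ∈ maxIn p U) : A ≤ thompsonSubgroupOf p U := by
  rw [thompsonOf_eq_sSup]
  exact le_sSup hA

theorem thompsonOf_le_iff {U K : Subgroup G} :
    thompsonSubgroupOf p U ≤ K ↔ ∀ A ∈ maxIn p U, A ≤ K := by
  rw [thompsonOf_eq_sSup, sSup_le_iff]

theorem le_thompson {A : Subgroup G} (hA : A ∈ maxElementaryAbelianSubgroups p G) :
    A ≤ thompsonSubgroup p G := le_sSup hA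

theorem thompson_le_iff {K : Subgroup G} :
    thompsonSubgroup p G ≤ K ↔ ∀ A ∈ maxElementaryAbelianSubgroups p G, A ≤ K := sSup_le_iff

theorem maxIn_nonempty [Finite G] (U : Subgroup G) : (maxIn p U).Nonempty := by
  have hfin : {A : Subgroup G | A ≤ U ∧ IsElementaryAbelian p A}.Finite := Set.toFinite _
  obtain ⟨A, hA, hmax⟩ := hfin.exists_maximalFor (fun A : Subgroup G => Nat.card A) _
    ⟨⊥, bot_le, EA.bot⟩
  refine ⟨A, hA.1, hA.2, fun B hBU hB => ?_⟩
  by_contra h
  exact h (hmax ⟨hBU, hB⟩ (not_le.1 h).le)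

theorem max_nonempty [Finite G] : (maxElementaryAbelianSubgroups p G).Nonempty := by
  rw [← maxIn_top]
  exact maxIn_nonempty ⊤

theorem card_eq_of_mem_maxIn {U A B : Subgroup G} (hA : A ∈ maxIn p U) (hB : B ∈ maxIn p U) :
    Nat.card A = Nat.card B :=
  le_antisymm (hB.2.2 A hA.1 hA.2.1) (hA.2.2 B hB.1 hB.2.1)

theorem mem_maxIn_of_card_le {U A B : Subgroup G} (hA : A ∈ maxIn p U) (hBU : B ≤ U)
    (hB : IsElementaryAbelian p B) (h : Nat.card A ≤ Nat.card B) : B ∈ maxIn p U :=
  ⟨hBU, hB, fun C hCU hC => (hA.2.2 C hCU hC).trans h⟩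

theorem mem_maxIn_of_le {U K A : Subgroup G} (hA : A ∈ maxIn p U) (hAK : A ≤ K) (hKU : K ≤ U) :
    A ∈ maxIn p K :=
  ⟨hAK, hA.2.1, fun B hBK hB => hA.2.2 B (hBK.trans hKU) hB⟩

/-- If some member of `𝒜(U)` lies in `K ≤ U` then `𝒜(K) ⊆ 𝒜(U)`. -/
theorem mem_maxIn_of_mem_of_le {U K A B : Subgroup G} (hA : A ∈ maxIn p U) (hAK : A ≤ K)
    (hKU : K ≤ U) (hB : B ∈ maxIn p K) : B ∈ maxIn p U :=
  mem_maxIn_of_card_le hA (hB.1.trans hKU) hB.2.1 (hB.2.2 A hAK hA.2.1)

/-- If some member of `𝒜(U)` lies in `K ≤ U` then `J(K) ≤ J(U)`. -/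
theorem thompsonOf_le_of_mem {U K A : Subgroup G} (hA : A ∈ maxIn p U) (hAK : A ≤ K)
    (hKU : K ≤ U) : thompsonSubgroupOf p K ≤ thompsonSubgroupOf p U :=
  thompsonOf_le_iff.2 fun _ hB => le_thompsonOf (mem_maxIn_of_mem_of_le hA hAK hKU hB)

theorem maxIn_eq_of_le [Finite G] {U K : Subgroup G} (h : thompsonSubgroupOf p U ≤ K)
    (hKU : K ≤ U) : maxIn p K = maxIn p U := by
  obtain ⟨A, hA⟩ := maxIn_nonempty (p := p) U
  ext B
  exact ⟨mem_maxIn_of_mem_of_le hA ((le_thompsonOf hA).trans h) hKU,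
    fun hB => mem_maxIn_of_le hB ((le_thompsonOf hB).trans h) hKU⟩

/-- If `J(U) ≤ K ≤ U` then `J(K) = J(U)`. -/
theorem thompsonOf_eq_of_le [Finite G] {U K : Subgroup G} (h : thompsonSubgroupOf p U ≤ K)
    (hKU : K ≤ U) : thompsonSubgroupOf p K = thompsonSubgroupOf p U := by
  rw [thompsonOf_eq_sSup, thompsonOf_eq_sSup, maxIn_eq_of_le h hKU]

theorem thompsonOf_eq_thompson [Finite G] {U : Subgroup G} (h : thompsonSubgroup p G ≤ U) :
    thompsonSubgroupOf p U = thompsonSubgroup p G := by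
  rw [← thompsonOf_top] at h ⊢
  exact thompsonOf_eq_of_le h le_top

theorem thompsonOf_thompsonOf [Finite G] (U : Subgroup G) :
    thompsonSubgroupOf p (thompsonSubgroupOf p U) = thompsonSubgroupOf p U :=
  thompsonOf_eq_of_le le_rfl (thompsonOf_le U)

/-- A member of `𝒜(U)` is maximal among the elementary abelian subgroups of `U`. -/
theorem eq_of_le_of_mem_maxIn [Finite G] {U A B : Subgroup G} (hA : A ∈ maxIn p U) (hBU : B ≤ U)
    (hB : IsElementaryAbelian p B) (hAB : A ≤ B) : A = B :=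
  Subgroup.eq_of_le_of_card_ge hAB (hA.2.2 B hBU hB)

theorem le_of_centralizes [Finite G] {U A B : Subgroup G} (hA : A ∈ maxIn p U) (hBU : B ≤ U)
    (hB : IsElementaryAbelian p B) (hc : B ≤ Subgroup.centralizer (A : Set G)) : B ≤ A := by
  have := eq_of_le_of_mem_maxIn hA (sup_le hBU hA.1) (EA.sup hB hA.2.1 hc) le_sup_right
  rw [this]
  exact le_sup_left

theorem mem_of_centralizes [Finite G] {U A : Subgroup G} (hA : A ∈ maxIn p U) {x : G}
    (hxU : x ∈ U) (hx : x ^ p = 1) (hc : x ∈ Subgroup.centralizer (A : Set G)) : x ∈ A :=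
  le_of_centralizes hA ((Subgroup.zpowers_le).2 hxU) (EA.zpowers hx)
    ((Subgroup.zpowers_le).2 hc) (Subgroup.mem_zpowers x)

theorem mem_thompsonOf_of_centralizes [Finite G] {U : Subgroup G} {x : G}
    (hxU : x ∈ U) (hx : x ^ p = 1)
    (hc : x ∈ Subgroup.centralizer (thompsonSubgroupOf p U : Set G)) :
    x ∈ thompsonSubgroupOf p U := by
  obtain ⟨A, hA⟩ := maxIn_nonempty (p := p) U
  exact le_thompsonOf hA (mem_of_centralizes hA hxU hx (EA.centralizer_anti (le_thompsonOf hA) hc))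

theorem mem_thompson_of_centralizes [Finite G] {x : G} (hx : x ^ p = 1)
    (hc : x ∈ Subgroup.centralizer (thompsonSubgroup p G : Set G)) :
    x ∈ thompsonSubgroup p G := by
  rw [← thompsonOf_top] at hc ⊢
  exact mem_thompsonOf_of_centralizes (Subgroup.mem_top x) hx hc

/-- `Ω₁(Z(U))` lies in every member of `𝒜(U)`. -/
theorem omegaOne_center_le_of_mem [Finite G] {U A : Subgroup G} (hA : A ∈ maxIn p U) :
    omegaOne p (U ⊓ Subgroup.centralizer (U : Set G)) ≤ A :=
  EA.omegaOne_le_iff.2 fun _ hx hp =>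
    mem_of_centralizes hA hx.1 hp (EA.centralizer_anti hA.1 hx.2)

/-- `Ω₁(Z(U)) ≤ Z(J(U))`. -/
theorem omegaOne_center_le_centerThompsonOf [Finite G] (U : Subgroup G) :
    omegaOne p (U ⊓ Subgroup.centralizer (U : Set G)) ≤ centerThompsonOf p U := by
  obtain ⟨A, hA⟩ := maxIn_nonempty (p := p) U
  exact le_inf ((omegaOne_center_le_of_mem hA).trans (le_thompsonOf hA))
    ((EA.omegaOne_le _).trans (inf_le_right.trans (EA.centralizer_anti (thompsonOf_le U))))

/-- `Ω₁(Z(J(U)))` lies in every member of `𝒜(U)`. -/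
theorem omegaOne_centerThompsonOf_le [Finite G] {U A : Subgroup G} (hA : A ∈ maxIn p U) :
    omegaOne p (centerThompsonOf p U) ≤ A :=
  EA.omegaOne_le_iff.2 fun _ hx hp =>
    mem_of_centralizes hA (thompsonOf_le U hx.1) hp (EA.centralizer_anti (le_thompsonOf hA) hx.2)

theorem thompsonOf_ne_bot [Finite G] [Fact p.Prime] {U : Subgroup G} (h : p ∣ Nat.card U) :
    thompsonSubgroupOf p U ≠ ⊥ := by
  obtain ⟨x, hx⟩ := exists_prime_orderOf_dvd_card' p h
  obtain ⟨A, hA⟩ := maxIn_nonempty (p := p) U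
  intro hb
  have hA' : A = ⊥ := le_bot_iff.1 (hb ▸ le_thompsonOf hA)
  have hx' : orderOf (x : G) = p := by rw [Subgroup.orderOf_coe, hx]
  have := hA.2.2 (Subgroup.zpowers (x : G)) ((Subgroup.zpowers_le).2 x.2)
    (EA.zpowers (by rw [← hx', pow_orderOf_eq_one]))
  rw [Nat.card_zpowers, hx', hA', Subgroup.card_bot] at this
  exact absurd this (not_le.2 (Fact.out : p.Prime).one_lt)

theorem thompson_ne_bot [Finite G] [Fact p.Prime] (h : p ∣ Nat.card G) :
    thompsonSubgroup p G ≠ ⊥ := by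
  rw [← thompsonOf_top]
  exact thompsonOf_ne_bot (by rwa [Subgroup.card_top])

theorem thompsonOf_ne_bot_of_isPGroup [Finite G] [Fact p.Prime] {U : Subgroup G}
    (hU : IsPGroup p U) (h : U ≠ ⊥) : thompsonSubgroupOf p U ≠ ⊥ := by
  refine thompsonOf_ne_bot ?_
  obtain ⟨n, hn⟩ := IsPGroup.iff_card.1 hU
  rcases n with _ | n
  · exact absurd (Subgroup.card_eq_one.1 (by simpa using hn)) h
  · rw [hn]
    exact dvd_pow_self p n.succ_ne_zero

/-! ### Transport -/

section transport

variable {G' : Type*} [Group G']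

theorem card_map_of_disjoint {f : G →* G'} {U : Subgroup G} (hf : U ⊓ f.ker = ⊥) :
    Nat.card (U.map f) = Nat.card U := by
  rw [← Subgroup.relIndex_ker, ← EA.card_inf_mul_relIndex f.ker U, inf_comm, hf,
    Subgroup.card_bot, one_mul]

theorem eq_of_map_eq_of_disjoint {f : G →* G'} {U : Subgroup G} (hf : U ⊓ f.ker = ⊥) {a b : G}
    (ha : a ∈ U) (hb : b ∈ U) (h : f a = f b) : a = b := by
  have : a * b⁻¹ ∈ U ⊓ f.ker := ⟨U.mul_mem ha (U.inv_mem hb), by simp [h]⟩
  rw [hf, Subgroup.mem_bot] at this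
  exact mul_inv_eq_one.1 this

theorem ea_of_map_of_disjoint {f : G →* G'} {A : Subgroup G} (hf : A ⊓ f.ker = ⊥)
    (hA : IsElementaryAbelian p (A.map f)) : IsElementaryAbelian p A := by
  refine EA.of_comm (fun a ha b hb => ?_) (fun a ha => ?_)
  · refine eq_of_map_eq_of_disjoint hf (A.mul_mem ha hb) (A.mul_mem hb ha) ?_
    rw [map_mul, map_mul, EA.comm hA (Subgroup.mem_map_of_mem f ha) (Subgroup.mem_map_of_mem f hb)]
  · refine eq_of_map_eq_of_disjoint hf (A.pow_mem ha p) A.one_mem ?_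
    rw [map_pow, map_one, hA.2 _ (Subgroup.mem_map_of_mem f ha)]

theorem map_mem_maxIn_of_disjoint {f : G →* G'} {U A : Subgroup G} (hf : U ⊓ f.ker = ⊥)
    (hA : A ∈ maxIn p U) : A.map f ∈ maxIn p (U.map f) := by
  have hd : ∀ B ≤ U, B ⊓ f.ker = ⊥ := fun B hB =>
    le_bot_iff.1 (hf ▸ inf_le_inf_right _ hB)
  refine ⟨Subgroup.map_mono hA.1, EA.map hA.2.1 f, fun B hBU hB => ?_⟩
  have hB' : (B.comap f ⊓ U).map f = B := by
    apply le_antisymm
    · exact Subgroup.map_le_iff_le_comap.2 inf_le_left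
    · intro b hb
      obtain ⟨u, hu, rfl⟩ := hBU hb
      exact ⟨u, ⟨hb, hu⟩, rfl⟩
  rw [← hB', card_map_of_disjoint (hd _ inf_le_right), card_map_of_disjoint (hd _ hA.1)]
  exact hA.2.2 _ inf_le_right (ea_of_map_of_disjoint (hd _ inf_le_right) (hB'.symm ▸ hB))

theorem maxIn_map_of_disjoint {f : G →* G'} {U : Subgroup G} (hf : U ⊓ f.ker = ⊥) :
    maxIn p (U.map f) = (fun A => A.map f) '' maxIn p U := by
  have hd : ∀ B ≤ U, B ⊓ f.ker = ⊥ := fun B hB =>
    le_bot_iff.1 (hf ▸ inf_le_inf_right _ hB)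
  ext B
  constructor
  · intro hB
    have hB' : (B.comap f ⊓ U).map f = B := by
      apply le_antisymm
      · exact Subgroup.map_le_iff_le_comap.2 inf_le_left
      · intro b hb
        obtain ⟨u, hu, rfl⟩ := hB.1 hb
        exact ⟨u, ⟨hb, hu⟩, rfl⟩
    refine ⟨B.comap f ⊓ U, ⟨inf_le_right,
      ea_of_map_of_disjoint (hd _ inf_le_right) (hB'.symm ▸ hB.2.1), fun C hCU hC => ?_⟩, hB'⟩
    rw [← card_map_of_disjoint (hd _ hCU), ← card_map_of_disjoint (hd _ inf_le_right), hB']
    exact hB.2.2 _ (Subgroup.map_mono hCU) (EA.map hC f)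
  · rintro ⟨A, hA, rfl⟩
    exact map_mem_maxIn_of_disjoint hf hA

/-- `J(U)` is natural under homomorphisms that are injective on `U`. -/
theorem thompsonOf_map_of_disjoint {f : G →* G'} {U : Subgroup G} (hf : U ⊓ f.ker = ⊥) :
    thompsonSubgroupOf p (U.map f) = (thompsonSubgroupOf p U).map f := by
  rw [thompsonOf_eq_sSup, thompsonOf_eq_sSup, maxIn_map_of_disjoint hf, sSup_image,
    sSup_eq_iSup]
  simp only [Subgroup.map_iSup]

theorem thompsonOf_map_of_injective {f : G →* G'} (hf : Function.Injective f) (U : Subgroup G) :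
    thompsonSubgroupOf p (U.map f) = (thompsonSubgroupOf p U).map f :=
  thompsonOf_map_of_disjoint (by rw [(MonoidHom.ker_eq_bot_iff f).2 hf, inf_bot_eq])

theorem map_mem_maxIn_of_injective {f : G →* G'} (hf : Function.Injective f) {U A : Subgroup G}
    (hA : A ∈ maxIn p U) : A.map f ∈ maxIn p (U.map f) :=
  map_mem_maxIn_of_disjoint (by rw [(MonoidHom.ker_eq_bot_iff f).2 hf, inf_bot_eq]) hA

theorem thompson_map_of_injective {f : G →* G'} (hf : Function.Injective f) :
    (thompsonSubgroup p G).map f = thompsonSubgroupOf p f.range := by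
  rw [← thompsonOf_top, ← thompsonOf_map_of_injective hf, ← MonoidHom.range_eq_map]

theorem thompson_map_equiv (e : G ≃* G') :
    (thompsonSubgroup p G).map (e : G →* G') = thompsonSubgroup p G' := by
  rw [thompson_map_of_injective e.injective, MonoidHom.range_eq_top.2 e.surjective,
    thompsonOf_top]

theorem map_equiv_mem_max (e : G ≃* G') {A : Subgroup G}
    (hA : A ∈ maxElementaryAbelianSubgroups p G) :
    A.map (e : G →* G') ∈ maxElementaryAbelianSubgroups p G' := by
  rw [← maxIn_top] at hA ⊢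
  have := map_mem_maxIn_of_injective (f := (e : G →* G')) e.injective hA
  rwa [← MonoidHom.range_eq_map, MonoidHom.range_eq_top.2 e.surjective] at this

end transport

theorem thompsonOf_subgroupOf {U K : Subgroup G} (h : U ≤ K) :
    (thompsonSubgroupOf p (U.subgroupOf K)).map K.subtype = thompsonSubgroupOf p U := by
  rw [← thompsonOf_map_of_injective K.subtype_injective, Subgroup.subgroupOf_map_subtype,
    inf_eq_left.2 h]

theorem thompson_characteristic : (thompsonSubgroup p G).Characteristic :=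
  Subgroup.characteristic_iff_map_eq.2 fun e => thompson_map_equiv e

theorem thompson_normal : (thompsonSubgroup p G).Normal :=
  have := thompson_characteristic (p := p) (G := G)
  inferInstance

theorem normalizer_le_normalizer_thompsonOf (U : Subgroup G) :
    Subgroup.normalizer (U : Set G) ≤ Subgroup.normalizer (thompsonSubgroupOf p U : Set G) := by
  intro g hg
  rw [Subgroup.mem_normalizer_iff_map_conj_eq] at hg ⊢
  rw [← thompsonOf_map_of_injective (MulAut.conj g).injective, hg]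

theorem thompsonOf_normal (U : Subgroup G) [U.Normal] : (thompsonSubgroupOf p U).Normal := by
  rw [← Subgroup.normalizer_eq_top_iff, eq_top_iff, ← U.normalizer_eq_top]
  exact normalizer_le_normalizer_thompsonOf U

theorem normalizer_thompsonOf_le_normalizer_center (U : Subgroup G) :
    Subgroup.normalizer (thompsonSubgroupOf p U : Set G) ≤
      Subgroup.normalizer (centerThompsonOf p U : Set G) :=
  EA.le_normalizer_inf le_rfl (EA.normalizer_le_normalizer_centralizer _)

theorem normalizer_le_normalizer_centerThompsonOf (U : Subgroup G) :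
    Subgroup.normalizer (U : Set G) ≤ Subgroup.normalizer (centerThompsonOf p U : Set G) :=
  (normalizer_le_normalizer_thompsonOf U).trans (normalizer_thompsonOf_le_normalizer_center U)

/-! ### Sylow subgroups -/

theorem exists_sylow_mem_maxIn [Finite G] {A : Subgroup G}
    (hA : A ∈ maxElementaryAbelianSubgroups p G) :
    ∃ S : Sylow p G, A ∈ maxIn p (S : Subgroup G) := by
  obtain ⟨S, hS⟩ := (EA.isPGroup hA.1).exists_le_sylow
  rw [← maxIn_top] at hA
  exact ⟨S, mem_maxIn_of_le hA hS le_top⟩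

theorem mem_max_of_mem_maxIn_sylow [Finite G] [Fact p.Prime] (S : Sylow p G) {A : Subgroup G}
    (hA : A ∈ maxIn p (S : Subgroup G)) : A ∈ maxElementaryAbelianSubgroups p G := by
  refine ⟨hA.2.1, fun B hB => ?_⟩
  obtain ⟨T, hT⟩ := (EA.isPGroup hB).exists_le_sylow
  obtain ⟨g, rfl⟩ := MulAction.exists_smul_eq G T S
  have h1 : B.map (MulAut.conj g).toMonoidHom ≤ ((g • T : Sylow p G) : Subgroup G) :=
    Subgroup.map_mono hT
  have := hA.2.2 _ h1 (EA.map hB _)
  rwa [Subgroup.card_map_of_injective (MulAut.conj g).injective] at this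

theorem thompsonOf_sylow_le [Finite G] [Fact p.Prime] (S : Sylow p G) :
    thompsonSubgroupOf p (S : Subgroup G) ≤ thompsonSubgroup p G :=
  thompsonOf_le_iff.2 fun _ hA => le_thompson (mem_max_of_mem_maxIn_sylow S hA)

theorem thompson_eq_iSup_sylow [Finite G] [Fact p.Prime] :
    thompsonSubgroup p G = ⨆ S : Sylow p G, thompsonSubgroupOf p (S : Subgroup G) := by
  refine le_antisymm (thompson_le_iff.2 fun A hA => ?_) (iSup_le thompsonOf_sylow_le)
  obtain ⟨S, hS⟩ := exists_sylow_mem_maxIn hA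
  exact (le_thompsonOf hS).trans
    (le_iSup (fun S : Sylow p G => thompsonSubgroupOf p (S : Subgroup G)) S)

end CL.Thompson
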