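import Cfsg.Agent.Base
import Cfsg.Agent.PLocal.Thompson

/-!
Best offenders, the Chermak–Delgado measure `|A| |C_V(A)|`, Thompson's and Timmesfeld's
replacement theorems.
-/

set_option autoImplicit false

namespace CL.Offender

open Cfsg
open scoped commutatorElement

variable {G : Type*} [Group G] {p : ℕ}

/-- The measure `|A| |C_V(A)|`. -/
noncomputable abbrev meas (V A : Subgroup G) : ℕ :=
  Nat.card A * Nat.card ↥(V ⊓ Subgroup.centralizer (A : Set G))

theorem meas_pos [Finite G] (V A : Subgroup G) : 0 < meas V A :=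
  Nat.mul_pos Nat.card_pos Nat.card_pos

theorem meas_bot (V : Subgroup G) : meas V ⊥ = Nat.card V := by
  rw [meas, EA.centralizer_bot, inf_top_eq, Subgroup.card_bot, one_mul]

/-! ### Commutators with a normalizing subgroup -/

theorem conj_mem {V A : Subgroup G} (hAV : A ≤ Subgroup.normalizer (V : Set G)) {a v : G}
    (ha : a ∈ A) (hv : v ∈ V) : a * v * a⁻¹ ∈ V :=
  Subgroup.le_normalizer_iff.1 hAV a ha v hv

theorem commutator_le {V A U : Subgroup G} (hAV : A ≤ Subgroup.normalizer (V : Set G))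
    (hU : U ≤ V) : ⁅U, A⁆ ≤ V :=
  (Subgroup.commutator_mono hU le_rfl).trans (Subgroup.le_normalizer_iff_commutator_le_left.1 hAV)

theorem commutatorElement_mem {V A : Subgroup G} (hAV : A ≤ Subgroup.normalizer (V : Set G))
    {a v : G} (hv : v ∈ V) (ha : a ∈ A) : ⁅v, a⁆ ∈ V :=
  commutator_le hAV le_rfl (Subgroup.commutator_mem_commutator hv ha)

/-- A subgroup between `[V, A]` and `V` is normalized by `A`. -/
theorem le_normalizer_of_commutator_le {V A W : Subgroup G} (h1 : ⁅V, A⁆ ≤ W) (h2 : W ≤ V) :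
    A ≤ Subgroup.normalizer (W : Set G) :=
  Subgroup.le_normalizer_iff_commutator_le_left.2 ((Subgroup.commutator_mono h2 le_rfl).trans h1)

theorem commutatorElement_mul_left {V A : Subgroup G} (hV : ∀ a ∈ V, ∀ b ∈ V, a * b = b * a)
    (hAV : A ≤ Subgroup.normalizer (V : Set G)) {a u v : G} (hu : u ∈ V) (hv : v ∈ V)
    (ha : a ∈ A) : ⁅u * v, a⁆ = ⁅u, a⁆ * ⁅v, a⁆ := by
  rw [commutatorElement_mul_left_eq_conj_mul, hV u hu _ (commutatorElement_mem hAV hv ha),
    mul_inv_cancel_right]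
  exact hV _ (commutatorElement_mem hAV hv ha) _ (commutatorElement_mem hAV hu ha)

/-- For `a` normalizing the abelian group `V`, the map `v ↦ [v, a]` is an endomorphism of `V`
(here as a homomorphism into the ambient group). -/
def commHom {V : Subgroup G} (hV : ∀ a ∈ V, ∀ b ∈ V, a * b = b * a) {a : G}
    (ha : a ∈ Subgroup.normalizer (V : Set G)) : V →* G :=
  MonoidHom.mk' (fun v => ⁅(v : G), a⁆) fun u v =>
    commutatorElement_mul_left hV le_rfl u.2 v.2 ha

theorem commHom_apply {V : Subgroup G} (hV : ∀ a ∈ V, ∀ b ∈ V, a * b = b * a) {a : G}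
    (ha : a ∈ Subgroup.normalizer (V : Set G)) (v : V) : commHom hV ha v = ⁅(v : G), a⁆ := rfl

theorem commutator_closure_le {V A K : Subgroup G} (hV : ∀ a ∈ V, ∀ b ∈ V, a * b = b * a)
    (hAV : A ≤ Subgroup.normalizer (V : Set G)) {s : Set G} (hs : s ⊆ V)
    (h : ∀ u ∈ s, ∀ a ∈ A, ⁅u, a⁆ ∈ K) : ⁅Subgroup.closure s, A⁆ ≤ K := by
  have hsV : Subgroup.closure s ≤ V := (Subgroup.closure_le _).2 hs
  rw [Subgroup.commutator_le]
  intro u hu a ha
  induction hu using Subgroup.closure_induction with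
  | mem x hx => exact h x hx a ha
  | one => simp
  | mul x y hx hy ihx ihy =>
    rw [commutatorElement_mul_left hV hAV (hsV hx) (hsV hy) ha]
    exact K.mul_mem ihx ihy
  | inv x hx ih =>
    have := map_inv (commHom hV (hAV ha)) ⟨x, hsV hx⟩
    rw [commHom_apply, commHom_apply] at this
    rw [show ⁅x⁻¹, a⁆ = ⁅x, a⁆⁻¹ from this]
    exact K.inv_mem ih

theorem commutator_sup_left {V A U₁ U₂ : Subgroup G} (hV : ∀ a ∈ V, ∀ b ∈ V, a * b = b * a)
    (hAV : A ≤ Subgroup.normalizer (V : Set G)) (h₁ : U₁ ≤ V) (h₂ : U₂ ≤ V) :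
    ⁅U₁ ⊔ U₂, A⁆ = ⁅U₁, A⁆ ⊔ ⁅U₂, A⁆ := by
  refine le_antisymm ?_ (sup_le (Subgroup.commutator_mono le_sup_left le_rfl)
    (Subgroup.commutator_mono le_sup_right le_rfl))
  rw [Subgroup.sup_eq_closure U₁ U₂]
  refine commutator_closure_le hV hAV (Set.union_subset h₁ h₂) ?_
  rintro u (hu | hu) a ha
  · exact Subgroup.mem_sup_left (Subgroup.commutator_mem_commutator hu ha)
  · exact Subgroup.mem_sup_right (Subgroup.commutator_mem_commutator hu ha)

theorem commutator_iSup_left {ι : Sort*} {V A : Subgroup G} {U : ι → Subgroup G}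
    (hV : ∀ a ∈ V, ∀ b ∈ V, a * b = b * a)
    (hAV : A ≤ Subgroup.normalizer (V : Set G)) (h : ∀ i, U i ≤ V) :
    ⁅⨆ i, U i, A⁆ = ⨆ i, ⁅U i, A⁆ := by
  refine le_antisymm ?_ (iSup_le fun i => Subgroup.commutator_mono (le_iSup U i) le_rfl)
  rw [Subgroup.iSup_eq_closure]
  refine commutator_closure_le hV hAV (Set.iUnion_subset h) ?_
  intro u hu a ha
  obtain ⟨i, hi⟩ := Set.mem_iUnion.1 hu
  exact Subgroup.mem_iSup_of_mem i (Subgroup.commutator_mem_commutator hi ha)

/-- `[V, ⟨s⟩] ≤ W` as soon as `[v, a] ∈ W` for the generators `a`, for `W` normal in `V`. -/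
theorem commutator_closure_right_le {V W : Subgroup G} (hWV : W ≤ V)
    (hV : V ≤ Subgroup.normalizer (W : Set G)) {s : Set G}
    (hs : s ⊆ Subgroup.normalizer (V : Set G))
    (h : ∀ v ∈ V, ∀ a ∈ s, ⁅v, a⁆ ∈ W) : ⁅V, Subgroup.closure s⁆ ≤ W := by
  have hsV : Subgroup.closure s ≤ Subgroup.normalizer (V : Set G) := (Subgroup.closure_le _).2 hs
  rw [Subgroup.commutator_le]
  intro v hv a ha
  induction ha using Subgroup.closure_induction generalizing v with
  | mem x hx => exact h v hv x hx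
  | one => simp
  | mul x y hx hy ihx ihy =>
    have e : ⁅v, x * y⁆ = ⁅v, x⁆ * (⁅v, y⁆ * ⁅⁅v, y⁆⁻¹, x⁆) := by
      simp only [commutatorElement_def]
      group
    rw [e]
    exact W.mul_mem (ihx v hv) (W.mul_mem (ihy v hv)
      (ihx _ (V.inv_mem (hWV (ihy v hv)))))
  | inv x hx ih =>
    have hx' : x⁻¹ * v * x⁻¹⁻¹ ∈ V := conj_mem hsV (Subgroup.inv_mem _ hx) hv
    have e : ⁅v, x⁻¹⁆ = v * ⁅(x⁻¹ * v * x⁻¹⁻¹)⁻¹, x⁆ * v⁻¹ := by
      simp only [commutatorElement_def]
      group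
    rw [e]
    exact conj_mem hV hv (ih _ (V.inv_mem hx'))

theorem commutator_iSup_right {ι : Sort*} {V : Subgroup G} {A : ι → Subgroup G}
    (hAV : ∀ i, A i ≤ Subgroup.normalizer (V : Set G)) :
    ⁅V, ⨆ i, A i⁆ = ⨆ i, ⁅V, A i⁆ := by
  refine le_antisymm ?_ (iSup_le fun i => Subgroup.commutator_mono le_rfl (le_iSup A i))
  rw [Subgroup.iSup_eq_closure]
  refine commutator_closure_right_le (iSup_le fun i => commutator_le (hAV i) le_rfl) ?_
    (Set.iUnion_subset hAV) ?_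
  · exact (le_iInf fun i => (Subgroup.normalizer_commutator_ge_left _ _)).trans
      (Subgroup.iInf_normalizer_le_normalizer_iSup _)
  · intro v hv a ha
    obtain ⟨i, hi⟩ := Set.mem_iUnion.1 ha
    exact Subgroup.mem_iSup_of_mem i (Subgroup.commutator_mem_commutator hv hi)

theorem commutator_sup_right {V A B : Subgroup G} (hA : A ≤ Subgroup.normalizer (V : Set G))
    (hB : B ≤ Subgroup.normalizer (V : Set G)) : ⁅V, A ⊔ B⁆ = ⁅V, A⁆ ⊔ ⁅V, B⁆ := by
  refine le_antisymm ?_ (sup_le (Subgroup.commutator_mono le_rfl le_sup_left)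
    (Subgroup.commutator_mono le_rfl le_sup_right))
  rw [Subgroup.sup_eq_closure A B]
  refine commutator_closure_right_le (sup_le (commutator_le hA le_rfl) (commutator_le hB le_rfl))
    (EA.le_normalizer_sup (Subgroup.normalizer_commutator_ge_left _ _)
      (Subgroup.normalizer_commutator_ge_left _ _)) (Set.union_subset hA hB) ?_
  rintro v hv a (ha | ha)
  · exact Subgroup.mem_sup_left (Subgroup.commutator_mem_commutator hv ha)
  · exact Subgroup.mem_sup_right (Subgroup.commutator_mem_commutator hv ha)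

/-- If `[A, A]` centralizes `V` then elements of `A` act on `V` by commuting automorphisms. -/
theorem conj_conj_comm {V A : Subgroup G} (hab : ⁅A, A⁆ ≤ Subgroup.centralizer (V : Set G))
    {a b v : G} (ha : a ∈ A) (hb : b ∈ A) (hv : v ∈ V) :
    a * (b * v * b⁻¹) * a⁻¹ = b * (a * v * a⁻¹) * b⁻¹ := by
  have h := Subgroup.mem_centralizer_iff.1
    (hab (Subgroup.commutator_mem_commutator (A.inv_mem ha) (A.inv_mem hb))) v hv
  rw [commutatorElement_def] at h
  calc a * (b * v * b⁻¹) * a⁻¹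
      = b * a * ((a⁻¹ * b⁻¹ * a⁻¹⁻¹ * b⁻¹⁻¹) * v) * b⁻¹ * a⁻¹ := by group
    _ = b * a * (v * (a⁻¹ * b⁻¹ * a⁻¹⁻¹ * b⁻¹⁻¹)) * b⁻¹ * a⁻¹ := by rw [h]
    _ = _ := by group

/-! ### Nilpotent action of a `p`-group -/

theorem exists_pgroup_supplement [Finite G] [Fact p.Prime] {A C : Subgroup G}
    (hAC : A ≤ Subgroup.normalizer (C : Set G)) (h : ∀ a ∈ A, ∃ k, a ^ p ^ k ∈ C) :
    ∃ P : Subgroup G, P ≤ A ∧ IsPGroup p P ∧ ∀ a ∈ A, ∃ x ∈ P, ∃ c ∈ C, a = x * c := by
  have hn : (C.subgroupOf A).Normal := Subgroup.normal_subgroupOf_of_le_normalizer hAC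
  obtain ⟨S⟩ : Nonempty (Sylow p A) := inferInstance
  have hq : IsPGroup p (A ⧸ C.subgroupOf A) := by
    intro q
    obtain ⟨a, rfl⟩ := QuotientGroup.mk_surjective q
    obtain ⟨k, hk⟩ := h a a.2
    exact ⟨k, by rw [← QuotientGroup.mk_pow, QuotientGroup.eq_one_iff]; exact hk⟩
  have htop : (⊤ : Subgroup (A ⧸ C.subgroupOf A)) =
      (S : Subgroup A).map (QuotientGroup.mk' (C.subgroupOf A)) :=
    (S.mapSurjective (QuotientGroup.mk'_surjective (C.subgroupOf A))).is_maximal'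
      (hq.to_subgroup ⊤) le_top
  refine ⟨(S : Subgroup A).map A.subtype, Subgroup.map_subtype_le _, S.2.map _, fun a ha => ?_⟩
  obtain ⟨x, hx, hxa⟩ : QuotientGroup.mk' (C.subgroupOf A) ⟨a, ha⟩ ∈
      (S : Subgroup A).map (QuotientGroup.mk' (C.subgroupOf A)) := htop ▸ Subgroup.mem_top _
  rw [QuotientGroup.mk'_apply, QuotientGroup.mk'_apply, QuotientGroup.eq] at hxa
  exact ⟨x, ⟨x, hx, rfl⟩, (x : G)⁻¹ * a, hxa, by group⟩

theorem eq_bot_of_le_commutator_of_nilpotent {W P K : Subgroup G} (hK : Group.IsNilpotent K)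
    (hW : W ≤ K) (hP : P ≤ K) (h : W ≤ ⁅W, P⁆) : W = ⊥ := by
  obtain ⟨n, hn⟩ := (Subgroup.isNilpotent_iff_lowerCentralSeries K).1 hK
  have : ∀ m, W ≤ K.lowerCentralSeries m := by
    intro m
    induction m with
    | zero => exact hW
    | succ m ih => exact h.trans (Subgroup.commutator_mono ih hP)
  exact le_bot_iff.1 (hn ▸ this n)

/-- If `A` induces a `p`-group on the `p`-group `W` and `W ≤ [W, A]` then `W = 1`. -/
theorem eq_bot_of_le_commutator [Finite G] [Fact p.Prime] {W A : Subgroup G} (hW : IsPGroup p W)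
    (hAW : A ≤ Subgroup.normalizer (W : Set G))
    (hA : ∀ a ∈ A, ∃ k, a ^ p ^ k ∈ Subgroup.centralizer (W : Set G)) (h : W ≤ ⁅W, A⁆) :
    W = ⊥ := by
  obtain ⟨P, hPA, hP, hdec⟩ := exists_pgroup_supplement (EA.le_normalizer_centralizer hAW) hA
  have hWP : IsPGroup p (W ⊔ P : Subgroup G) := hW.to_sup_of_normal_left' hP (hPA.trans hAW)
  refine eq_bot_of_le_commutator_of_nilpotent hWP.isNilpotent le_sup_left le_sup_right
    (h.trans ?_)
  rw [Subgroup.commutator_le]
  intro w hw a ha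
  obtain ⟨x, hx, c, hc, rfl⟩ := hdec a ha
  have hcw := Subgroup.mem_centralizer_iff.1 hc w⁻¹ (W.inv_mem hw)
  have e : ⁅w, x * c⁆ = ⁅w, x⁆ := by
    simp only [commutatorElement_def]
    calc w * (x * c) * w⁻¹ * (x * c)⁻¹ = w * x * (c * w⁻¹) * c⁻¹ * x⁻¹ := by group
      _ = w * x * (w⁻¹ * c) * c⁻¹ * x⁻¹ := by rw [hcw]
      _ = _ := by group
  rw [e]
  exact Subgroup.commutator_mem_commutator hw hx

/-! ### The Chermak–Delgado argument -/

theorem meas_inf [Finite G] {V A B₁ B₂ : Subgroup G} {m : ℕ} (hmax : ∀ B ≤ A, meas V B ≤ m)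
    (h₁ : B₁ ≤ A) (h₂ : B₂ ≤ A) (m₁ : meas V B₁ = m) (m₂ : meas V B₂ = m) :
    meas V (B₁ ⊓ B₂) = m ∧ meas V (B₁ ⊔ B₂) = m ∧
      V ⊓ Subgroup.centralizer ((B₁ ⊓ B₂ : Subgroup G) : Set G) =
        (V ⊓ Subgroup.centralizer (B₁ : Set G)) ⊔ (V ⊓ Subgroup.centralizer (B₂ : Set G)) := by
  set C₁ := V ⊓ Subgroup.centralizer (B₁ : Set G) with hC₁
  set C₂ := V ⊓ Subgroup.centralizer (B₂ : Set G) with hC₂
  have hinf : C₁ ⊓ C₂ = V ⊓ Subgroup.centralizer ((B₁ ⊔ B₂ : Subgroup G) : Set G) := by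
    rw [EA.centralizer_sup, hC₁, hC₂, ← inf_inf_distrib_left]
  have hsup : C₁ ⊔ C₂ ≤ V ⊓ Subgroup.centralizer ((B₁ ⊓ B₂ : Subgroup G) : Set G) :=
    sup_le (inf_le_inf_left _ (EA.centralizer_anti inf_le_left))
      (inf_le_inf_left _ (EA.centralizer_anti inf_le_right))
  have e1 := EA.card_mul_card_le B₁ B₂
  have e2 := EA.card_mul_card_le C₁ C₂
  have e3 := Subgroup.card_le_of_le hsup
  have e4 := hmax _ (sup_le h₁ h₂)
  have e5 := hmax _ (inf_le_left.trans h₁ : B₁ ⊓ B₂ ≤ A)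
  rw [hinf] at e2
  simp only [meas] at e4 e5 m₁ m₂ ⊢
  have hm : 0 < m := m₁ ▸ meas_pos V B₁
  set a := Nat.card (B₁ ⊓ B₂ : Subgroup G)
  set b := Nat.card (B₁ ⊔ B₂ : Subgroup G)
  set c := Nat.card (V ⊓ Subgroup.centralizer ((B₁ ⊔ B₂ : Subgroup G) : Set G) : Subgroup G)
  set d := Nat.card (C₁ ⊔ C₂ : Subgroup G)
  set e := Nat.card (V ⊓ Subgroup.centralizer ((B₁ ⊓ B₂ : Subgroup G) : Set G) : Subgroup G)
  have ha : 0 < a := Nat.card_pos
  have k1 : m * m ≤ (b * c) * (a * d) := by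
    calc m * m = (Nat.card B₁ * Nat.card B₂) * (Nat.card C₁ * Nat.card C₂) := by
          nth_rewrite 1 [← m₁]
          rw [← m₂]
          ring
      _ ≤ (a * b) * (c * d) := Nat.mul_le_mul e1 e2
      _ = _ := by ring
  have k2 : a * d ≤ a * e := Nat.mul_le_mul_left _ e3
  have k3 : m ≤ a * d := by
    by_contra hlt
    push Not at hlt
    have : (b * c) * (a * d) < m * m :=
      lt_of_le_of_lt (Nat.mul_le_mul_right _ e4) (Nat.mul_lt_mul_of_pos_left hlt hm)
    omega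
  have k4 : m ≤ b * c := by
    by_contra hlt
    push Not at hlt
    have : (b * c) * (a * d) < m * m :=
      lt_of_le_of_lt (Nat.mul_le_mul_left _ (k2.trans e5)) (Nat.mul_lt_mul_of_pos_right hlt hm)
    omega
  refine ⟨by omega, by omega, ?_⟩
  refine (Subgroup.eq_of_le_of_card_ge hsup ?_).symm
  have : a * e ≤ a * d := by omega
  exact Nat.le_of_mul_le_mul_left this ha

/-! ### Replacement -/

/-- The one-element step of Thompson's replacement argument. -/
theorem relIndex_le_of_elem [Finite G] {V A : Subgroup G} (hV : ∀ a ∈ V, ∀ b ∈ V, a * b = b * a)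
    (hAV : A ≤ Subgroup.normalizer (V : Set G))
    (hab : ⁅A, A⁆ ≤ Subgroup.centralizer (V : Set G)) {u : G} (hu : u ∈ V) :
    (A ⊓ Subgroup.centralizer ((⁅Subgroup.zpowers u, A⁆ : Subgroup G) : Set G)).relIndex A ≤
      (V ⊓ Subgroup.centralizer (A : Set G)).relIndex
        (⁅Subgroup.zpowers u, A⁆ ⊔ (V ⊓ Subgroup.centralizer (A : Set G))) := by
  set B := A ⊓ Subgroup.centralizer ((⁅Subgroup.zpowers u, A⁆ : Subgroup G) : Set G) with hB
  set C := V ⊓ Subgroup.centralizer (A : Set G) with hC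
  set Y := ⁅Subgroup.zpowers u, A⁆ ⊔ C with hY
  let f : A → Y ⧸ C.subgroupOf Y := fun a => QuotientGroup.mk
    (⟨⁅u, (a : G)⁆, Subgroup.mem_sup_left
      (Subgroup.commutator_mem_commutator (Subgroup.mem_zpowers u) a.2)⟩ : Y)
  have key : ∀ a b : A, f a = f b → a⁻¹ * b ∈ B.subgroupOf A := by
    intro a b hab'
    have h1 : ⁅u, (a : G)⁆⁻¹ * ⁅u, (b : G)⁆ ∈ C := by
      have := QuotientGroup.eq.1 hab'
      exact this
    have hc : (a : G)⁻¹ * b ∈ A := A.mul_mem (A.inv_mem a.2) b.2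
    set c : G := (a : G)⁻¹ * b with hcdef
    -- `[u, c]` is fixed by `A`
    have h2 : ⁅u, c⁆ ∈ Subgroup.centralizer (A : Set G) := by
      have h3 := Subgroup.mem_centralizer_iff.1 h1.2 a a.2
      have e : ⁅u, c⁆ = (a : G)⁻¹ * (⁅u, (a : G)⁆⁻¹ * ⁅u, (b : G)⁆) * a := by
        simp only [commutatorElement_def, hcdef]
        group
      rw [e, mul_assoc, ← h3, inv_mul_cancel_left]
      exact h1.2
    refine ⟨hc, ?_⟩
    change c ∈ Subgroup.centralizer _
    rw [Subgroup.zpowers_eq_closure, ← Subgroup.zpowers_le, Subgroup.le_centralizer_iff]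
    refine commutator_closure_le hV hAV (by simpa using hu) ?_
    intro u' hu' a' ha'
    rw [Set.mem_singleton_iff.1 hu']
    rw [← Subgroup.zpowers_le, Subgroup.le_centralizer_iff, Subgroup.zpowers_le,
      Subgroup.zpowers_eq_closure, Subgroup.centralizer_closure,
      Subgroup.mem_centralizer_singleton_iff]
    have h4 := Subgroup.mem_centralizer_iff.1 h2 a' ha'
    have h5 := conj_conj_comm hab hc ha' hu
    have hx : c * u * c⁻¹ ∈ V := conj_mem hAV hc hu
    have hy : a' * u * a'⁻¹ ∈ V := conj_mem hAV ha' hu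
    set x := c * u * c⁻¹ with hxdef
    set y := a' * u * a'⁻¹ with hydef
    have h6 : y * (a' * x * a'⁻¹)⁻¹ = u * x⁻¹ := by
      calc y * (a' * x * a'⁻¹)⁻¹ = a' * ⁅u, c⁆ * a'⁻¹ := by
            simp only [commutatorElement_def, hxdef, hydef]
            group
        _ = ⁅u, c⁆ := by rw [h4, mul_inv_cancel_right]
        _ = _ := by
            simp only [commutatorElement_def, hxdef]
            group
    have h7 : c * ⁅u, a'⁆ * c⁻¹ = ⁅u, a'⁆ := by
      calc c * ⁅u, a'⁆ * c⁻¹ = x * (c * y * c⁻¹)⁻¹ := by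
            simp only [commutatorElement_def, hxdef, hydef]
            group
        _ = x * (y⁻¹ * (y * (a' * x * a'⁻¹)⁻¹)) := by rw [h5]; group
        _ = x * (y⁻¹ * u) * x⁻¹ := by rw [h6]; group
        _ = u * y⁻¹ := by
            rw [hV x hx _ (V.mul_mem (V.inv_mem hy) hu), mul_inv_cancel_right,
              hV _ (V.inv_mem hy) u hu]
        _ = _ := by
            simp only [commutatorElement_def, hydef]
            group
    exact mul_inv_eq_iff_eq_mul.1 h7
  refine Nat.card_le_card_of_injective (fun q : A ⧸ B.subgroupOf A => f q.out) ?_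
  intro q q' hq
  rw [← q.out_eq, ← q'.out_eq]
  exact QuotientGroup.eq.2 (key _ _ hq)

/-- Thompson's replacement argument: if `A` maximizes the measure among its subgroups, so does
`C_A([U, A])`, whose fixed points are `[U, A] C_V(A)`. -/
theorem replacement [Finite G] {V A : Subgroup G} (hV : ∀ a ∈ V, ∀ b ∈ V, a * b = b * a)
    (hAV : A ≤ Subgroup.normalizer (V : Set G))
    (hab : ⁅A, A⁆ ≤ Subgroup.centralizer (V : Set G)) (hmax : ∀ B ≤ A, meas V B ≤ meas V A)
    {U : Subgroup G} (hU : U ≤ V) :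
    meas V (A ⊓ Subgroup.centralizer ((⁅U, A⁆ : Subgroup G) : Set G)) = meas V A ∧
      V ⊓ Subgroup.centralizer
          ((A ⊓ Subgroup.centralizer ((⁅U, A⁆ : Subgroup G) : Set G) : Subgroup G) : Set G) =
        ⁅U, A⁆ ⊔ (V ⊓ Subgroup.centralizer (A : Set G)) := by
  classical
  let P : Subgroup G → Prop := fun U =>
    meas V (A ⊓ Subgroup.centralizer ((⁅U, A⁆ : Subgroup G) : Set G)) = meas V A ∧
      V ⊓ Subgroup.centralizer
          ((A ⊓ Subgroup.centralizer ((⁅U, A⁆ : Subgroup G) : Set G) : Subgroup G) : Set G) =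
        ⁅U, A⁆ ⊔ (V ⊓ Subgroup.centralizer (A : Set G))
  have hbot : P ⊥ := by
    simp only [P, Subgroup.commutator_bot_left, EA.centralizer_bot, inf_top_eq, bot_sup_eq,
      and_self]
  have helem : ∀ u ∈ V, P (Subgroup.zpowers u) := by
    intro u hu
    have h1 := relIndex_le_of_elem hV hAV hab hu
    set B := A ⊓ Subgroup.centralizer ((⁅Subgroup.zpowers u, A⁆ : Subgroup G) : Set G) with hB
    set C := V ⊓ Subgroup.centralizer (A : Set G) with hC
    set Y := ⁅Subgroup.zpowers u, A⁆ ⊔ C with hY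
    have hYle : Y ≤ V ⊓ Subgroup.centralizer (B : Set G) :=
      sup_le (le_inf (commutator_le hAV (Subgroup.zpowers_le.2 hu))
        (Subgroup.le_centralizer_iff.1 inf_le_right))
        (inf_le_inf_left _ (EA.centralizer_anti inf_le_left))
    have e1 := EA.card_mul_relIndex (inf_le_left : B ≤ A)
    have e2 := EA.card_mul_relIndex (le_sup_right : C ≤ Y)
    have e3 := Subgroup.card_le_of_le hYle
    have e4 := hmax B inf_le_left
    have hBpos : 0 < Nat.card B := Nat.card_pos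
    have e5 : meas V A ≤ Nat.card B * Nat.card Y := by
      rw [meas, ← e1, ← e2, mul_assoc, mul_comm (B.relIndex A)]
      gcongr
    have e6 : Nat.card B * Nat.card Y ≤ meas V B := Nat.mul_le_mul_left _ e3
    refine ⟨le_antisymm e4 (e5.trans e6), (Subgroup.eq_of_le_of_card_ge hYle ?_).symm⟩
    exact Nat.le_of_mul_le_mul_left (e4.trans e5) hBpos
  have hsup : ∀ U₁ ≤ V, ∀ U₂ ≤ V, P U₁ → P U₂ → P (U₁ ⊔ U₂) := by
    intro U₁ h₁ U₂ h₂ p₁ p₂
    obtain ⟨k1, -, k3⟩ := meas_inf hmax inf_le_left inf_le_left p₁.1 p₂.1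
    have e : A ⊓ Subgroup.centralizer ((⁅U₁ ⊔ U₂, A⁆ : Subgroup G) : Set G) =
        (A ⊓ Subgroup.centralizer ((⁅U₁, A⁆ : Subgroup G) : Set G)) ⊓
          (A ⊓ Subgroup.centralizer ((⁅U₂, A⁆ : Subgroup G) : Set G)) := by
      rw [commutator_sup_left hV hAV h₁ h₂, EA.centralizer_sup, inf_inf_distrib_left]
    refine ⟨by rw [e, k1], ?_⟩
    rw [e, k3, p₁.2, p₂.2, commutator_sup_left hV hAV h₁ h₂, ← sup_sup_distrib_right]
  have hfin : ∀ s : Finset G, (↑s : Set G) ⊆ V → P (Subgroup.closure (s : Set G)) := by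
    intro s
    induction s using Finset.induction_on with
    | empty => intro _; simpa using hbot
    | insert a s _ ih =>
      intro hs
      rw [Finset.coe_insert, Set.insert_subset_iff] at hs
      rw [Finset.coe_insert, Set.insert_eq, Subgroup.closure_union,
        ← Subgroup.zpowers_eq_closure]
      exact hsup _ (Subgroup.zpowers_le.2 hs.1) _ ((Subgroup.closure_le _).2 hs.2)
        (helem a hs.1) (ih hs.2)
  have := hfin (Set.toFinite (U : Set G)).toFinset (by simpa using hU)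
  rwa [Set.Finite.coe_toFinset, Subgroup.closure_eq] at this

theorem isBestOffenderOn_of_le {V A B : Subgroup G} (hA : IsBestOffenderOn p V A) (hBA : B ≤ A)
    (hm : meas V A ≤ meas V B) : IsBestOffenderOn p V B :=
  ⟨fun C hC => (hA.1 C (hC.trans hBA)).trans hm,
    (Subgroup.commutator_mono hBA hBA).trans hA.2.1, fun a ha => hA.2.2 a (hBA ha)⟩

theorem card_le_meas {V A : Subgroup G} (hA : IsBestOffenderOn p V A) : Nat.card V ≤ meas V A :=
  meas_bot V ▸ hA.1 ⊥ bot_le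

/-- Timmesfeld's replacement theorem. -/
theorem timmesfeld [Finite G] [Fact p.Prime] {V A : Subgroup G} (hV : IsElementaryAbelian p V)
    (hAV : A ≤ Subgroup.normalizer (V : Set G)) (hA : IsBestOffenderOn p V A) {U : Subgroup G}
    (hU : U ≤ V) :
    IsBestOffenderOn p V (A ⊓ Subgroup.centralizer ((⁅U, A⁆ : Subgroup G) : Set G)) ∧
      V ⊓ Subgroup.centralizer
          ((A ⊓ Subgroup.centralizer ((⁅U, A⁆ : Subgroup G) : Set G) : Subgroup G) : Set G) =
        ⁅U, A⁆ ⊔ (V ⊓ Subgroup.centralizer (A : Set G)) ∧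
      (⁅V, A⁆ ≠ ⊥ → ⁅V, A ⊓ Subgroup.centralizer ((⁅U, A⁆ : Subgroup G) : Set G)⁆ ≠ ⊥) := by
  obtain ⟨h1, h2⟩ := replacement (EA.iff.1 hV).1 hAV hA.2.1 hA.1 hU
  refine ⟨isBestOffenderOn_of_le hA inf_le_left h1.ge, h2, fun hne hc => hne ?_⟩
  rw [Subgroup.commutator_eq_bot_iff_le_centralizer] at hc
  rw [inf_eq_left.2 hc] at h2
  have hVA : ⁅V, A⁆ ≤ V := commutator_le hAV le_rfl
  refine eq_bot_of_le_commutator ((EA.isPGroup hV).to_le hVA)
    (Subgroup.normalizer_commutator_ge_right _ _)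
    (fun a ha => ⟨1, EA.centralizer_anti hVA (by simpa using hA.2.2 a ha)⟩) ?_
  nth_rewrite 1 [h2]
  rw [commutator_sup_left (EA.iff.1 hV).1 hAV (commutator_le hAV hU) inf_le_left,
    Subgroup.commutator_eq_bot_iff_le_centralizer.2 inf_le_right, sup_bot_eq]
  exact Subgroup.commutator_mono (Subgroup.commutator_mono hU le_rfl) le_rfl

/-! ### Members of `𝒜(U)` -/

/-- Members of `𝒜(U)` are best offenders on every elementary abelian `V ≤ U`. -/
theorem isBestOffenderOn_of_mem_maxIn [Finite G] {U V A : Subgroup G} (hVU : V ≤ U)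
    (hV : IsElementaryAbelian p V)
    (hA : A ∈ Thompson.maxIn p U) : IsBestOffenderOn p V A := by
  refine ⟨fun B hB => ?_, by rw [EA.commutator_self hA.2.1]; exact bot_le,
    fun a ha => by rw [hA.2.1.2 a ha]; exact Subgroup.one_mem _⟩
  have hc : B ≤ Subgroup.centralizer ((V ⊓ Subgroup.centralizer (B : Set G) : Subgroup G) : Set G) :=
    Subgroup.le_centralizer_iff.1 inf_le_right
  have h1 := hA.2.2 (B ⊔ (V ⊓ Subgroup.centralizer (B : Set G)))
    (sup_le (hB.trans hA.1) (inf_le_left.trans hVU))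
    (EA.sup (EA.mono hA.2.1 hB) (EA.mono hV inf_le_left) hc)
  have h2 : B ⊓ (V ⊓ Subgroup.centralizer (B : Set G)) ≤ V ⊓ Subgroup.centralizer (A : Set G) :=
    le_inf (inf_le_right.trans inf_le_left)
      ((inf_le_left.trans hB).trans (EA.le_centralizer hA.2.1))
  rw [EA.card_mul_card_eq (EA.le_normalizer_of_le_centralizer hc), mul_comm]
  exact Nat.mul_le_mul h1 (Subgroup.card_le_of_le h2)

/-- For `A ∈ 𝒜(U)` and `V` an elementary abelian subgroup of `U`, `C_V(A) = A ∩ V`. -/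
theorem inf_centralizer_eq_of_mem_maxIn [Finite G] {U V A : Subgroup G} (hVU : V ≤ U)
    (hV : IsElementaryAbelian p V) (hA : A ∈ Thompson.maxIn p U) :
    V ⊓ Subgroup.centralizer (A : Set G) = V ⊓ A :=
  le_antisymm (le_inf inf_le_left (Thompson.le_of_centralizes hA (inf_le_left.trans hVU)
    (EA.mono hV inf_le_left) inf_le_right)) (inf_le_inf_left _ (EA.le_centralizer hA.2.1))

/-- If `B ≤ A ∈ 𝒜(U)` has the same measure as `A` then `B C_V(B) ∈ 𝒜(U)`. -/
theorem sup_mem_maxIn_of_meas [Finite G] {U V A B : Subgroup G} (hVU : V ≤ U)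
    (hV : IsElementaryAbelian p V) (hA : A ∈ Thompson.maxIn p U) (hB : B ≤ A)
    (hm : meas V A ≤ meas V B) :
    B ⊔ (V ⊓ Subgroup.centralizer (B : Set G)) ∈ Thompson.maxIn p U := by
  have hc : B ≤ Subgroup.centralizer ((V ⊓ Subgroup.centralizer (B : Set G) : Subgroup G) : Set G) :=
    Subgroup.le_centralizer_iff.1 inf_le_right
  refine Thompson.mem_maxIn_of_card_le hA (sup_le (hB.trans hA.1) (inf_le_left.trans hVU))
    (EA.sup (EA.mono hA.2.1 hB) (EA.mono hV inf_le_left) hc) ?_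
  have h2 : B ⊓ (V ⊓ Subgroup.centralizer (B : Set G)) ≤ V ⊓ Subgroup.centralizer (A : Set G) :=
    le_inf (inf_le_right.trans inf_le_left)
      ((inf_le_left.trans hB).trans (EA.le_centralizer hA.2.1))
  rw [meas, meas, EA.card_mul_card_eq (EA.le_normalizer_of_le_centralizer hc), mul_comm] at hm
  have hpos : 0 < Nat.card (V ⊓ Subgroup.centralizer (A : Set G) : Subgroup G) := Nat.card_pos
  exact Nat.le_of_mul_le_mul_left
    (hm.trans (Nat.mul_le_mul_right _ (Subgroup.card_le_of_le h2))) hpos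

/-- Thompson's replacement theorem for `𝒜(U)`. -/
theorem thompson_replacement [Finite G] [Fact p.Prime] {U V A : Subgroup G} (hVU : V ≤ U)
    (hUV : U ≤ Subgroup.normalizer (V : Set G)) (hV : IsElementaryAbelian p V)
    (hA : A ∈ Thompson.maxIn p U) :
    (⁅V, A⁆ ⊔ (A ⊓ Subgroup.centralizer ((⁅V, A⁆ : Subgroup G) : Set G))) ∈ Thompson.maxIn p U ∧
      ⁅⁅V, ⁅V, A⁆ ⊔ (A ⊓ Subgroup.centralizer ((⁅V, A⁆ : Subgroup G) : Set G))⁆,
        ⁅V, A⁆ ⊔ (A ⊓ Subgroup.centralizer ((⁅V, A⁆ : Subgroup G) : Set G))⁆ = ⊥ ∧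
      (⁅V, A⁆ ≠ ⊥ →
        ⁅V, ⁅V, A⁆ ⊔ (A ⊓ Subgroup.centralizer ((⁅V, A⁆ : Subgroup G) : Set G))⁆ ≠ ⊥) := by
  have hAV : A ≤ Subgroup.normalizer (V : Set G) := hA.1.trans hUV
  have hbest := isBestOffenderOn_of_mem_maxIn hVU hV hA
  obtain ⟨h1, h2⟩ := replacement (EA.iff.1 hV).1 hAV hbest.2.1 hbest.1 (le_refl V)
  obtain ⟨-, -, h3⟩ := timmesfeld hV hAV hbest (le_refl V)
  set B := A ⊓ Subgroup.centralizer ((⁅V, A⁆ : Subgroup G) : Set G) with hB
  have hVA : ⁅V, A⁆ ≤ V := commutator_le hAV le_rfl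
  have hmem := sup_mem_maxIn_of_meas hVU hV hA (inf_le_left : B ≤ A) h1.ge
  have hCB : V ⊓ Subgroup.centralizer (A : Set G) ≤ B := by
    rw [inf_centralizer_eq_of_mem_maxIn hVU hV hA]
    exact le_inf inf_le_right (EA.le_centralizer_of_le hV inf_le_left hVA)
  have e : B ⊔ (V ⊓ Subgroup.centralizer (B : Set G)) = ⁅V, A⁆ ⊔ B := by
    rw [h2, sup_comm ⁅V, A⁆, ← sup_assoc, sup_eq_left.2 hCB, sup_comm]
  rw [e] at hmem
  have hle : ⁅V, ⁅V, A⁆ ⊔ B⁆ ≤ ⁅V, A⁆ := by
    rw [commutator_sup_right (hVA.trans Subgroup.le_normalizer) (inf_le_left.trans hAV),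
      Subgroup.commutator_eq_bot_iff_le_centralizer.2 (EA.le_centralizer_of_le hV le_rfl hVA),
      bot_sup_eq]
    exact Subgroup.commutator_mono le_rfl inf_le_left
  refine ⟨hmem, ?_, fun hne hc => h3 hne (le_bot_iff.1 ?_)⟩
  · rw [Subgroup.commutator_eq_bot_iff_le_centralizer]
    exact EA.le_centralizer_of_le hmem.2.1 (hle.trans le_sup_left) le_rfl
  · rw [← hc]
    exact Subgroup.commutator_mono le_rfl le_sup_right

end CL.Offender
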