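import Cfsg.Agent.PLocal.Cores

/-!
`p`-solvable (= `p`-separable) groups: closure properties of `Cfsg.IsPSolvable`, and the
Hall–Higman lemma 1.2.3.
-/

set_option autoImplicit false

open Cfsg
open scoped commutatorElement

namespace CL.PL

universe u

variable {G : Type*} [Group G] {H : Type*} [Group H] {p : ℕ}

/-- `M` is a `p`-group or a `p'`-group modulo `K`, elementwise. -/
def PFactor (p : ℕ) (K M : Subgroup G) : Prop :=
  (∀ x ∈ M, ∃ k : ℕ, x ^ p ^ k ∈ K) ∨ (∀ x ∈ M, ∃ m : ℕ, m.Coprime p ∧ x ^ m ∈ K)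

theorem PFactor.comap {K M : Subgroup H} (h : PFactor p K M) (f : G →* H) :
    PFactor p (K.comap f) (M.comap f) := by
  rcases h with h | h
  · left
    intro x hx
    obtain ⟨k, hk⟩ := h _ hx
    exact ⟨k, by simpa using hk⟩
  · right
    intro x hx
    obtain ⟨k, hk, hk'⟩ := h _ hx
    exact ⟨k, hk, by simpa using hk'⟩

theorem PFactor.map {K M : Subgroup G} (h : PFactor p K M) (f : G →* H) :
    PFactor p (K.map f) (M.map f) := by
  rcases h with h | h
  · left
    rintro _ ⟨x, hx, rfl⟩
    obtain ⟨k, hk⟩ := h _ hx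
    exact ⟨k, by rw [← map_pow]; exact Subgroup.mem_map_of_mem f hk⟩
  · right
    rintro _ ⟨x, hx, rfl⟩
    obtain ⟨k, hk, hk'⟩ := h _ hx
    exact ⟨k, hk, by rw [← map_pow]; exact Subgroup.mem_map_of_mem f hk'⟩

theorem pFactor_of_le {K M : Subgroup G} (h : M ≤ K) : PFactor p K M :=
  Or.inl fun x hx => ⟨0, by simpa using h hx⟩

theorem pFactor_iff [Finite G] [Fact p.Prime] (K M : Subgroup G) [K.Normal] :
    PFactor p K M ↔ (∃ m : ℕ, K.relIndex M = p ^ m) ∨ (K.relIndex M).Coprime p := by
  rw [relIndex_eq_pow_iff, relIndex_coprime_iff, PFactor]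

theorem pFactor_bot_iff [Finite G] [Fact p.Prime] (M : Subgroup G) :
    PFactor p ⊥ M ↔ IsPGroup p M ∨ (Nat.card M).Coprime p := by
  rw [isPGroup_subgroup_iff, coprime_card_subgroup_iff', PFactor]
  simp only [Subgroup.mem_bot]

/-- `ℕ`-indexed, elementwise form of `p`-solvability. -/
theorem isPSolvable_iff_nat [Finite G] [Fact p.Prime] :
    IsPSolvable p G ↔ ∃ (n : ℕ) (K : ℕ → Subgroup G), K 0 = ⊥ ∧ K n = ⊤ ∧ Monotone K ∧
      (∀ i, (K i).Normal) ∧ ∀ i, PFactor p (K i) (K (i + 1)) := by
  constructor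
  · rintro ⟨n, K, h0, hn, hm, hN, hf⟩
    refine ⟨n, fun i => K ⟨min i n, by omega⟩, by simpa using h0, ?_, ?_, fun i => hN _, ?_⟩
    · rw [← hn]; exact congrArg K (Fin.ext (by simp))
    · intro i j hij
      exact hm (by simp only [Fin.mk_le_mk]; omega)
    · intro i
      by_cases hi : i < n
      · have := hN (Fin.castSucc ⟨i, hi⟩)
        have h := (pFactor_iff _ _).2 (hf ⟨i, hi⟩)
        convert h using 2
        · ext; simp; omega
        · ext; simp; omega
      · apply pFactor_of_le
        apply le_of_eq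
        exact congrArg K (Fin.ext (by simp; omega))
  · rintro ⟨n, K, h0, hn, hm, hN, hf⟩
    refine ⟨n, fun i => K i, by simpa using h0, by simpa using hn, fun i j hij => hm hij,
      fun i => hN _, fun i => ?_⟩
    have := hN i
    simpa using (pFactor_iff _ _).1 (hf i)

theorem isPSolvable_of_injective [Finite H] [Fact p.Prime] (h : IsPSolvable p H) (f : G →* H)
    (hf : Function.Injective f) : IsPSolvable p G := by
  have : Finite G := Finite.of_injective f hf
  obtain ⟨n, K, h0, hn, hm, hN, hF⟩ := isPSolvable_iff_nat.1 h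
  refine isPSolvable_iff_nat.2 ⟨n, fun i => (K i).comap f, ?_, by simp [hn],
    fun i j hij => Subgroup.comap_mono (hm hij), fun i => (hN i).comap f,
    fun i => (hF i).comap f⟩
  simp only [h0, MonoidHom.comap_bot]
  exact f.ker_eq_bot hf

theorem isPSolvable_of_surjective [Finite G] [Fact p.Prime] (h : IsPSolvable p G) (f : G →* H)
    (hf : Function.Surjective f) : IsPSolvable p H := by
  have : Finite H := Finite.of_surjective f hf
  obtain ⟨n, K, h0, hn, hm, hN, hF⟩ := isPSolvable_iff_nat.1 h
  refine isPSolvable_iff_nat.2 ⟨n, fun i => (K i).map f, by simp [h0], ?_,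
    fun i j hij => Subgroup.map_mono (hm hij), fun i => (hN i).map f hf,
    fun i => (hF i).map f⟩
  simp only [hn]
  exact Subgroup.map_top_of_surjective f hf

theorem isPSolvable_of_equiv [Finite G] [Fact p.Prime] (h : IsPSolvable p G) (e : G ≃* H) :
    IsPSolvable p H :=
  isPSolvable_of_surjective h e.toMonoidHom e.surjective

theorem isPSolvable_subgroup [Finite G] [Fact p.Prime] (h : IsPSolvable p G) (K : Subgroup G) :
    IsPSolvable p K :=
  isPSolvable_of_injective h K.subtype K.subtype_injective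

theorem isPSolvable_of_le [Finite G] [Fact p.Prime] {K L : Subgroup G} (h : IsPSolvable p L)
    (hKL : K ≤ L) : IsPSolvable p K :=
  isPSolvable_of_injective h (Subgroup.inclusion hKL) (Subgroup.inclusion_injective hKL)

theorem isPSolvable_quotient [Finite G] [Fact p.Prime] (h : IsPSolvable p G) (N : Subgroup G)
    [N.Normal] : IsPSolvable p (G ⧸ N) :=
  isPSolvable_of_surjective h _ (QuotientGroup.mk'_surjective N)

theorem isPSolvable_map [Finite G] [Fact p.Prime] {K : Subgroup G} (h : IsPSolvable p K)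
    (f : G →* H) : IsPSolvable p (K.map f) :=
  isPSolvable_of_surjective h (f.subgroupMap K) (f.subgroupMap_surjective K)

/-- In a `p`-solvable group every nontrivial normal subgroup contains a nontrivial normal subgroup
that is a `p`-group or a `p'`-group. -/
theorem IsPSolvable.exists_normal_le [Finite G] [Fact p.Prime] (h : IsPSolvable p G)
    (N : Subgroup G) [N.Normal] (hN : N ≠ ⊥) :
    ∃ M : Subgroup G, M.Normal ∧ M ≤ N ∧ M ≠ ⊥ ∧ (IsPGroup p M ∨ (Nat.card M).Coprime p) := by
  classical
  obtain ⟨n, K, h0, hn, -, hK, hF⟩ := isPSolvable_iff_nat.1 h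
  have hex : ∃ i, N ⊓ K i ≠ ⊥ := ⟨n, by simpa [hn] using hN⟩
  have hi := Nat.find_spec hex
  obtain ⟨j, hj⟩ : ∃ j, Nat.find hex = j + 1 := by
    refine Nat.exists_eq_add_one_of_ne_zero fun h => hi ?_
    simp [h, h0]
  have hj' : N ⊓ K j = ⊥ := by
    by_contra hne
    exact Nat.find_min hex (by omega : j < Nat.find hex) hne
  rw [hj] at hi
  have := hK (j + 1)
  refine ⟨N ⊓ K (j + 1), inferInstance, inf_le_left, hi, ?_⟩
  rw [← pFactor_bot_iff, ← hj']
  rcases hF j with h | h
  · left
    rintro x ⟨hxN, hx⟩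
    obtain ⟨k, hk⟩ := h x hx
    exact ⟨k, N.pow_mem hxN _, hk⟩
  · right
    rintro x ⟨hxN, hx⟩
    obtain ⟨k, hk, hk'⟩ := h x hx
    exact ⟨k, hk, N.pow_mem hxN _, hk'⟩

theorem IsPSolvable.core_ne_bot [Finite G] [Fact p.Prime] [Nontrivial G] (h : IsPSolvable p G) :
    pCore p G ≠ ⊥ ∨ pPrimeCore p G ≠ ⊥ := by
  obtain ⟨M, hM, -, hM1, hM2⟩ := IsPSolvable.exists_normal_le h ⊤ top_ne_bot
  rcases hM2 with h | h
  · left
    intro hb
    exact hM1 (le_bot_iff.1 (hb ▸ le_pCore hM h))
  · right
    intro hb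
    exact hM1 (le_bot_iff.1 (hb ▸ le_pPrimeCore hM h))

theorem isPSolvable_of_ker_pFactor [Finite G] [Fact p.Prime] (f : G →* H)
    (hk : IsPGroup p f.ker ∨ (Nat.card f.ker).Coprime p) [Finite H] (h : IsPSolvable p H) :
    IsPSolvable p G := by
  obtain ⟨n, K, h0, hn, hm, hN, hF⟩ := isPSolvable_iff_nat.1 h
  refine isPSolvable_iff_nat.2 ⟨n + 1, fun i => Nat.casesOn i ⊥ fun j => (K j).comap f, rfl,
    by simp [hn], ?_, ?_, ?_⟩
  · refine monotone_nat_of_le_succ fun i => ?_
    cases i with
    | zero => exact bot_le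
    | succ j => exact Subgroup.comap_mono (hm (Nat.le_succ j))
  · intro i
    cases i with
    | zero => exact inferInstanceAs (⊥ : Subgroup G).Normal
    | succ j => exact (hN j).comap f
  · intro i
    cases i with
    | zero =>
      show PFactor p ⊥ ((K 0).comap f)
      rw [h0, MonoidHom.comap_bot, pFactor_bot_iff]
      exact hk
    | succ j => exact (hF j).comap f

theorem isPSolvable_of_subsingleton [Subsingleton G] : IsPSolvable p G :=
  ⟨0, fun _ => ⊥, rfl, Subsingleton.elim _ _, monotone_const, fun _ => inferInstance,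
    fun i => i.elim0⟩

theorem isPSolvable_of_isPGroup [Finite G] [Fact p.Prime] (h : IsPGroup p G) :
    IsPSolvable p G :=
  isPSolvable_of_ker_pFactor (1 : G →* Unit) (Or.inl (h.to_subgroup _))
    isPSolvable_of_subsingleton

theorem isPSolvable_of_coprime [Finite G] [Fact p.Prime] (h : (Nat.card G).Coprime p) :
    IsPSolvable p G :=
  isPSolvable_of_ker_pFactor (1 : G →* Unit)
    (Or.inr (Nat.Coprime.coprime_dvd_left (Subgroup.card_subgroup_dvd_card _) h))
    isPSolvable_of_subsingleton

theorem isPSolvable_of_quotient [Finite G] [Fact p.Prime] (N : Subgroup G) [N.Normal]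
    (hk : IsPGroup p N ∨ (Nat.card N).Coprime p) (h : IsPSolvable p (G ⧸ N)) :
    IsPSolvable p G :=
  isPSolvable_of_ker_pFactor (QuotientGroup.mk' N) (by rwa [QuotientGroup.ker_mk']) h

theorem card_quotient_lt [Finite G] {N : Subgroup G} (hN : N ≠ ⊥) :
    Nat.card (G ⧸ N) < Nat.card G := by
  rw [← Subgroup.index_eq_card, ← N.index_mul_card]
  have h1 : 1 < Nat.card N := (Subgroup.one_lt_card_iff_ne_bot N).2 hN
  have h2 : 0 < N.index := Nat.pos_of_ne_zero Subgroup.index_ne_zero_of_finite
  nlinarith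

theorem card_lt_of_ne_top [Finite G] {N : Subgroup G} (hN : N ≠ ⊤) :
    Nat.card N < Nat.card G := by
  rw [← N.index_mul_card]
  have h1 : 1 < N.index := Subgroup.one_lt_index_of_ne_top hN
  have h2 : 0 < Nat.card N := Nat.card_pos
  nlinarith

theorem card_lt_of_lt [Finite G] {A B : Subgroup G} (h : A < B) : Nat.card A < Nat.card B := by
  have h1 : A.subgroupOf B ≠ ⊤ := fun h2 => h.not_ge (Subgroup.subgroupOf_eq_top.1 h2)
  have := card_lt_of_ne_top h1
  rwa [Nat.card_congr (Subgroup.subgroupOfEquivOfLe h.le).toEquiv] at this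

/-- Criterion: every nontrivial homomorphic image has a nontrivial core. -/
theorem isPSolvable_of_forall_quotient [Fact p.Prime] {G : Type u} [Group G] [Finite G]
    (h : ∀ (N : Subgroup G) [N.Normal], N ≠ ⊤ →
      pCore p (G ⧸ N) ≠ ⊥ ∨ pPrimeCore p (G ⧸ N) ≠ ⊥) : IsPSolvable p G := by
  have key : ∀ (n : ℕ) (N : Subgroup G) [N.Normal], N.index = n → IsPSolvable p (G ⧸ N) := by
    intro n
    induction n using Nat.strong_induction_on with
    | _ n ih =>
      intro N _ hn
      by_cases hN : N = ⊤
      · subst hN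
        have := QuotientGroup.subsingleton_quotient_top (G := G)
        exact isPSolvable_of_subsingleton
      · obtain ⟨M, hM, hM1, hM2⟩ : ∃ M : Subgroup (G ⧸ N), M.Normal ∧ M ≠ ⊥ ∧
            (IsPGroup p M ∨ (Nat.card M).Coprime p) := by
          rcases h N hN with h | h
          · exact ⟨_, inferInstance, h, Or.inl (pCore_isPGroup _ _)⟩
          · exact ⟨_, inferInstance, h, Or.inr (pPrimeCore_coprime _ _)⟩
        refine isPSolvable_of_quotient M hM2 ?_
        let f : G →* (G ⧸ N) ⧸ M := (QuotientGroup.mk' M).comp (QuotientGroup.mk' N)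
        have hf : Function.Surjective f :=
          (QuotientGroup.mk'_surjective M).comp (QuotientGroup.mk'_surjective N)
        let e := QuotientGroup.quotientKerEquivOfSurjective f hf
        refine isPSolvable_of_equiv (ih f.ker.index ?_ f.ker rfl) e
        rw [Subgroup.index_eq_card, Nat.card_congr e.toEquiv, ← hn, Subgroup.index_eq_card]
        exact card_quotient_lt hM1
  exact isPSolvable_of_equiv (key _ ⊥ rfl) QuotientGroup.quotientBot

/-- Extensions of `p`-solvable groups are `p`-solvable. -/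
theorem isPSolvable_of_ker [Finite G] [Fact p.Prime] (f : G →* H) [Finite H]
    (hk : IsPSolvable p f.ker) (h : IsPSolvable p H) : IsPSolvable p G := by
  refine isPSolvable_of_forall_quotient fun N _ hN => ?_
  by_cases hle : f.ker ≤ N
  · have : Nontrivial (G ⧸ N) := QuotientGroup.nontrivial_iff.2 hN
    refine IsPSolvable.core_ne_bot ?_
    have h1 : IsPSolvable p (G ⧸ f.ker) :=
      isPSolvable_of_injective h _ (QuotientGroup.kerLift_injective f)
    refine isPSolvable_of_surjective h1 (QuotientGroup.map f.ker N (MonoidHom.id G) hle) ?_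
    intro x
    obtain ⟨x, rfl⟩ := QuotientGroup.mk_surjective x
    exact ⟨QuotientGroup.mk x, rfl⟩
  · let M := f.ker.map (QuotientGroup.mk' N)
    have hM : M.Normal := Subgroup.Normal.map inferInstance _ (QuotientGroup.mk'_surjective N)
    have hM1 : M ≠ ⊥ := by
      intro h
      rw [Subgroup.map_eq_bot_iff, QuotientGroup.ker_mk'] at h
      exact hle h
    have : Nontrivial M := (Subgroup.nontrivial_iff_ne_bot M).2 hM1
    rcases IsPSolvable.core_ne_bot (isPSolvable_map hk (QuotientGroup.mk' N) : IsPSolvable p M)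
      with h | h
    · exact Or.inl fun hb => h (pCore_eq_bot_of_normal hb)
    · exact Or.inr fun hb => h (pPrimeCore_eq_bot_of_normal hb)

theorem isPSolvable_of_normal_of_quotient [Finite G] [Fact p.Prime] (N : Subgroup G) [N.Normal]
    (hN : IsPSolvable p N) (h : IsPSolvable p (G ⧸ N)) : IsPSolvable p G :=
  isPSolvable_of_ker (QuotientGroup.mk' N) (by rwa [QuotientGroup.ker_mk']) h

theorem isPSolvable_of_isMulCommutative [Finite G] [hp : Fact p.Prime] [IsMulCommutative G] :
    IsPSolvable p G := by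
  obtain ⟨S⟩ : Nonempty (Sylow p G) := inferInstance
  have : (S : Subgroup G).Normal := Subgroup.normal_of_isMulCommutative _
  refine isPSolvable_of_quotient S (Or.inl S.isPGroup') (isPSolvable_of_coprime ?_)
  rw [← Subgroup.index_eq_card, Nat.coprime_comm, hp.out.coprime_iff_not_dvd]
  exact S.not_dvd_index

/-- Solvable groups are `p`-solvable. -/
theorem isPSolvable_of_isSolvable [Finite G] [Fact p.Prime] [h : Group.IsSolvable G] :
    IsPSolvable p G := by
  obtain ⟨n, hn⟩ := h
  have key : ∀ i, IsPSolvable p (G ⧸ derivedSeries G i) := by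
    intro i
    induction i with
    | zero =>
      have : Subsingleton (G ⧸ derivedSeries G 0) := QuotientGroup.subsingleton_quotient_top
      exact isPSolvable_of_subsingleton
    | succ i ih =>
      have hle : derivedSeries G (i + 1) ≤ derivedSeries G i := Subgroup.commutator_le_self _
      let f := QuotientGroup.map (derivedSeries G (i + 1)) (derivedSeries G i) (MonoidHom.id G) hle
      refine isPSolvable_of_ker f ?_ ih
      have : IsMulCommutative f.ker := by
        refine ⟨⟨?_⟩⟩
        rintro ⟨a, ha⟩ ⟨b, hb⟩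
        obtain ⟨a, rfl⟩ := QuotientGroup.mk_surjective a
        obtain ⟨b, rfl⟩ := QuotientGroup.mk_surjective b
        have ha' : a ∈ derivedSeries G i := (QuotientGroup.eq_one_iff a).1 ha
        have hb' : b ∈ derivedSeries G i := (QuotientGroup.eq_one_iff b).1 hb
        apply Subtype.ext
        show (QuotientGroup.mk a * QuotientGroup.mk b : G ⧸ derivedSeries G (i + 1)) =
          QuotientGroup.mk b * QuotientGroup.mk a
        rw [← commutatorElement_eq_one_iff_mul_comm]
        have : ((⁅a, b⁆ : G) : G ⧸ derivedSeries G (i + 1)) = 1 :=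
          (QuotientGroup.eq_one_iff _).2 (Subgroup.commutator_mem_commutator ha' hb')
        exact this
      exact isPSolvable_of_isMulCommutative
  have h1 := key n
  refine isPSolvable_of_injective h1 (QuotientGroup.mk' _) ?_
  rw [← MonoidHom.ker_eq_bot_iff, QuotientGroup.ker_mk', hn]

/-- If a normal subgroup `K` of `G` has a central Sylow `p`-subgroup `Z` (a `p`-subgroup, central
in `K`, of index prime to `p`) and `O_{p'}(G) = 1`, then `K = Z`. -/
theorem le_of_central_of_pPrimeCore_eq_bot [Finite G] [Fact p.Prime] (hO : pPrimeCore p G = ⊥)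
    {K Z : Subgroup G} [K.Normal] (hZ : IsPGroup p Z)
    (hc : Z ≤ Subgroup.centralizer (K : Set G)) (hi : (Z.relIndex K).Coprime p) : K ≤ Z := by
  have hZc : Z.subgroupOf K ≤ Subgroup.center K := by
    intro z hz
    rw [Subgroup.mem_center_iff]
    intro k
    exact Subtype.ext (hc hz k k.2)
  have hZn : (Z.subgroupOf K).Normal := ⟨fun z hz g => by
    rw [Subgroup.mem_center_iff.1 (hZc hz) g, mul_inv_cancel_right]; exact hz⟩
  have hZp : IsPGroup p (Z.subgroupOf K) := hZ.comap_subtype
  obtain ⟨e, he⟩ := IsPGroup.iff_card.1 hZp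
  obtain ⟨L, hL⟩ := Subgroup.exists_right_complement'_of_coprime (N := Z.subgroupOf K)
    (by rw [he]; exact (Nat.Coprime.pow_right e hi).symm)
  have hLn : L.Normal := by
    refine ⟨fun l hl g => ?_⟩
    obtain ⟨⟨z, y⟩, h, -⟩ := hL.existsUnique g
    simp only at h
    have hz := Subgroup.mem_center_iff.1 (hZc z.2)
    have : g * l * g⁻¹ = y * l * (y : K)⁻¹ := by
      rw [← h, ← hz y, mul_inv_rev, mul_assoc (y : K), ← hz l]
      group
    rw [this]
    exact L.mul_mem (L.mul_mem y.2 hl) (L.inv_mem y.2)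
  have hLc : (Nat.card L).Coprime p := by
    rw [← hL.symm.index_eq_card]
    exact hi
  have hL1 : L = ⊥ := le_bot_iff.1
    (pPrimeCore_eq_bot_of_normal (N := K) hO ▸ le_pPrimeCore hLn hLc)
  have := hL.sup_eq_top
  rw [hL1, sup_bot_eq] at this
  exact Subgroup.subgroupOf_eq_top.1 this

/-- Hall–Higman 1.2.3, relative form: if `O_{p'}(G) = 1` and `C_G(O_p(G))` is `p`-solvable, then
`C_G(O_p(G)) ≤ O_p(G)`. -/
theorem centralizer_pCore_le_of_isPSolvable_centralizer [Finite G] [Fact p.Prime]
    (hO : pPrimeCore p G = ⊥) (h : IsPSolvable p (Subgroup.centralizer (pCore p G : Set G))) :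
    Subgroup.centralizer (pCore p G : Set G) ≤ pCore p G := by
  set C := Subgroup.centralizer (pCore p G : Set G) with hC
  set π := QuotientGroup.mk' (pCore p G) with hπ
  have hπs : Function.Surjective π := QuotientGroup.mk'_surjective _
  by_contra hle
  let M := C.map π
  have hM : M.Normal := Subgroup.Normal.map inferInstance _ hπs
  have hM1 : M ≠ ⊥ := by
    intro h
    rw [Subgroup.map_eq_bot_iff, QuotientGroup.ker_mk'] at h
    exact hle h
  have : Nontrivial M := (Subgroup.nontrivial_iff_ne_bot M).2 hM1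
  rcases IsPSolvable.core_ne_bot (isPSolvable_map h π : IsPSolvable p M) with h | h
  · exact h (pCore_eq_bot_of_normal (pCore_quotient_pCore p G))
  · let L := (pPrimeCore p M).map M.subtype
    have hL : L.Normal := pPrimeCore_map_subtype_normal M
    have hLc : (Nat.card L).Coprime p := coprime_card_map _ (pPrimeCore_coprime p M)
    let K := C ⊓ L.comap π
    have hK : K ≤ C ⊓ pCore p G := by
      refine le_of_central_of_pPrimeCore_eq_bot hO (pCore_isPGroup p G).to_inf_right ?_ ?_
      · rintro z ⟨-, hz⟩ k ⟨hk, -⟩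
        exact (hk z hz).symm
      · rw [relIndex_coprime_iff]
        rintro x ⟨hxC, hxL⟩
        obtain ⟨m, hm, hxm⟩ := (coprime_card_subgroup_iff' L).1 hLc _ hxL
        refine ⟨m, hm, C.pow_mem hxC _, ?_⟩
        rwa [← map_pow, hπ, QuotientGroup.mk'_apply, QuotientGroup.eq_one_iff] at hxm
    apply h
    rw [← Subgroup.map_eq_bot_iff_of_injective _ M.subtype_injective, eq_bot_iff]
    intro y hy
    obtain ⟨x, hx, rfl⟩ : y ∈ M := Subgroup.map_subtype_le _ hy
    have := (hK ⟨hx, hy⟩).2
    rw [Subgroup.mem_bot, hπ, QuotientGroup.mk'_apply, QuotientGroup.eq_one_iff]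
    exact this

/-- **Hall–Higman 1.2.3**: a `p`-solvable group with `O_{p'}(G) = 1` has characteristic `p`. -/
theorem centralizer_pCore_le_of_isPSolvable [Finite G] [Fact p.Prime] (h : IsPSolvable p G)
    (hO : pPrimeCore p G = ⊥) : Subgroup.centralizer (pCore p G : Set G) ≤ pCore p G :=
  centralizer_pCore_le_of_isPSolvable_centralizer hO (isPSolvable_subgroup h _)

end CL.PL
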