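import Cfsg.Agent.Base

/-!
# Quadratic action, elementary facts (ambient-subgroup form)
-/

set_option autoImplicit false

namespace CL.Quad

open Subgroup
open scoped commutatorElement

variable {G : Type*} [Group G]

/-- From the subgroup form `[V, ⟨a⟩, ⟨a⟩] = 1` to the element form. -/
theorem commute_of_quadratic {V : Subgroup G} {a : G}
    (hq : ⁅⁅V, zpowers a⁆, zpowers a⁆ = ⊥) {v : G} (hv : v ∈ V) :
    Commute a (a * v * a⁻¹ * v⁻¹) := by
  have h1 : a * v * a⁻¹ * v⁻¹ ∈ ⁅V, zpowers a⁆ := by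
    rw [Subgroup.commutator_comm]
    exact commutator_mem_commutator (mem_zpowers a) hv
  have h2 := commutator_mem_commutator h1 (mem_zpowers a)
  rw [hq, mem_bot, commutatorElement_eq_one_iff_commute] at h2
  exact h2.symm

/-- If `a` commutes with `c = a v a⁻¹ v⁻¹` then `a^k v a^{-k} = c^k v`. -/
theorem pow_conj_eq_of_commute {a v : G} (h : Commute a (a * v * a⁻¹ * v⁻¹)) (k : ℕ) :
    a ^ k * v * (a ^ k)⁻¹ = (a * v * a⁻¹ * v⁻¹) ^ k * v := by
  set c := a * v * a⁻¹ * v⁻¹ with hc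
  have hv : a * v * a⁻¹ = c * v := by rw [hc]; group
  induction k with
  | zero => simp
  | succ k ih =>
    have h1 : a ^ (k + 1) * v * (a ^ (k + 1))⁻¹ = a * (a ^ k * v * (a ^ k)⁻¹) * a⁻¹ := by group
    have h2 : a * c ^ k = c ^ k * a := (h.pow_right k).eq
    rw [h1, ih, ← mul_assoc, h2, pow_succ]
    calc c ^ k * a * v * a⁻¹ = c ^ k * (a * v * a⁻¹) := by group
      _ = c ^ k * c * v := by rw [hv]; group

/-- The element form of quadratic action implies the subgroup form. -/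
theorem quadratic_of_commute {V : Subgroup G} {a : G} (ha : a ∈ normalizer (V : Set G))
    (h : ∀ v ∈ V, Commute a (a * v * a⁻¹ * v⁻¹)) :
    ⁅⁅V, zpowers a⁆, zpowers a⁆ = ⊥ := by
  rw [commutator_eq_bot_iff_le_centralizer, Subgroup.commutator_comm, commutator_le]
  intro x hx v hv
  have key : Commute a ⁅x, v⁆ := by
    obtain ⟨k, rfl⟩ := mem_zpowers_iff.mp hx
    rw [commutatorElement_def]
    rcases Int.eq_nat_or_neg k with ⟨n, rfl | rfl⟩
    · rw [zpow_natCast, pow_conj_eq_of_commute (h v hv) n, mul_inv_cancel_right]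
      exact (h v hv).pow_right n
    · have hw : (a ^ n)⁻¹ * v * a ^ n ∈ V :=
        (mem_normalizer_iff''.mp (pow_mem ha n) v).mp hv
      have h1 := pow_conj_eq_of_commute (h _ hw) n
      set c := a * ((a ^ n)⁻¹ * v * a ^ n) * a⁻¹ * ((a ^ n)⁻¹ * v * a ^ n)⁻¹
      have h2 : a ^ (-(n : ℤ)) * v * (a ^ (-(n : ℤ)))⁻¹ * v⁻¹ = (c ^ n)⁻¹ := by
        rw [zpow_neg, zpow_natCast, inv_inv]
        have h3 : v = c ^ n * ((a ^ n)⁻¹ * v * a ^ n) := by rw [← h1]; group
        have h4 : (c ^ n)⁻¹ * v = (a ^ n)⁻¹ * v * a ^ n := by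
          rw [inv_mul_eq_iff_eq_mul]; exact h3
        rw [← h4, mul_inv_cancel_right]
      rw [h2]
      exact ((h _ hw).pow_right n).inv_right
  rw [mem_centralizer_iff]
  intro y hy
  obtain ⟨k, rfl⟩ := mem_zpowers_iff.mp hy
  exact (key.zpow_left k).eq

/-- A quadratically acting element has its `n`-th power centralizing `V` when `V` has exponent
dividing `n`. -/
theorem pow_mem_centralizer_of_commute {V : Subgroup G} {a : G} {n : ℕ}
    (hV : ∀ v ∈ V, v ^ n = 1) (ha : a ∈ normalizer (V : Set G))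
    (h : ∀ v ∈ V, Commute a (a * v * a⁻¹ * v⁻¹)) : a ^ n ∈ centralizer (V : Set G) := by
  rw [mem_centralizer_iff]
  intro v hv
  have hc : a * v * a⁻¹ * v⁻¹ ∈ V :=
    V.mul_mem ((mem_normalizer_iff.mp ha v).mp hv) (V.inv_mem hv)
  have h1 := pow_conj_eq_of_commute (h v hv) n
  rw [hV _ hc, one_mul, mul_inv_eq_iff_eq_mul] at h1
  exact h1.symm

theorem pow_mem_centralizer_of_quadratic {V : Subgroup G} {a : G} {n : ℕ}
    (hV : ∀ v ∈ V, v ^ n = 1) (ha : a ∈ normalizer (V : Set G))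
    (hq : ⁅⁅V, zpowers a⁆, zpowers a⁆ = ⊥) : a ^ n ∈ centralizer (V : Set G) :=
  pow_mem_centralizer_of_commute hV ha fun _ hv => commute_of_quadratic hq hv

/-- `[V, H, H] = 1` gives `[H, H] ≤ C(V)` (three subgroups lemma). -/
theorem commutator_le_centralizer_of_quadratic {V H : Subgroup G} (hq : ⁅⁅V, H⁆, H⁆ = ⊥) :
    ⁅H, H⁆ ≤ centralizer (V : Set G) := by
  rw [← commutator_eq_bot_iff_le_centralizer]
  refine commutator_commutator_eq_bot_of_rotate ?_ hq
  rw [Subgroup.commutator_comm H V]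
  exact hq

theorem quadratic_zpowers_of_quadratic {V H : Subgroup G} (hq : ⁅⁅V, H⁆, H⁆ = ⊥) {a : G}
    (ha : a ∈ H) : ⁅⁅V, zpowers a⁆, zpowers a⁆ = ⊥ := by
  have h : zpowers a ≤ H := (zpowers_le).mpr ha
  exact le_bot_iff.mp (hq ▸ commutator_mono (commutator_mono le_rfl h) h)

/-- Conjugating a quadratic element by an element normalizing `V` gives a quadratic element. -/
theorem quadratic_conj {V : Subgroup G} {a g : G} (hg : g ∈ normalizer (V : Set G))
    (hq : ⁅⁅V, zpowers a⁆, zpowers a⁆ = ⊥) :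
    ⁅⁅V, zpowers (g * a * g⁻¹)⁆, zpowers (g * a * g⁻¹)⁆ = ⊥ := by
  have h1 : V.map (MulAut.conj g).toMonoidHom = V := mem_normalizer_iff_map_conj_eq.mp hg
  have h2 : (zpowers a).map (MulAut.conj g).toMonoidHom = zpowers (g * a * g⁻¹) := by
    rw [MonoidHom.map_zpowers]; rfl
  have h3 := congrArg (Subgroup.map (MulAut.conj g).toMonoidHom) hq
  rwa [map_commutator, map_commutator, h1, h2, Subgroup.map_bot] at h3

/-- The quadratic condition passes to images under homomorphisms. -/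
theorem quadratic_map {G' : Type*} [Group G'] (f : G →* G') {V N : Subgroup G} {a : G}
    (hN : N ≤ f.ker) (hq : ⁅⁅V, zpowers a⁆, zpowers a⁆ ≤ N) :
    ⁅⁅V.map f, zpowers (f a)⁆, zpowers (f a)⁆ = ⊥ := by
  rw [← MonoidHom.map_zpowers, ← map_commutator, ← map_commutator, Subgroup.map_eq_bot_iff]
  exact hq.trans hN

theorem quadratic_mono {V W : Subgroup G} {a : G} (h : W ≤ V)
    (hq : ⁅⁅V, zpowers a⁆, zpowers a⁆ = ⊥) : ⁅⁅W, zpowers a⁆, zpowers a⁆ = ⊥ :=
  le_bot_iff.mp (hq ▸ commutator_mono (commutator_mono h le_rfl) le_rfl)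

end CL.Quad
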