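import Cfsg.Agent.Base

/-!
# Sections: `Involves G X` means that `X` is a quotient of a subgroup of `G`
-/

set_option autoImplicit false

namespace CL

open Subgroup

/-- `X` is isomorphic to a section of `G`. -/
def Involves (G X : Type*) [Group G] [Group X] : Prop :=
  ∃ (K : Subgroup G) (f : K →* X), Function.Surjective f

namespace Involves

variable {G G' X X' : Type*} [Group G] [Group G'] [Group X] [Group X']

theorem of_surjective (f : G →* X) (hf : Function.Surjective f) : Involves G X :=
  ⟨⊤, f.comp (⊤ : Subgroup G).subtype, fun x => by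
    obtain ⟨g, rfl⟩ := hf x
    exact ⟨⟨g, mem_top g⟩, rfl⟩⟩

theorem refl (G : Type*) [Group G] : Involves G G := of_surjective (MonoidHom.id G) fun x => ⟨x, rfl⟩

theorem of_mulEquiv (e : G ≃* X) : Involves G X := of_surjective e.toMonoidHom e.surjective

theorem of_injective (f : X →* G) (hf : Function.Injective f) : Involves G X :=
  ⟨f.range, (MonoidHom.ofInjective hf).symm.toMonoidHom, (MonoidHom.ofInjective hf).symm.surjective⟩

theorem subgroup (K : Subgroup G) : Involves G K := of_injective K.subtype K.subtype_injective

theorem quotient (N : Subgroup G) [N.Normal] : Involves G (G ⧸ N) :=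
  of_surjective (QuotientGroup.mk' N) (QuotientGroup.mk'_surjective N)

theorem trans (h₁ : Involves G G') (h₂ : Involves G' X) : Involves G X := by
  obtain ⟨K, f, hf⟩ := h₁
  obtain ⟨L, g, hg⟩ := h₂
  let M : Subgroup K := L.comap f
  let f' : M →* L := f.subgroupComap L
  have hf' : Function.Surjective f' := f.subgroupComap_surjective_of_surjective L hf
  let e := M.equivMapOfInjective K.subtype K.subtype_injective
  exact ⟨M.map K.subtype, (g.comp f').comp e.symm.toMonoidHom,
    (hg.comp hf').comp e.symm.surjective⟩

theorem of_le {H K : Subgroup G} (h : H ≤ K) (hH : Involves H X) : Involves K X :=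
  (of_injective (Subgroup.inclusion h) (Subgroup.inclusion_injective h)).trans hH

theorem of_subgroup {H : Subgroup G} (hH : Involves H X) : Involves G X := (subgroup H).trans hH

theorem of_quotient {N : Subgroup G} [N.Normal] (h : Involves (G ⧸ N) X) : Involves G X :=
  (quotient N).trans h

/-- A subgroup of a homomorphic image is involved in the corresponding subgroup. -/
theorem map (f : G →* G') (H : Subgroup G) : Involves H (H.map f) :=
  of_surjective (f.subgroupMap H) (f.subgroupMap_surjective H)

theorem of_map {f : G →* G'} {H : Subgroup G} (h : Involves (H.map f) X) : Involves H X :=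
  (map f H).trans h

theorem range (f : G →* G') : Involves G f.range :=
  of_surjective f.rangeRestrict f.rangeRestrict_surjective

theorem mk_of_le {H L : Subgroup G} (h : L ≤ H) (f : L →* X) (hf : Function.Surjective f) :
    Involves H X :=
  of_le h (of_surjective f hf)

theorem finite [Finite G] (h : Involves G X) : Finite X := by
  obtain ⟨K, f, hf⟩ := h
  exact Finite.of_surjective f hf

theorem card_dvd (h : Involves G X) : Nat.card X ∣ Nat.card G := by
  obtain ⟨K, f, hf⟩ := h
  exact (card_dvd_of_surjective f hf).trans (card_subgroup_dvd_card K)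

theorem isSolvable [Group.IsSolvable G] (h : Involves G X) : Group.IsSolvable X := by
  obtain ⟨K, f, hf⟩ := h
  exact Group.isSolvable_of_surjective hf

/-- The form in which the statements write a section of a subgroup `H`. -/
theorem iff_section_le (H : Subgroup G) : Involves H X ↔
    ∃ (K L : Subgroup G) (_ : (L.subgroupOf K).Normal), K ≤ H ∧
      Nonempty ((K ⧸ L.subgroupOf K) ≃* X) := by
  constructor
  · rintro ⟨K, f, hf⟩
    let e := K.equivMapOfInjective H.subtype H.subtype_injective
    let g : K.map H.subtype →* X := f.comp e.symm.toMonoidHom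
    have hg : Function.Surjective g := hf.comp e.symm.surjective
    have h1 : (g.ker.map (K.map H.subtype).subtype).subgroupOf (K.map H.subtype) = g.ker :=
      comap_map_eq_self_of_injective (Subgroup.subtype_injective _) _
    have hn : ((g.ker.map (K.map H.subtype).subtype).subgroupOf (K.map H.subtype)).Normal := by
      rw [h1]; infer_instance
    exact ⟨K.map H.subtype, g.ker.map (K.map H.subtype).subtype, hn, map_subtype_le K,
      ⟨(QuotientGroup.quotientMulEquivOfEq h1).trans
        (QuotientGroup.quotientKerEquivOfSurjective g hg)⟩⟩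
  · rintro ⟨K, L, hL, hK, ⟨e⟩⟩
    exact mk_of_le hK (e.toMonoidHom.comp (QuotientGroup.mk' _))
      (e.surjective.comp (QuotientGroup.mk'_surjective _))

/-- The form in which the statements write a section of the whole group. -/
theorem iff_section : Involves G X ↔
    ∃ (K L : Subgroup G) (_ : (L.subgroupOf K).Normal), Nonempty ((K ⧸ L.subgroupOf K) ≃* X) := by
  constructor
  · intro h
    obtain ⟨K, L, hL, -, e⟩ := (iff_section_le ⊤).mp ((of_mulEquiv Subgroup.topEquiv).trans h)
    exact ⟨K, L, hL, e⟩
  · rintro ⟨K, L, hL, e⟩
    exact of_subgroup ((iff_section_le ⊤).mpr ⟨K, L, hL, le_top, e⟩)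

/-- Abelian Sylow subgroups pass to sections. -/
theorem isMulCommutative_of_isPGroup [Finite G] {p : ℕ} [Fact p.Prime] (h : Involves G X)
    (hG : ∀ T : Sylow p G, IsMulCommutative T) (Q : Subgroup X) (hQ : IsPGroup p Q) :
    IsMulCommutative Q := by
  obtain ⟨K, f, hf⟩ := h
  have := Finite.of_surjective f hf
  obtain ⟨S, hS⟩ := hQ.exists_le_sylow
  obtain ⟨R, hR⟩ := Sylow.mapSurjective_surjective hf p S
  have hR' : IsPGroup p ((R : Subgroup K).map K.subtype) := R.isPGroup'.map _
  obtain ⟨T, hT⟩ := hR'.exists_le_sylow
  have := hG T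
  refine ⟨⟨fun x y => ?_⟩⟩
  have hx : (x : X) ∈ (R : Subgroup K).map f := by
    have := hS x.2
    rwa [← hR] at this
  have hy : (y : X) ∈ (R : Subgroup K).map f := by
    have := hS y.2
    rwa [← hR] at this
  obtain ⟨x', hx', hx⟩ := hx
  obtain ⟨y', hy', hy⟩ := hy
  have h1 := congrArg Subtype.val
    (mul_comm' (⟨x', hT (mem_map_of_mem _ hx')⟩ : T) ⟨y', hT (mem_map_of_mem _ hy')⟩)
  have h2 : x' * y' = y' * x' := Subtype.ext h1
  apply Subtype.ext
  change (x : X) * y = y * x
  rw [← hx, ← hy, ← map_mul, h2, map_mul]

theorem isMulCommutative_sylow [Finite G] {p : ℕ} [Fact p.Prime] (h : Involves G X)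
    (hG : ∀ T : Sylow p G, IsMulCommutative T) (S : Sylow p X) : IsMulCommutative S :=
  h.isMulCommutative_of_isPGroup hG S S.isPGroup'

end Involves

/-- One abelian Sylow subgroup makes all of them abelian. -/
theorem isMulCommutative_sylow_of_one {G : Type*} [Group G] [Finite G] {p : ℕ} [Fact p.Prime]
    {T : Sylow p G} (hT : IsMulCommutative T) (S : Sylow p G) : IsMulCommutative S := by
  let e := Sylow.equiv T S
  refine ⟨⟨fun x y => e.symm.injective ?_⟩⟩
  rw [map_mul, map_mul, mul_comm']

end CL
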