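import Cfsg.Agent.Base

/-!
# Two square-zero endomorphisms

If `A² = B² = 0` then `c = AB + BA` commutes with `A` and `B`.  If `c` is nilpotent, the group
generated by `1 + A`, `1 + B` is unipotent.  Otherwise there is an invariant subspace on which
`1 + A`, `1 + B` act as the two standard transvections of `SL(2, K)` for a field `K`.
-/

set_option autoImplicit false

namespace CL.Quad

open Matrix Polynomial
open scoped MatrixGroups

/-- The upper transvection `!![1, l; 0, 1]`. -/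
abbrev upT {K : Type*} [CommRing K] (l : K) : SL(2, K) :=
  SpecialLinearGroup.transvection (zero_ne_one : (0 : Fin 2) ≠ 1) l

/-- The lower transvection `!![1, 0; l, 1]`. -/
abbrev loT {K : Type*} [CommRing K] (l : K) : SL(2, K) :=
  SpecialLinearGroup.transvection (one_ne_zero : (1 : Fin 2) ≠ 0) l

theorem upT_coe {K : Type*} [CommRing K] (l : K) :
    (upT l : Matrix (Fin 2) (Fin 2) K) = !![1, l; 0, 1] := by
  ext i j; fin_cases i <;> fin_cases j <;> simp [SpecialLinearGroup.transvection_coe]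

theorem loT_coe {K : Type*} [CommRing K] (l : K) :
    (loT l : Matrix (Fin 2) (Fin 2) K) = !![1, 0; l, 1] := by
  ext i j; fin_cases i <;> fin_cases j <;> simp [SpecialLinearGroup.transvection_coe]

theorem sl_smul_eq_mulVec {K : Type*} [CommRing K] {n : Type*} [Fintype n] [DecidableEq n]
    (m : SpecialLinearGroup n K) (x : n → K) : m • x = (m : Matrix n n K) *ᵥ x := rfl

theorem upT_smul {K : Type*} [CommRing K] (l : K) (x : Fin 2 → K) :
    upT l • x = ![x 0 + l * x 1, x 1] := by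
  rw [sl_smul_eq_mulVec, upT_coe]; ext i; fin_cases i <;> simp [Matrix.mulVec, dotProduct]

theorem loT_smul {K : Type*} [CommRing K] (l : K) (x : Fin 2 → K) :
    loT l • x = ![x 0, l * x 0 + x 1] := by
  rw [sl_smul_eq_mulVec, loT_coe]; ext i; fin_cases i <;> simp [Matrix.mulVec, dotProduct]

theorem sl_eq_of_smul_eq {K : Type*} [CommRing K] {n : Type*} [Fintype n] [DecidableEq n]
    {m m' : SpecialLinearGroup n K} (h : ∀ x : n → K, m • x = m' • x) : m = m' :=
  Subtype.ext (Matrix.mulVec_injective (funext h))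

section Ring

variable {R : Type*} [Ring R] {A B : R}

theorem commute_anticomm_left (hA : A * A = 0) : Commute A (A * B + B * A) := by
  change A * (A * B + B * A) = (A * B + B * A) * A
  rw [mul_add, add_mul, ← mul_assoc, hA, zero_mul, zero_add, mul_assoc B A A, hA, mul_zero,
    add_zero, mul_assoc]

theorem commute_anticomm_right (hB : B * B = 0) : Commute B (A * B + B * A) := by
  rw [add_comm]; exact commute_anticomm_left hB

end Ring

/-- The two-dimensional invariant subspace when `AB + BA` is a nonzero scalar. -/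
theorem exists_plane_of_scalar {K E : Type*} [Field K] [AddCommGroup E] [Module K E]
    [Nontrivial E] (A B : E →ₗ[K] E) (hA : ∀ x, A (A x) = 0) (hB : ∀ x, B (B x) = 0)
    (l : K) (hl : l ≠ 0) (hc : ∀ x, A (B x) + B (A x) = l • x) :
    ∃ ι : (Fin 2 → K) →ₗ[K] E, Function.Injective ι ∧
      (∀ x, ι (upT l • x) = ι x + A (ι x)) ∧
      (∀ x, ι (loT (1 : K) • x) = ι x + B (ι x)) := by
  obtain ⟨w, hw0, hw⟩ : ∃ w : E, w ≠ 0 ∧ A w = 0 := by
    obtain ⟨y, hy⟩ := exists_ne (0 : E)
    by_cases h : A y = 0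
    · exact ⟨y, hy, h⟩
    · exact ⟨A y, h, hA y⟩
  have hABw : A (B w) = l • w := by rw [← hc w, hw, map_zero, add_zero]
  let ι : (Fin 2 → K) →ₗ[K] E :=
    (LinearMap.toSpanSingleton K E w).comp (LinearMap.proj 0) +
      (LinearMap.toSpanSingleton K E (B w)).comp (LinearMap.proj 1)
  have hι : ∀ x, ι x = x 0 • w + x 1 • B w := fun x => rfl
  refine ⟨ι, ?_, ?_, ?_⟩
  · rw [injective_iff_map_eq_zero]
    intro x hx
    rw [hι] at hx
    have h1 := congrArg A hx
    rw [map_add, map_smul, map_smul, hw, hABw, smul_zero, zero_add, map_zero, smul_smul,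
      smul_eq_zero] at h1
    have h2 : x 1 = 0 := by
      rcases h1 with h1 | h1
      · exact (mul_eq_zero.mp h1).resolve_right hl
      · exact absurd h1 hw0
    rw [h2, zero_smul, add_zero, smul_eq_zero] at hx
    ext i; fin_cases i
    · exact hx.resolve_right hw0
    · exact h2
  · intro x
    rw [upT_smul, hι, hι, map_add, map_smul, map_smul, hw, hABw]
    simp only [Matrix.cons_val_zero, Matrix.cons_val_one, smul_zero, zero_add, add_smul, smul_smul]
    rw [mul_comm l]; abel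
  · intro x
    rw [loT_smul, hι, hι, map_add, map_smul, map_smul, hB]
    simp only [Matrix.cons_val_zero, Matrix.cons_val_one, smul_zero, add_zero, add_smul, one_mul]
    abel

/-- The graph construction: if each generator of `H` acts on the image of `ι` as some element of
`M`, these elements assemble to a homomorphism. -/
theorem exists_hom_of_generators {H M V W : Type*} [Group H] [Group M] [MulAction M W]
    (hM : ∀ m m' : M, (∀ x : W, m • x = m' • x) → m = m')
    (ρ : H → V → V) (ρ_one : ∀ v, ρ 1 v = v) (ρ_mul : ∀ g h v, ρ (g * h) v = ρ g (ρ h v))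
    (ι : W → V) (hι : Function.Injective ι) (S : Set H) (hS : Subgroup.closure S = ⊤)
    (h : ∀ s ∈ S, ∃ m : M, ∀ x, ι (m • x) = ρ s (ι x)) :
    ∃ φ : H →* M, ∀ g x, ι (φ g • x) = ρ g (ι x) := by
  have hall : ∀ g : H, ∃ m : M, ∀ x, ι (m • x) = ρ g (ι x) := by
    intro g
    have hg : g ∈ Subgroup.closure S := hS ▸ Subgroup.mem_top g
    induction hg using Subgroup.closure_induction with
    | mem s hs => exact h s hs
    | one => exact ⟨1, fun x => by rw [one_smul, ρ_one]⟩
    | mul g₁ g₂ _ _ h₁ h₂ =>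
      obtain ⟨m₁, h₁⟩ := h₁
      obtain ⟨m₂, h₂⟩ := h₂
      exact ⟨m₁ * m₂, fun x => by rw [mul_smul, h₁, h₂, ρ_mul]⟩
    | inv g _ h₁ =>
      obtain ⟨m, h₁⟩ := h₁
      refine ⟨m⁻¹, fun x => ?_⟩
      have h2 := h₁ (m⁻¹ • x)
      rw [smul_inv_smul] at h2
      rw [h2, ← ρ_mul, inv_mul_cancel, ρ_one]
  choose f hf using hall
  refine ⟨MonoidHom.mk' f fun g₁ g₂ => hM _ _ fun x => hι ?_, hf⟩
  rw [hf, mul_smul, hf, hf, ρ_mul]

/-- If `AB + BA` is nilpotent then the group generated by `1 + A`, `1 + B` is unipotent. -/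
theorem isNilpotent_sub_one_of_anticomm {k V : Type*} [CommRing k] [AddCommGroup V] [Module k V]
    {H : Type*} [Group H] (ρ : H →* Module.End k V) (a b : H)
    (hab : Subgroup.closure {a, b} = ⊤)
    (ha : (ρ a - 1) * (ρ a - 1) = 0) (hb : (ρ b - 1) * (ρ b - 1) = 0)
    (hc : IsNilpotent ((ρ a - 1) * (ρ b - 1) + (ρ b - 1) * (ρ a - 1))) (h : H) :
    IsNilpotent (ρ h - 1) := by
  set A := ρ a - 1 with hAdef
  set B := ρ b - 1 with hBdef
  set c := A * B + B * A with hcdef
  have hAc : Commute A c := commute_anticomm_left ha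
  have hBc : Commute B c := commute_anticomm_right hb
  let V₁ : Submodule k V := LinearMap.range A ⊔ LinearMap.range B
  let V₂ : Submodule k V := LinearMap.range (A * B) ⊔ LinearMap.range c
  let V₃ : Submodule k V := LinearMap.range c
  -- the stability condition
  let P : Module.End k V → Prop := fun X =>
    (∀ v, X v ∈ V₁) ∧ (∀ v ∈ V₁, X v ∈ V₂) ∧ (∀ v ∈ V₂, X v ∈ V₃) ∧ (∀ v ∈ V₃, X v ∈ V₃) ∧
      Commute X c
  have h32 : V₃ ≤ V₂ := le_sup_right
  have h21 : V₂ ≤ V₁ := by
    refine sup_le ?_ ?_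
    · rintro _ ⟨v, rfl⟩; exact Submodule.mem_sup_left ⟨B v, rfl⟩
    · rintro _ ⟨v, rfl⟩
      exact V₁.add_mem (Submodule.mem_sup_left ⟨B v, rfl⟩) (Submodule.mem_sup_right ⟨A v, rfl⟩)
  have hc3 : ∀ X : Module.End k V, Commute X c → ∀ v ∈ V₃, X v ∈ V₃ := by
    rintro X hX _ ⟨v, rfl⟩
    exact ⟨X v, by rw [← Module.End.mul_apply, ← hX.eq, Module.End.mul_apply]⟩
  have hAA : ∀ v, A (A v) = 0 := fun v => by rw [← Module.End.mul_apply, ha]; rfl
  have hBB : ∀ v, B (B v) = 0 := fun v => by rw [← Module.End.mul_apply, hb]; rfl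
  have hcv : ∀ v, c v = A (B v) + B (A v) := fun v => rfl
  have hPA : P A := by
    refine ⟨fun v => Submodule.mem_sup_left ⟨v, rfl⟩, fun v hv => ?_, fun v hv => ?_,
      hc3 A hAc, hAc⟩
    · obtain ⟨_, ⟨x, rfl⟩, _, ⟨y, rfl⟩, rfl⟩ := Submodule.mem_sup.mp hv
      rw [map_add, hAA, zero_add]
      exact Submodule.mem_sup_left ⟨y, rfl⟩
    · obtain ⟨_, ⟨x, rfl⟩, z, hz, rfl⟩ := Submodule.mem_sup.mp hv
      rw [map_add, Module.End.mul_apply, hAA, zero_add]
      exact hc3 A hAc z hz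
  have hPB : P B := by
    refine ⟨fun v => Submodule.mem_sup_right ⟨v, rfl⟩, fun v hv => ?_, fun v hv => ?_,
      hc3 B hBc, hBc⟩
    · obtain ⟨_, ⟨x, rfl⟩, _, ⟨y, rfl⟩, rfl⟩ := Submodule.mem_sup.mp hv
      rw [map_add, hBB, add_zero]
      have : B (A x) = c x - (A * B) x := by rw [hcv, Module.End.mul_apply]; abel
      rw [this]
      exact V₂.sub_mem (Submodule.mem_sup_right ⟨x, rfl⟩) (Submodule.mem_sup_left ⟨x, rfl⟩)
    · obtain ⟨_, ⟨x, rfl⟩, z, hz, rfl⟩ := Submodule.mem_sup.mp hv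
      rw [map_add, Module.End.mul_apply]
      refine V₃.add_mem ⟨B x, ?_⟩ (hc3 B hBc z hz)
      rw [hcv, hBB, map_zero, zero_add]
  have hPneg : ∀ X, P X → P (-X) := fun X hX =>
    ⟨fun v => V₁.neg_mem (hX.1 v), fun v hv => V₂.neg_mem (hX.2.1 v hv),
      fun v hv => V₃.neg_mem (hX.2.2.1 v hv), fun v hv => V₃.neg_mem (hX.2.2.2.1 v hv),
      hX.2.2.2.2.neg_left⟩
  have hPmul : ∀ X Y, P X → P Y → P ((1 + X) * (1 + Y) - 1) := by
    intro X Y hX hY
    have e : (1 + X) * (1 + Y) - 1 = X + Y + X * Y := by noncomm_ring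
    rw [e]
    refine ⟨fun v => ?_, fun v hv => ?_, fun v hv => ?_, fun v hv => ?_, ?_⟩
    · exact V₁.add_mem (V₁.add_mem (hX.1 v) (hY.1 v)) (hX.1 _)
    · exact V₂.add_mem (V₂.add_mem (hX.2.1 v hv) (hY.2.1 v hv)) (hX.2.1 _ (h21 (hY.2.1 v hv)))
    · exact V₃.add_mem (V₃.add_mem (hX.2.2.1 v hv) (hY.2.2.1 v hv))
        (hX.2.2.1 _ (h32 (hY.2.2.1 v hv)))
    · exact V₃.add_mem (V₃.add_mem (hX.2.2.2.1 v hv) (hY.2.2.2.1 v hv))
        (hX.2.2.2.1 _ (hY.2.2.2.1 v hv))
    · exact (hX.2.2.2.2.add_left hY.2.2.2.2).add_left (hX.2.2.2.2.mul_left hY.2.2.2.2)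
  have hinv : ∀ g : H, (ρ g - 1) * (ρ g - 1) = 0 → ρ g⁻¹ - 1 = -(ρ g - 1) := by
    intro g hg
    have h1 : ρ g⁻¹ * ρ g = 1 := by rw [← map_mul, inv_mul_cancel, map_one]
    have h2 : ρ g * (2 - ρ g) = 1 := by
      have : ρ g * (2 - ρ g) = 1 - (ρ g - 1) * (ρ g - 1) := by noncomm_ring
      rw [this, hg, sub_zero]
    have h3 : ρ g⁻¹ = 2 - ρ g := by
      rw [← mul_one (ρ g⁻¹), ← h2, ← mul_assoc, h1, one_mul]
    rw [h3, ← one_add_one_eq_two]; abel
  have hP : P (ρ h - 1) := by
    have hg : h ∈ Subgroup.closure {a, b} := hab ▸ Subgroup.mem_top h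
    induction hg using Subgroup.closure_induction'' with
    | mem x hx =>
      rcases hx with rfl | rfl
      · exact hPA
      · exact hPB
    | inv_mem x hx =>
      rcases hx with rfl | rfl
      · rw [hinv _ ha]; exact hPneg _ hPA
      · rw [hinv _ hb]; exact hPneg _ hPB
    | one =>
      rw [map_one, sub_self]
      exact ⟨fun v => V₁.zero_mem, fun v _ => V₂.zero_mem, fun v _ => V₃.zero_mem,
        fun v _ => V₃.zero_mem, Commute.zero_left _⟩
    | mul x y _ _ hx hy =>
      have := hPmul _ _ hx hy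
      rwa [add_sub_cancel, add_sub_cancel, ← map_mul] at this
  set X := ρ h - 1
  obtain ⟨n, hn⟩ := hc
  have key : ∀ m : ℕ, ∀ v, ∃ w, (X ^ (3 * m)) v = (c ^ m) w := by
    intro m
    induction m with
    | zero => intro v; exact ⟨v, by simp⟩
    | succ m ih =>
      intro v
      obtain ⟨w, hw⟩ : X (X (X v)) ∈ V₃ := hP.2.2.1 _ (hP.2.1 _ (hP.1 v))
      obtain ⟨w', hw'⟩ := ih w
      refine ⟨w', ?_⟩
      have e1 : X ^ (3 * (m + 1)) = X ^ (3 * m) * (X * X * X) := by
        rw [mul_add, pow_add]; simp [pow_succ]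
      have e2 : X ^ (3 * m) * c = c * X ^ (3 * m) := (hP.2.2.2.2.pow_left _).eq
      rw [e1, Module.End.mul_apply, Module.End.mul_apply, Module.End.mul_apply, ← hw,
        ← Module.End.mul_apply, e2, Module.End.mul_apply, hw', pow_succ', Module.End.mul_apply]
  refine ⟨3 * n, ?_⟩
  ext v
  obtain ⟨w, hw⟩ := key n v
  rw [hw, hn]; rfl

/-- In a ring killed by the prime `p`, a unipotent element has `p`-power order. -/
theorem exists_pow_prime_pow_eq_one {R : Type*} [Ring R] {p : ℕ} (hp : p.Prime) (h0 : (p : R) = 0)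
    {x : R} (hx : IsNilpotent (x - 1)) : ∃ n : ℕ, x ^ p ^ n = 1 := by
  obtain ⟨n, hn⟩ := hx
  refine ⟨n, ?_⟩
  have h := (Commute.one_right (x - 1)).add_pow_prime_pow_eq hp n
  rw [sub_add_cancel, h0, zero_mul, zero_mul, zero_mul, add_zero, one_pow,
    pow_eq_zero_of_le (Nat.lt_pow_self hp.one_lt).le hn, zero_add] at h
  exact h

/-- In a ring killed by the prime `p`, an element of `p`-power order is unipotent. -/
theorem isNilpotent_sub_one_of_pow {R : Type*} [Ring R] {p : ℕ} (hp : p.Prime) (h0 : (p : R) = 0)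
    {x : R} {n : ℕ} (hx : x ^ p ^ n = 1) : IsNilpotent (x - 1) := by
  have h := (Commute.one_right (x - 1)).add_pow_prime_pow_eq hp n
  rw [sub_add_cancel, h0, zero_mul, zero_mul, zero_mul, add_zero, one_pow, hx] at h
  exact ⟨p ^ n, by simpa using h⟩

end CL.Quad
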