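import Cfsg.Agent.Base
import Cfsg.Agent.PLocal.QuadLin

/-!
# The `SL(2, K)`-model of a group generated by two quadratic elements
-/

set_option autoImplicit false

namespace CL.Quad

open Matrix Polynomial
open scoped MatrixGroups

/-- The invariant plane attached to a nonzero eigenvalue of `AB + BA`. -/
theorem exists_plane_of_eigen {K W : Type*} [Field K] [AddCommGroup W] [Module K W]
    (A B : Module.End K W) (hA : A * A = 0) (hB : B * B = 0) (l : K) (hl : l ≠ 0)
    (w : W) (hw : w ≠ 0) (hc : (A * B + B * A) w = l • w) :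
    ∃ ι : (Fin 2 → K) →ₗ[K] W, Function.Injective ι ∧
      (∀ x, ι (upT l • x) = ι x + A (ι x)) ∧ (∀ x, ι (loT (1 : K) • x) = ι x + B (ι x)) := by
  set c := A * B + B * A
  let F : Submodule K W := c.eigenspace l
  have hF : ∀ Y : Module.End K W, Commute Y c → ∀ x ∈ F, Y x ∈ F := by
    intro Y hY x hx
    rw [Module.End.mem_eigenspace_iff] at hx ⊢
    rw [← Module.End.mul_apply, ← hY.eq, Module.End.mul_apply, hx, map_smul]
  have : Nontrivial F := Submodule.nontrivial_iff_ne_bot.mpr
    (Submodule.ne_bot_iff _ |>.mpr ⟨w, Module.End.mem_eigenspace_iff.mpr hc, hw⟩)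
  obtain ⟨ι, hι, h1, h2⟩ := exists_plane_of_scalar (A.restrict (hF A (commute_anticomm_left hA)))
    (B.restrict (hF B (commute_anticomm_right hB)))
    (fun x => Subtype.ext (by change (A * A) x = 0; rw [hA]; rfl))
    (fun x => Subtype.ext (by change (B * B) x = 0; rw [hB]; rfl)) l hl
    (fun x => Subtype.ext (Module.End.mem_eigenspace_iff.mp x.2))
  exact ⟨F.subtype.comp ι, Subtype.val_injective.comp hι, fun x => congrArg Subtype.val (h1 x),
    fun x => congrArg Subtype.val (h2 x)⟩

theorem exists_plane_of_torsion {S M : Type*} [CommRing S] [AddCommGroup M] [Module S M]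
    (I : Ideal S) [I.IsMaximal] (A B : M →ₗ[S] M) (hA : ∀ x, A (A x) = 0) (hB : ∀ x, B (B x) = 0)
    (γ : S) (hγ : γ ∉ I) (hc : ∀ x, A (B x) + B (A x) = γ • x)
    (hE : Submodule.torsionBySet S M I ≠ ⊥) :
    ∃ ι : (Fin 2 → S ⧸ I) →+ M, Function.Injective ι ∧
      (∀ x, ι (upT (Ideal.Quotient.mk I γ) • x) = ι x + A (ι x)) ∧
      (∀ x, ι (loT (1 : S ⧸ I) • x) = ι x + B (ι x)) := by
  let : Field (S ⧸ I) := Ideal.Quotient.field I
  set E := Submodule.torsionBySet S M I with hEdef
  have hinv : ∀ X : M →ₗ[S] M, ∀ x ∈ E, X x ∈ E := by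
    intro X x hx
    rw [hEdef, Submodule.mem_torsionBySet_iff] at hx ⊢
    intro a
    rw [← map_smul, hx a, map_zero]
  have hT : Module.IsTorsionBySet S E I := Submodule.torsionBySet_isTorsionBySet _
  let : Module (S ⧸ I) E := hT.module
  have hsm : ∀ (s : S) (x : E), (Ideal.Quotient.mk I s • x : E) = s • x := fun s x => rfl
  let res : (M →ₗ[S] M) → (E →ₗ[S ⧸ I] E) := fun X =>
    { toFun := fun x => ⟨X x, hinv X x x.2⟩
      map_add' := fun x y => Subtype.ext (map_add X _ _)
      map_smul' := by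
        intro s x
        obtain ⟨s, rfl⟩ := Ideal.Quotient.mk_surjective s
        rw [RingHom.id_apply, hsm, hsm]
        exact Subtype.ext (map_smul X _ _) }
  have hres : ∀ X x, ((res X x : E) : M) = X x := fun _ _ => rfl
  have : Nontrivial E := Submodule.nontrivial_iff_ne_bot.mpr hE
  obtain ⟨ι, hι, h1, h2⟩ := exists_plane_of_scalar (res A) (res B)
    (fun x => Subtype.ext (hA x)) (fun x => Subtype.ext (hB x)) (Ideal.Quotient.mk I γ)
    (fun h => hγ (Ideal.Quotient.eq_zero_iff_mem.mp h))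
    (fun x => by rw [hsm]; exact Subtype.ext (hc x))
  refine ⟨E.subtype.toAddMonoidHom.comp ι.toAddMonoidHom, Subtype.val_injective.comp hι,
    fun x => ?_, fun x => ?_⟩
  · exact congrArg Subtype.val (h1 x)
  · exact congrArg Subtype.val (h2 x)

/-- A non-nilpotent endomorphism has an irreducible factor `f ≠ X` of its minimal polynomial, and
`f(c)` has a nonzero kernel. -/
theorem exists_irreducible_ker_ne_bot {k V : Type*} [Field k] [AddCommGroup V] [Module k V]
    [FiniteDimensional k V] (c : Module.End k V) (hc : ¬ IsNilpotent c) :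
    ∃ f : k[X], Irreducible f ∧ ¬ f ∣ X ∧ ∃ v : V, v ≠ 0 ∧ aeval c f v = 0 := by
  have hint : IsIntegral k c := Algebra.IsIntegral.isIntegral c
  have hm0 : minpoly k c ≠ 0 := minpoly.ne_zero hint
  obtain ⟨n, g, hg, hm⟩ := WfDvdMonoid.max_power_factor hm0 (irreducible_X (R := k))
  have hgu : ¬ IsUnit g := by
    intro hu
    apply hc
    have h := minpoly.aeval k c
    rw [hm, map_mul, map_pow, aeval_X] at h
    exact ⟨n, (hu.map (aeval c)).mul_left_eq_zero.mp h⟩
  have hg0 : g ≠ 0 := by rintro rfl; exact hg (dvd_zero _)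
  obtain ⟨f, hf, hfg⟩ := WfDvdMonoid.exists_irreducible_factor hgu hg0
  refine ⟨f, hf, fun h => hg ((hf.dvd_symm irreducible_X h).trans hfg), ?_⟩
  obtain ⟨m', hm'⟩ : f ∣ minpoly k c := hm ▸ hfg.mul_left _
  by_contra hcon
  push Not at hcon
  have h1 : aeval c m' = 0 := by
    ext v
    by_contra hv
    apply hcon _ hv
    rw [← Module.End.mul_apply, ← map_mul, ← hm', minpoly.aeval]; rfl
  have h2 := minpoly.dvd k c h1
  have hm'0 : m' ≠ 0 := by rintro rfl; exact hm0 (by rw [hm', mul_zero])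
  rw [hm'] at h2
  exact hf.not_isUnit (isUnit_of_dvd_one ((mul_dvd_mul_iff_right hm'0).mp (by rwa [one_mul])))

theorem commute_aeval {k R : Type*} [CommSemiring k] [Semiring R] [Algebra k R] {A c : R}
    (h : Commute A c) (g : k[X]) : Commute A (aeval c g) := by
  induction g using Polynomial.induction_on' with
  | add p q hp hq => rw [map_add]; exact hp.add_right hq
  | monomial n a =>
    rw [aeval_monomial]
    exact (Algebra.commute_algebraMap_right a A).mul_right (h.pow_right n)

/-- Two square-zero endomorphisms of a finite `𝔽_p`-space whose anticommutator is not nilpotent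
act on a subgroup `K²` as the standard transvections of `SL(2, K)`. -/
theorem exists_finite_field_plane {p : ℕ} [Fact p.Prime] {V : Type*} [AddCommGroup V]
    [Module (ZMod p) V] [Finite V] (A B : Module.End (ZMod p) V) (hA : A * A = 0) (hB : B * B = 0)
    (hc : ¬ IsNilpotent (A * B + B * A)) :
    ∃ (K : Type) (_ : Field K) (_ : Fintype K) (_ : CharP K p) (l : K) (ι : (Fin 2 → K) →+ V),
      l ≠ 0 ∧ Function.Injective ι ∧ (∀ x, ι (upT l • x) = ι x + A (ι x)) ∧
      (∀ x, ι (loT (1 : K) • x) = ι x + B (ι x)) := by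
  have : FiniteDimensional (ZMod p) V := Module.Finite.of_finite
  set c := A * B + B * A with hcdef
  obtain ⟨f, hf, hfX, v, hv0, hv⟩ := exists_irreducible_ker_ne_bot c hc
  let : Module (ZMod p)[X] V := Module.compHom V (aeval c : (ZMod p)[X] →ₐ[ZMod p] _).toRingHom
  have hsm : ∀ (g : (ZMod p)[X]) (x : V), g • x = aeval c g x := fun _ _ => rfl
  let lin : ∀ Y : Module.End (ZMod p) V, Commute Y c → (V →ₗ[(ZMod p)[X]] V) := fun Y hY =>
    { toFun := Y
      map_add' := map_add Y
      map_smul' := fun g x => by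
        rw [RingHom.id_apply, hsm, hsm, ← Module.End.mul_apply, (commute_aeval hY g).eq,
          Module.End.mul_apply] }
  have : (Ideal.span {f}).IsMaximal := PrincipalIdealRing.isMaximal_of_irreducible hf
  obtain ⟨ι, hι, h1, h2⟩ := exists_plane_of_torsion (Ideal.span {f})
    (lin A (commute_anticomm_left hA)) (lin B (commute_anticomm_right hB))
    (fun x => by change (A * A) x = 0; rw [hA]; rfl) (fun x => by change (B * B) x = 0; rw [hB]; rfl)
    X (fun h => hfX (Ideal.mem_span_singleton.mp h))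
    (fun x => by rw [hsm, aeval_X]; rfl)
    (by
      rw [Submodule.torsionBySet_ideal_span_singleton_eq, Submodule.ne_bot_iff]
      exact ⟨v, hv, hv0⟩)
  let : Field ((ZMod p)[X] ⧸ Ideal.span {f}) := Ideal.Quotient.field _
  have : Finite (Fin 2 → (ZMod p)[X] ⧸ Ideal.span {f}) := Finite.of_injective ι hι
  have : Finite ((ZMod p)[X] ⧸ Ideal.span {f}) :=
    Finite.of_injective (fun x (_ : Fin 2) => x) fun x y h => congrFun h 0
  have : CharP ((ZMod p)[X] ⧸ Ideal.span {f}) p :=
    charP_of_injective_algebraMap (algebraMap (ZMod p) _).injective p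
  exact ⟨_, inferInstance, Fintype.ofFinite _, inferInstance, Ideal.Quotient.mk _ X, ι,
    fun h => hfX (Ideal.mem_span_singleton.mp (Ideal.Quotient.eq_zero_iff_mem.mp h)), hι, h1, h2⟩

/-- The `SL(2, K)`-model for a representation over `𝔽_p` of a group generated by two quadratic
elements whose image is not a `p`-group. -/
theorem exists_sl2_model {p : ℕ} [hp : Fact p.Prime] {V : Type*} [AddCommGroup V]
    [Module (ZMod p) V] [Finite V] {H : Type*} [Group H] (ρ : H →* Module.End (ZMod p) V)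
    (a b : H) (hab : Subgroup.closure {a, b} = ⊤)
    (ha : (ρ a - 1) * (ρ a - 1) = 0) (hb : (ρ b - 1) * (ρ b - 1) = 0)
    (hnp : ∃ h : H, ∀ n : ℕ, ρ h ^ p ^ n ≠ 1) :
    ∃ (K : Type) (_ : Field K) (_ : Fintype K) (_ : CharP K p) (l : K) (ι : (Fin 2 → K) →+ V)
      (φ : H →* SL(2, K)), l ≠ 0 ∧ Function.Injective ι ∧ φ a = upT l ∧ φ b = loT 1 ∧
      ∀ g x, ι (φ g • x) = ρ g (ι x) := by
  have hc : ¬ IsNilpotent ((ρ a - 1) * (ρ b - 1) + (ρ b - 1) * (ρ a - 1)) := by
    intro hc
    obtain ⟨h, hh⟩ := hnp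
    have h0 : (p : Module.End (ZMod p) V) = 0 := by
      rw [← map_natCast (algebraMap (ZMod p) (Module.End (ZMod p) V)), ZMod.natCast_self, map_zero]
    obtain ⟨n, hn⟩ := exists_pow_prime_pow_eq_one hp.out h0
      (isNilpotent_sub_one_of_anticomm ρ a b hab ha hb hc h)
    exact hh n hn
  obtain ⟨K, _, _, _, l, ι, hl, hι, h1, h2⟩ := exists_finite_field_plane _ _ ha hb hc
  have h1' : ∀ x, ι (upT l • x) = ρ a (ι x) := fun x => by rw [h1]; simp
  have h2' : ∀ x, ι (loT (1 : K) • x) = ρ b (ι x) := fun x => by rw [h2]; simp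
  obtain ⟨φ, hφ⟩ := exists_hom_of_generators (M := SL(2, K)) (fun m m' => sl_eq_of_smul_eq)
    (fun g v => ρ g v) (fun v => by simp) (fun g h v => by simp) ι hι {a, b} hab (by
      rintro s (rfl | rfl)
      · exact ⟨_, h1'⟩
      · exact ⟨_, h2'⟩)
  exact ⟨K, inferInstance, inferInstance, inferInstance, l, ι, φ, hl, hι,
    sl_eq_of_smul_eq fun x => hι (by rw [hφ, h1']), sl_eq_of_smul_eq fun x => hι (by rw [hφ, h2']),
    hφ⟩

/-- The product of two opposite nontrivial transvections is not of `p`-power order. -/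
theorem upT_mul_loT_pow_ne_one {K : Type*} [Field K] {p : ℕ} [hp : Fact p.Prime] [CharP K p]
    {l m : K} (hl : l ≠ 0) (hm : m ≠ 0) (n : ℕ) : (upT l * loT m) ^ p ^ n ≠ 1 := by
  intro h
  have h1 : ((upT l * loT m : SL(2, K)) : Matrix (Fin 2) (Fin 2) K) ^ p ^ n = 1 :=
    congrArg Subtype.val h
  have h0 : (p : Matrix (Fin 2) (Fin 2) K) = 0 := by
    rw [← map_natCast (algebraMap K (Matrix (Fin 2) (Fin 2) K)), CharP.cast_eq_zero, map_zero]
  have h2 := Matrix.isNilpotent_trace_of_isNilpotent (isNilpotent_sub_one_of_pow hp.out h0 h1)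
  have h3 : ((upT l * loT m : SL(2, K)) : Matrix (Fin 2) (Fin 2) K) =
      !![1, l; 0, 1] * !![1, 0; m, 1] := by rw [← upT_coe, ← loT_coe]; rfl
  rw [h3, isNilpotent_iff_eq_zero, Matrix.trace_fin_two] at h2
  simp at h2
  exact h2.elim hl hm

end CL.Quad
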