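import Cfsg.Agent.Base
import Cfsg.Agent.PLocal.QuadModel
import Cfsg.Agent.PLocal.Involves

/-!
# Facts on `SL(2, p)` used for quadratic action
-/

set_option autoImplicit false

namespace CL.Quad

open Matrix
open scoped MatrixGroups commutatorElement

theorem upT_add {K : Type*} [CommRing K] (l m : K) : upT (l + m) = upT l * upT m :=
  SpecialLinearGroup.transvection_add _ l m

theorem loT_add {K : Type*} [CommRing K] (l m : K) : loT (l + m) = loT l * loT m :=
  SpecialLinearGroup.transvection_add _ l m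

theorem upT_zero {K : Type*} [CommRing K] : upT (0 : K) = 1 :=
  SpecialLinearGroup.transvection_coeff_zero _

theorem loT_zero {K : Type*} [CommRing K] : loT (0 : K) = 1 :=
  SpecialLinearGroup.transvection_coeff_zero _

theorem upT_pow {K : Type*} [CommRing K] (l : K) (n : ℕ) : upT l ^ n = upT (n * l) := by
  induction n with
  | zero => rw [pow_zero, Nat.cast_zero, zero_mul, upT_zero]
  | succ n ih => rw [pow_succ, ih, ← upT_add, Nat.cast_succ, add_mul, one_mul]

theorem loT_pow {K : Type*} [CommRing K] (l : K) (n : ℕ) : loT l ^ n = loT (n * l) := by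
  induction n with
  | zero => rw [pow_zero, Nat.cast_zero, zero_mul, loT_zero]
  | succ n ih => rw [pow_succ, ih, ← loT_add, Nat.cast_succ, add_mul, one_mul]

theorem upT_pow_char {K : Type*} [CommRing K] (p : ℕ) [CharP K p] (l : K) : upT l ^ p = 1 := by
  rw [upT_pow, CharP.cast_eq_zero, zero_mul, upT_zero]

theorem loT_pow_char {K : Type*} [CommRing K] (p : ℕ) [CharP K p] (l : K) : loT l ^ p = 1 := by
  rw [loT_pow, CharP.cast_eq_zero, zero_mul, loT_zero]

theorem upT_eq_one_iff {K : Type*} [CommRing K] (l : K) : upT l = 1 ↔ l = 0 := by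
  refine ⟨fun h => ?_, fun h => by rw [h, upT_zero]⟩
  have h1 := congrArg (fun m : SL(2, K) => (m : Matrix (Fin 2) (Fin 2) K) 0 1) h
  simpa [upT_coe] using h1

theorem loT_eq_one_iff {K : Type*} [CommRing K] (l : K) : loT l = 1 ↔ l = 0 := by
  refine ⟨fun h => ?_, fun h => by rw [h, loT_zero]⟩
  have h1 := congrArg (fun m : SL(2, K) => (m : Matrix (Fin 2) (Fin 2) K) 1 0) h
  simpa [loT_coe] using h1

theorem upT_inv {K : Type*} [CommRing K] (l : K) : (upT l)⁻¹ = upT (-l) :=
  SpecialLinearGroup.transvection_inv _ l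

theorem loT_inv {K : Type*} [CommRing K] (l : K) : (loT l)⁻¹ = loT (-l) :=
  SpecialLinearGroup.transvection_inv _ l

theorem sl2_coe_mul {K : Type*} [CommRing K] (A B : SL(2, K)) :
    ((A * B : SL(2, K)) : Matrix (Fin 2) (Fin 2) K) = (A : Matrix _ _ K) * (B : Matrix _ _ K) :=
  rfl

/-- The braid relation between the two standard transvections. -/
theorem upT_loT_braid {K : Type*} [CommRing K] :
    upT (1 : K) * (loT 1)⁻¹ * upT 1 = (loT 1)⁻¹ * upT 1 * (loT 1)⁻¹ := by
  rw [loT_inv]
  apply Subtype.ext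
  simp only [sl2_coe_mul, upT_coe, loT_coe]
  ext i j; fin_cases i <;> fin_cases j <;> simp

theorem upT_mul_loT_ne_one {K : Type*} [CommRing K] [Nontrivial K] :
    upT (1 : K) * loT 1 ≠ 1 := by
  intro h
  have h1 := congrArg (fun m : SL(2, K) => (m : Matrix (Fin 2) (Fin 2) K) 0 1) h
  simp [upT_coe, loT_coe] at h1

/-- `SL(2, p)` is generated by the two standard transvections. -/
theorem closure_upT_loT_zmod (p : ℕ) [Fact p.Prime] :
    Subgroup.closure {upT (1 : ZMod p), loT 1} = ⊤ := by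
  rw [eq_top_iff]
  intro A _
  refine SL2.transvection_induction (· ∈ Subgroup.closure {upT (1 : ZMod p), loT 1})
    (fun i j h c => ?_) (fun A B => mul_mem) A
  obtain ⟨n, rfl⟩ := ZMod.natCast_zmod_surjective c
  fin_cases i
  · obtain rfl : j = 1 := by fin_cases j <;> tauto
    change upT (n : ZMod p) ∈ _
    rw [← mul_one (n : ZMod p), ← upT_pow]
    exact pow_mem (Subgroup.subset_closure (by simp)) n
  · obtain rfl : j = 0 := by fin_cases j <;> tauto
    change loT (n : ZMod p) ∈ _
    rw [← mul_one (n : ZMod p), ← loT_pow]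
    exact pow_mem (Subgroup.subset_closure (by simp)) n

/-- An element of `SL(2, K)` of `p`-power order satisfies `(u - 1)² = 0`. -/
theorem sl2_sub_one_sq {K : Type*} [Field K] {p : ℕ} [hp : Fact p.Prime] [CharP K p]
    {u : SL(2, K)} {n : ℕ} (hu : u ^ p ^ n = 1) :
    ((u : Matrix (Fin 2) (Fin 2) K) - 1) * ((u : Matrix (Fin 2) (Fin 2) K) - 1) = 0 := by
  have h1 : (u : Matrix (Fin 2) (Fin 2) K) ^ p ^ n = 1 := congrArg Subtype.val hu
  have h0 : (p : Matrix (Fin 2) (Fin 2) K) = 0 := by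
    rw [← map_natCast (algebraMap K (Matrix (Fin 2) (Fin 2) K)), CharP.cast_eq_zero, map_zero]
  have h2 := Matrix.isNilpotent_trace_of_isNilpotent (isNilpotent_sub_one_of_pow hp.out h0 h1)
  rw [isNilpotent_iff_eq_zero, Matrix.trace_fin_two] at h2
  have h3 := u.2
  rw [Matrix.det_fin_two] at h3
  simp only [Matrix.sub_apply, Matrix.one_apply_eq] at h2
  ext i j
  fin_cases i <;> fin_cases j <;> simp [Matrix.mul_apply, Fin.sum_univ_two]
  · linear_combination (u.1 0 0) * h2 - h3
  · linear_combination (u.1 0 1) * h2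
  · linear_combination (u.1 1 0) * h2
  · linear_combination (u.1 1 1) * h2 - h3

theorem one_add_mul_one_sub {R : Type*} [Ring R] {B : R} (hB : B * B = 0) :
    (1 + B) * (1 - B) = 1 := by
  have e : (1 + B) * (1 - B) = 1 - B * B := by noncomm_ring
  rw [e, hB, sub_zero]

theorem anticomm_mul_add_of_braid {R : Type*} [Ring R] {A B : R} (hA : A * A = 0)
    (hB : B * B = 0) (h : (1 + A) * (1 - B) * (1 + A) = (1 - B) * (1 + A) * (1 - B)) :
    (A * B + B * A) * (A + B) = A + B := by
  have e : (A * B + B * A) * (A + B) - (A + B) =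
      (1 - B) * (1 + A) * (1 - B) - (1 + A) * (1 - B) * (1 + A) + A * A - B * B
        + A * (B * B) + B * (A * A) := by noncomm_ring
  rw [h, hA, hB] at e
  simpa [sub_eq_zero] using e

/-- Two elements of order `p` of `SL(2, K)` satisfying the braid relation act on a copy of
`𝔽_p²` inside `K²` as the standard transvections. -/
theorem exists_prime_plane_of_braid {K : Type*} [Field K] {p : ℕ} [hp : Fact p.Prime] [CharP K p]
    {u v : SL(2, K)} (hu : u ^ p = 1) (hv : v ^ p = 1) (hb : u * v⁻¹ * u = v⁻¹ * u * v⁻¹)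
    (huv : u * v ≠ 1) :
    ∃ ι : (Fin 2 → ZMod p) →+ (Fin 2 → K), Function.Injective ι ∧
      (∀ x, ι (upT (1 : ZMod p) • x) = u • ι x) ∧ (∀ x, ι (loT (1 : ZMod p) • x) = v • ι x) := by
  let τ : SL(2, K) →* Module.End K (Fin 2 → K) :=
    (Matrix.toLinAlgEquiv' (R := K) (n := Fin 2)).toMonoidHom.comp
      SpecialLinearGroup.coeMonoidHom
  have hτ : ∀ m x, τ m x = m • x := fun m x => rfl
  have hsq : ∀ m : SL(2, K), m ^ p = 1 → (τ m - 1) * (τ m - 1) = 0 := by
    intro m hm
    have h := congrArg (Matrix.toLinAlgEquiv' (R := K) (n := Fin 2))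
      (sl2_sub_one_sq (p := p) (n := 1) (by rwa [pow_one]))
    rw [map_mul, map_sub, map_one, map_zero] at h
    exact h
  set A := τ u - 1 with hA
  set B := τ v - 1 with hB
  have hA2 : A * A = 0 := hsq u hu
  have hB2 : B * B = 0 := hsq v hv
  have hu' : τ u = 1 + A := by rw [hA]; abel
  have hv' : τ v = 1 + B := by rw [hB]; abel
  have hvi : τ v⁻¹ = 1 - B := by
    have h1 : τ v * (1 - B) = 1 := by rw [hv', one_add_mul_one_sub hB2]
    calc τ v⁻¹ = τ v⁻¹ * (τ v * (1 - B)) := by rw [h1, mul_one]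
      _ = 1 - B := by rw [← mul_assoc, ← map_mul, inv_mul_cancel, map_one, one_mul]
  have hbr : (1 + A) * (1 - B) * (1 + A) = (1 - B) * (1 + A) * (1 - B) := by
    rw [← hu', ← hvi, ← map_mul, ← map_mul, hb, map_mul, map_mul]
  have hkey : (A * B + B * A) * (A + B) = A + B := anticomm_mul_add_of_braid hA2 hB2 hbr
  have hAB : A + B ≠ 0 := by
    intro h
    apply huv
    apply sl_eq_of_smul_eq
    intro x
    have hBA : B = -A := eq_neg_of_add_eq_zero_right h
    rw [← hτ, map_mul, hu', hv', hBA, ← sub_eq_add_neg, one_add_mul_one_sub hA2, one_smul]; rfl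
  obtain ⟨y, hy⟩ : ∃ y, (A + B) y ≠ 0 := by
    by_contra h
    push Not at h
    exact hAB (LinearMap.ext h)
  obtain ⟨ι, hι, h1, h2⟩ := exists_plane_of_eigen A B hA2 hB2 1 one_ne_zero _ hy
    (by rw [← Module.End.mul_apply, hkey, one_smul])
  let j : (Fin 2 → ZMod p) →+ (Fin 2 → K) :=
    (ZMod.castHom (dvd_refl p) K).toAddMonoidHom.compLeft (Fin 2)
  have hj : ∀ x i, j x i = ZMod.castHom (dvd_refl p) K (x i) := fun _ _ => rfl
  have hjinj : Function.Injective j := fun x y h =>
    funext fun i => (ZMod.castHom (dvd_refl p) K).injective (by rw [← hj, ← hj, h])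
  refine ⟨ι.toAddMonoidHom.comp j, hι.comp hjinj, fun x => ?_, fun x => ?_⟩
  · have : j (upT (1 : ZMod p) • x) = upT (1 : K) • j x := by
      rw [upT_smul, upT_smul]
      ext i; fin_cases i <;> simp [hj]
    change ι (j _) = u • ι (j x)
    rw [this, h1, ← hτ, hu']; rfl
  · have : j (loT (1 : ZMod p) • x) = loT (1 : K) • j x := by
      rw [loT_smul, loT_smul]
      ext i; fin_cases i <;> simp [hj]
    change ι (j _) = v • ι (j x)
    rw [this, h2, ← hτ, hv']; rfl

/-- A subgroup of `SL(2, K)` containing two opposite nontrivial transvections has more than one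
Sylow `p`-subgroup. -/
theorem one_lt_card_sylow {K : Type*} [Field K] [Finite K] {p : ℕ} [hp : Fact p.Prime] [CharP K p]
    (M : Subgroup SL(2, K)) {l m : K} (hl : l ≠ 0) (hm : m ≠ 0) (h₁ : upT l ∈ M) (h₂ : loT m ∈ M) :
    1 < Nat.card (Sylow p M) := by
  by_contra h
  have hsub : Subsingleton (Sylow p M) := Finite.card_le_one_iff_subsingleton.mp (not_lt.mp h)
  have key : ∀ x : M, x ^ p = 1 → ∃ P : Sylow p M, x ∈ P := by
    intro x hx
    have : IsPGroup p (Subgroup.zpowers x) := by
      rintro ⟨_, k, rfl⟩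
      refine ⟨1, Subtype.ext ?_⟩
      change (x ^ k) ^ p ^ 1 = 1
      rw [pow_one, ← zpow_natCast, ← _root_.zpow_mul, mul_comm, _root_.zpow_mul, zpow_natCast, hx,
        _root_.one_zpow]
    obtain ⟨P, hP⟩ := this.exists_le_sylow
    exact ⟨P, hP (Subgroup.mem_zpowers x)⟩
  obtain ⟨P, hP⟩ := key ⟨_, h₁⟩ (Subtype.ext (upT_pow_char p l))
  obtain ⟨Q, hQ⟩ := key ⟨_, h₂⟩ (Subtype.ext (loT_pow_char p m))
  rw [Subsingleton.elim Q P] at hQ
  obtain ⟨n, hn⟩ := P.isPGroup' ⟨_, (P : Subgroup M).mul_mem hP hQ⟩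
  exact upT_mul_loT_pow_ne_one (p := p) hl hm n (congrArg Subtype.val (congrArg Subtype.val hn))

end CL.Quad
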