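import Cfsg.Agent.Base
import Cfsg.Agent.PLocal.QuadSL2
import Cfsg.Agent.PLocal.QuadBasic
import Cfsg.Agent.S0274

/-!
# Two quadratic generators of a non-`p`-group: a natural `SL(2, p)`-module appears
-/

set_option autoImplicit false

namespace CL.Quad

open Matrix Subgroup
open scoped MatrixGroups

theorem closure_pair_eq_top {G : Type*} [Group G] {H : Subgroup G} {a b : G} (ha : a ∈ H)
    (hb : b ∈ H) (h : closure {a, b} = H) : closure {(⟨a, ha⟩ : H), ⟨b, hb⟩} = ⊤ := by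
  apply Subgroup.map_injective H.subtype_injective
  rw [MonoidHom.map_closure, ← MonoidHom.range_eq_map, Subgroup.range_subtype, Set.image_pair]
  exact h

/-- Representation form. -/
theorem exists_natural_sl2 {p : ℕ} [hp : Fact p.Prime] (hp2 : p ≠ 2) {V : Type*} [AddCommGroup V]
    [Module (ZMod p) V] [Finite V] {H : Type*} [Group H] (ρ : H →* Module.End (ZMod p) V)
    (a b : H) (hab : Subgroup.closure {a, b} = ⊤)
    (ha : (ρ a - 1) * (ρ a - 1) = 0) (hb : (ρ b - 1) * (ρ b - 1) = 0)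
    (hnp : ∃ h : H, ∀ n : ℕ, ρ h ^ p ^ n ≠ 1) :
    ∃ (L : Subgroup H) (ψ : L →* SL(2, ZMod p)) (ι : (Fin 2 → ZMod p) →+ V),
      Function.Surjective ψ ∧ Function.Injective ι ∧ ∀ g x, ι (ψ g • x) = ρ g (ι x) := by
  obtain ⟨K, _, _, _, l, ι, φ, hl, hι, hφa, hφb, hφ⟩ := exists_sl2_model ρ a b hab ha hb hnp
  obtain ⟨M, hM, ⟨e⟩⟩ := Cfsg.Agent.S0274.result p hp2 φ.range
    (one_lt_card_sylow φ.range hl one_ne_zero ⟨a, hφa⟩ ⟨b, hφb⟩)
  let f : SL(2, ZMod p) →* SL(2, K) := M.subtype.comp e.symm.toMonoidHom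
  have hf : Function.Injective f := M.subtype_injective.comp e.symm.injective
  obtain ⟨ι₀, hι₀, h1, h2⟩ := exists_prime_plane_of_braid (p := p) (u := f (upT 1))
    (v := f (loT 1)) (by rw [← map_pow, upT_pow_char, map_one])
    (by rw [← map_pow, loT_pow_char, map_one])
    (by rw [← map_inv, ← map_mul, ← map_mul, upT_loT_braid, map_mul, map_mul])
    (by rw [← map_mul, Ne, map_eq_one_iff f hf]; exact upT_mul_loT_ne_one)
  obtain ⟨u, hu⟩ : f (upT 1) ∈ φ.range := hM (e.symm _).2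
  obtain ⟨v, hv⟩ : f (loT 1) ∈ φ.range := hM (e.symm _).2
  let L : Subgroup H := closure {u, v}
  have huL : u ∈ L := subset_closure (by simp)
  have hvL : v ∈ L := subset_closure (by simp)
  have hιι : Function.Injective (ι.comp ι₀) := hι.comp hι₀
  have h1' : ∀ x, (ι.comp ι₀) (upT (1 : ZMod p) • x) = ρ u ((ι.comp ι₀) x) := fun x => by
    rw [AddMonoidHom.comp_apply, h1, ← hu, hφ]; rfl
  have h2' : ∀ x, (ι.comp ι₀) (loT (1 : ZMod p) • x) = ρ v ((ι.comp ι₀) x) := fun x => by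
    rw [AddMonoidHom.comp_apply, h2, ← hv, hφ]; rfl
  obtain ⟨ψ, hψ⟩ := exists_hom_of_generators (H := L) (M := SL(2, ZMod p))
    (fun m m' => sl_eq_of_smul_eq) (fun g v => ρ g v) (fun v => by simp) (fun g h v => by simp)
    _ hιι _ (closure_pair_eq_top huL hvL rfl) (by
      rintro s (rfl | rfl)
      · exact ⟨_, h1'⟩
      · exact ⟨_, h2'⟩)
  refine ⟨L, ψ, ι.comp ι₀, ?_, hιι, hψ⟩
  have e1 : ψ ⟨u, huL⟩ = upT 1 := sl_eq_of_smul_eq fun x => hιι (by rw [hψ, h1'])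
  have e2 : ψ ⟨v, hvL⟩ = loT 1 := sl_eq_of_smul_eq fun x => hιι (by rw [hψ, h2'])
  rw [← MonoidHom.range_eq_top, eq_top_iff, ← closure_upT_loT_zmod, closure_le]
  rintro s (rfl | rfl)
  · exact ⟨_, e1⟩
  · exact ⟨_, e2⟩

/-- Multiplicative form. -/
theorem exists_natural_sl2_mul {p : ℕ} [hp : Fact p.Prime] (hp2 : p ≠ 2) {M : Type*} [CommGroup M]
    [Finite M] (hM : ∀ x : M, x ^ p = 1) {H : Type*} [Group H] (σ : H →* MulAut M)
    (a b : H) (hab : Subgroup.closure {a, b} = ⊤)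
    (ha : ∀ x, σ a (σ a x * x⁻¹) = σ a x * x⁻¹) (hb : ∀ x, σ b (σ b x * x⁻¹) = σ b x * x⁻¹)
    (hnp : ∃ h : H, ∀ n : ℕ, σ h ^ p ^ n ≠ 1) :
    ∃ (L : Subgroup H) (ψ : L →* SL(2, ZMod p)) (ι : Multiplicative (Fin 2 → ZMod p) →* M),
      Function.Surjective ψ ∧ Function.Injective ι ∧
        ∀ g x, ι (Multiplicative.ofAdd (ψ g • x)) = σ g (ι (Multiplicative.ofAdd x)) := by
  obtain ⟨inst⟩ : Nonempty (Module (ZMod p) (Additive M)) := ⟨AddCommGroup.zmodModule fun x =>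
    Additive.toMul.injective (hM x.toMul)⟩
  let ρ : H →* Module.End (ZMod p) (Additive M) :=
    { toFun := fun h => AddMonoidHom.toZModLinearMap p
        (MonoidHom.toAdditive (σ h).toMonoidHom)
      map_one' := by ext x; simp
      map_mul' := fun g h => by ext x; simp }
  have hρ : ∀ (h : H) (x : Additive M), (ρ h x).toMul = σ h x.toMul := fun h x => rfl
  have hsq : ∀ h : H, (∀ x, σ h (σ h x * x⁻¹) = σ h x * x⁻¹) → (ρ h - 1) * (ρ h - 1) = 0 := by
    intro h hq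
    ext x
    have h1 : ∀ y : Additive M, ((ρ h - 1) y).toMul = σ h y.toMul * (y.toMul)⁻¹ := fun y => by
      rw [LinearMap.sub_apply, toMul_sub, div_eq_mul_inv, hρ]; rfl
    rw [Module.End.mul_apply, h1, h1, hq]
    simp
  obtain ⟨L, ψ, ι, hψ, hι, hLι⟩ := exists_natural_sl2 hp2 ρ a b hab (hsq _ ha) (hsq _ hb) (by
      obtain ⟨h, hn⟩ := hnp
      refine ⟨h, fun n hc => hn n ?_⟩
      ext v
      have h1 := hρ (h ^ p ^ n) (Additive.ofMul v)
      rw [map_pow, hc, map_pow] at h1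
      exact h1.symm)
  exact ⟨L, ψ, AddMonoidHom.toMultiplicativeLeft ι, hψ, hι,
    fun g x => congrArg Additive.toMul (hLι g x)⟩

variable {G : Type*} [Group G]

/-- Some subgroup `L ≤ H` normalizes a subgroup `W ≅ 𝔽_p²` of `V` and induces `SL(2, p)` on it,
acting naturally. -/
def HasNatSL2 (p : ℕ) (V H : Subgroup G) : Prop :=
  ∃ (L : Subgroup G) (ψ : L →* SL(2, ZMod p)) (ι : Multiplicative (Fin 2 → ZMod p) →* G),
    L ≤ H ∧ Function.Surjective ψ ∧ Function.Injective ι ∧ (∀ x, ι x ∈ V) ∧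
      ∀ (g : L) (x : Fin 2 → ZMod p),
        ι (Multiplicative.ofAdd (ψ g • x)) = g * ι (Multiplicative.ofAdd x) * (g : G)⁻¹

theorem HasNatSL2.mono {p : ℕ} {V V' H H' : Subgroup G} (h : HasNatSL2 p V H) (hV : V ≤ V')
    (hH : H ≤ H') : HasNatSL2 p V' H' := by
  obtain ⟨L, ψ, ι, h1, h2, h3, h4, h5⟩ := h
  exact ⟨L, ψ, ι, h1.trans hH, h2, h3, fun x => hV (h4 x), h5⟩

theorem HasNatSL2.involves {p : ℕ} {V H : Subgroup G} (h : HasNatSL2 p V H) :
    Involves H SL(2, ZMod p) := by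
  obtain ⟨L, ψ, ι, h1, h2, -⟩ := h
  exact Involves.mk_of_le h1 ψ h2

open scoped IsMulCommutative in
/-- Ambient form: two elements acting quadratically on the elementary abelian group `V` and
inducing a group that is not a `p`-group. -/
theorem hasNatSL2_of_pair [Finite G] {p : ℕ} [hp : Fact p.Prime] (hp2 : p ≠ 2) {V : Subgroup G}
    (hV : Cfsg.IsElementaryAbelian p V) {a b : G} (ha : a ∈ normalizer (V : Set G))
    (hb : b ∈ normalizer (V : Set G)) (hqa : ⁅⁅V, zpowers a⁆, zpowers a⁆ = ⊥)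
    (hqb : ⁅⁅V, zpowers b⁆, zpowers b⁆ = ⊥)
    (hnp : ∃ h ∈ closure {a, b}, ∀ n : ℕ, h ^ p ^ n ∉ centralizer (V : Set G)) :
    HasNatSL2 p V (closure {a, b}) := by
  have := hV.1
  let H : Subgroup G := closure {a, b}
  have haH : a ∈ H := subset_closure (by simp)
  have hbH : b ∈ H := subset_closure (by simp)
  have hHV : H ≤ normalizer (V : Set G) := by
    rw [closure_le]; rintro s (rfl | rfl); exacts [ha, hb]
  let σ : H →* MulAut V := V.normalizerMonoidHom.comp (inclusion hHV)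
  have hσ : ∀ (h : H) (x : V), ((σ h x : V) : G) = h * x * (h : G)⁻¹ := fun h x => rfl
  have hsq : ∀ h : H, ⁅⁅V, zpowers (h : G)⁆, zpowers (h : G)⁆ = ⊥ →
      ∀ x, σ h (σ h x * x⁻¹) = σ h x * x⁻¹ := by
    intro h hq x
    apply Subtype.ext
    rw [hσ, Subgroup.coe_mul, hσ, Subgroup.coe_inv, (commute_of_quadratic hq x.2).eq,
      mul_inv_cancel_right]
  obtain ⟨L, ψ, ι, hψ, hι, hLι⟩ := exists_natural_sl2_mul hp2
    (fun x : V => Subtype.ext (hV.2 x x.2)) σ ⟨a, haH⟩ ⟨b, hbH⟩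
    (closure_pair_eq_top haH hbH rfl) (hsq _ hqa) (hsq _ hqb) (by
      obtain ⟨h, hh, hn⟩ := hnp
      refine ⟨⟨h, hh⟩, fun n hc => hn n ?_⟩
      rw [mem_centralizer_iff]
      intro v hv
      have h1 := hσ (⟨h, hh⟩ ^ p ^ n) ⟨v, hv⟩
      rw [map_pow, hc] at h1
      exact (mul_inv_eq_iff_eq_mul.mp h1.symm).symm)
  let e := L.equivMapOfInjective H.subtype H.subtype_injective
  refine ⟨L.map H.subtype, ψ.comp e.symm.toMonoidHom,
    V.subtype.comp ι, map_subtype_le L,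
    hψ.comp e.symm.surjective, V.subtype_injective.comp hι, fun x => Subtype.property _, ?_⟩
  intro g x
  obtain ⟨g, rfl⟩ := e.surjective g
  have h1 := congrArg (fun y : V => (y : G)) (hLι g x)
  simp only [hσ] at h1
  have h2 : (ψ.comp e.symm.toMonoidHom) (e g) = ψ g := by simp
  rw [h2]
  exact h1

end CL.Quad
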