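import Cfsg.Agent.Base
import Cfsg.Agent.PLocal.QuadSL2

/-!
# Groups that do not involve `SL(2, p)`
-/

set_option autoImplicit false

namespace CL.Quad

open Matrix Subgroup
open scoped MatrixGroups commutatorElement

theorem isPGroup_zpowers_of_pow {G : Type*} [Group G] {p n : ℕ} {x : G} (hx : x ^ p ^ n = 1) :
    IsPGroup p (zpowers x) := by
  rintro ⟨_, k, rfl⟩
  refine ⟨n, Subtype.ext ?_⟩
  change (x ^ k) ^ p ^ n = 1
  rw [← zpow_natCast, ← _root_.zpow_mul, mul_comm, _root_.zpow_mul, zpow_natCast, hx,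
    _root_.one_zpow]

theorem two_ne_zero_zmod {p : ℕ} [hp : Fact p.Prime] (hp2 : p ≠ 2) : (2 : ZMod p) ≠ 0 := by
  intro h
  have h1 : ((2 : ℕ) : ZMod p) = 0 := by exact_mod_cast h
  rw [ZMod.natCast_eq_zero_iff] at h1
  exact hp2 ((Nat.prime_dvd_prime_iff_eq hp.out Nat.prime_two).mp h1)

/-- For odd `p`, `SL(2, p)` has a non-abelian `2`-subgroup. -/
theorem exists_two_subgroup_not_comm {p : ℕ} [hp : Fact p.Prime] (hp2 : p ≠ 2) :
    ∃ Q : Subgroup SL(2, ZMod p), IsPGroup 2 Q ∧ ¬ IsMulCommutative Q := by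
  obtain ⟨a, b, hab⟩ := ZMod.sq_add_sq p (-1)
  let i : SL(2, ZMod p) := ⟨!![0, -1; 1, 0], by simp⟩
  let j : SL(2, ZMod p) := ⟨!![a, b; b, -a], by
    rw [Matrix.det_fin_two_of]; linear_combination (-1 : ZMod p) * hab⟩
  have hi : (i : Matrix (Fin 2) (Fin 2) (ZMod p)) = !![0, -1; 1, 0] := rfl
  have hj : (j : Matrix (Fin 2) (Fin 2) (ZMod p)) = !![a, b; b, -a] := rfl
  have hii : i * i = -1 := by
    apply Subtype.ext
    rw [sl2_coe_mul, hi]
    ext r s; fin_cases r <;> fin_cases s <;> simp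
  have hjj : j * j = -1 := by
    apply Subtype.ext
    rw [sl2_coe_mul, hj]
    ext r s; fin_cases r <;> fin_cases s <;> simp
    · linear_combination hab
    · ring
    · ring
    · linear_combination hab
  have hij : i * j * i = j := by
    apply Subtype.ext
    rw [sl2_coe_mul, sl2_coe_mul, hi, hj]
    ext r s; fin_cases r <;> fin_cases s <;> simp
  have h4 : ∀ x : SL(2, ZMod p), x * x = -1 → x ^ 2 ^ 2 = 1 := by
    intro x hx
    have : x ^ 2 ^ 2 = (x * x) * (x * x) := by simp [pow_succ, mul_assoc]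
    rw [this, hx]; simp
  have hconj : j * i * j⁻¹ = i⁻¹ := by
    rw [mul_inv_eq_iff_eq_mul, eq_inv_mul_iff_mul_eq, ← mul_assoc, hij]
  have hnorm : zpowers j ≤ normalizer (zpowers i : Set SL(2, ZMod p)) := by
    rw [zpowers_le, mem_normalizer_iff_map_conj_eq, MonoidHom.map_zpowers]
    change zpowers (j * i * j⁻¹) = _
    rw [hconj, zpowers_inv]
  have : Fact (Nat.Prime 2) := ⟨Nat.prime_two⟩
  refine ⟨zpowers i ⊔ zpowers j, IsPGroup.to_sup_of_normal_left'
    (isPGroup_zpowers_of_pow (h4 i hii)) (isPGroup_zpowers_of_pow (h4 j hjj)) hnorm, fun hc => ?_⟩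
  have h1 : i * j = j * i := congrArg Subtype.val
    (mul_comm' (⟨i, mem_sup_left (mem_zpowers i)⟩ : ↥(zpowers i ⊔ zpowers j))
      ⟨j, mem_sup_right (mem_zpowers j)⟩)
  rw [h1, mul_assoc, hii, mul_eq_left] at hij
  have h2 := congrArg (fun m : SL(2, ZMod p) => (m : Matrix (Fin 2) (Fin 2) (ZMod p)) 0 0) hij
  simp at h2
  apply two_ne_zero_zmod hp2
  linear_combination -h2

/-- A group with abelian Sylow `2`-subgroups does not involve `SL(2, p)`, `p` odd. -/
theorem not_involves_sl2_of_sylow_two {G : Type*} [Group G] [Finite G] {p : ℕ} [Fact p.Prime]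
    (hp2 : p ≠ 2) (hG : ∀ T : Sylow 2 G, IsMulCommutative T) : ¬ Involves G SL(2, ZMod p) := by
  intro h
  obtain ⟨Q, hQ, hc⟩ := exists_two_subgroup_not_comm hp2
  have : Fact (Nat.Prime 2) := ⟨Nat.prime_two⟩
  exact hc (h.isMulCommutative_of_isPGroup hG Q hQ)

/-- A group of odd order does not involve `SL(2, p)`, `p` odd. -/
theorem not_involves_sl2_of_odd {G : Type*} [Group G] [Finite G] {p : ℕ} [Fact p.Prime]
    (hp2 : p ≠ 2) (hG : Odd (Nat.card G)) : ¬ Involves G SL(2, ZMod p) := by
  have : Fact (Nat.Prime 2) := ⟨Nat.prime_two⟩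
  refine not_involves_sl2_of_sylow_two hp2 fun T => ?_
  obtain ⟨n, hn⟩ := T.isPGroup'.exists_card_eq
  have h1 : Nat.card T = 1 := by
    rcases n with _ | n
    · simpa using hn
    · exfalso
      have h2 := (hn ▸ dvd_pow_self 2 n.succ_ne_zero).trans
        (card_subgroup_dvd_card (T : Subgroup G))
      exact (Nat.not_even_iff_odd.mpr hG) (even_iff_two_dvd.mpr h2)
  have : Subsingleton T := (Nat.card_eq_one_iff_unique.mp h1).1
  exact ⟨⟨fun x y => Subsingleton.elim _ _⟩⟩

theorem commutator_sl2_zmod {p : ℕ} [hp : Fact p.Prime] (hp5 : 5 ≤ p) :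
    commutator SL(2, ZMod p) = ⊤ := by
  refine SL2.commutator_eq_top (a := 2) (two_ne_zero_zmod (by omega)) fun h => ?_
  have h1 : ((3 : ℕ) : ZMod p) = 0 := by push_cast; linear_combination h
  rw [ZMod.natCast_eq_zero_iff] at h1
  have := Nat.le_of_dvd (by norm_num) h1
  omega

theorem prime_eq_three_or_five_le {p : ℕ} (hp : p.Prime) (hp2 : p ≠ 2) : p = 3 ∨ 5 ≤ p := by
  have := hp.two_le
  by_contra h
  have h4 : p = 4 := by omega
  rw [h4] at hp
  norm_num at hp

/-- A perfect group generated by elements of order `p` that is involved in a `p`-soluble group is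
trivial. -/
theorem eq_one_of_involves_of_isPSolvable {G X : Type*} [Group G] [Finite G] [Group X] {p : ℕ}
    [hp : Fact p.Prime] (hG : Cfsg.IsPSolvable p G) (h : Involves G X)
    (hperf : commutator X = ⊤) (hgen : closure {x : X | x ^ p = 1} = ⊤) (x : X) : x = 1 := by
  obtain ⟨n, H, h0, hn, -, hnorm, hind⟩ := hG
  obtain ⟨K, f, hf⟩ := h
  have := Finite.of_surjective f hf
  let N : Fin (n + 1) → Subgroup X := fun i => ((H i).subgroupOf K).map f
  have hN : ∀ i, (N i).Normal := fun i => ((hnorm i).subgroupOf K).map f hf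
  have step : ∀ i : Fin n, N i.succ = ⊤ → N i.castSucc = ⊤ := by
    intro i hi
    have := hnorm i.castSucc
    have := hN i.castSucc
    have hpow : ∀ y : X, y ^ (H i.castSucc).relIndex (H i.succ) ∈ N i.castSucc := by
      intro y
      obtain ⟨z, hz, rfl⟩ : y ∈ N i.succ := hi ▸ mem_top y
      rw [← map_pow]
      exact mem_map_of_mem f ((H i.castSucc).pow_relIndex_mem hz)
    rcases hind i with ⟨m, hm⟩ | hcop
    · have hp' : IsPGroup p (X ⧸ N i.castSucc) := by
        intro y
        obtain ⟨y, rfl⟩ := QuotientGroup.mk_surjective y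
        exact ⟨m, by rw [← QuotientGroup.mk_pow, QuotientGroup.eq_one_iff, ← hm]; exact hpow y⟩
      have := hp'.isNilpotent
      by_contra hne
      have : Nontrivial (X ⧸ N i.castSucc) := QuotientGroup.nontrivial_iff.mpr hne
      have h1 := Group.IsSolvable.commutator_lt_top_of_nontrivial (X ⧸ N i.castSucc)
      have h2 := map_commutator_eq X (QuotientGroup.mk' (N i.castSucc))
      rw [hperf, QuotientGroup.range_mk', ← MonoidHom.range_eq_map, QuotientGroup.range_mk'] at h2
      exact h1.ne h2.symm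
    · rw [eq_top_iff, ← hgen, closure_le]
      intro y hy
      have h1 : orderOf y ∣ p := orderOf_dvd_of_pow_eq_one hy
      obtain ⟨m, hm⟩ := exists_pow_eq_self_of_coprime (Nat.Coprime.coprime_dvd_right h1 hcop)
      rw [SetLike.mem_coe, ← hm]
      exact pow_mem (hpow y) m
  have hall : ∀ i : Fin (n + 1), N i = ⊤ := by
    intro i
    induction i using Fin.reverseInduction with
    | last => simp only [N, hn, top_subgroupOf]; exact map_top_of_surjective f hf
    | cast i ih => exact step i ih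
  have h1 : x ∈ N 0 := hall 0 ▸ mem_top x
  simpa [N, h0] using h1

/-- For `p ≥ 5`, a `p`-soluble group does not involve `SL(2, p)`. -/
theorem not_involves_sl2_of_isPSolvable {G : Type*} [Group G] [Finite G] {p : ℕ} [Fact p.Prime]
    (hp5 : 5 ≤ p) (hG : Cfsg.IsPSolvable p G) : ¬ Involves G SL(2, ZMod p) := by
  intro h
  refine upT_mul_loT_ne_one (eq_one_of_involves_of_isPSolvable hG h (commutator_sl2_zmod hp5) ?_ _)
  rw [eq_top_iff, ← closure_upT_loT_zmod]
  apply Subgroup.closure_mono
  rintro s (rfl | rfl)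
  · exact upT_pow_char p _
  · exact loT_pow_char p _

/-- For `p ≥ 5`, a group whose derived subgroup has order prime to `p` does not involve
`SL(2, p)`. -/
theorem not_involves_sl2_of_commutator {G : Type*} [Group G] [Finite G] {p : ℕ} [hp : Fact p.Prime]
    (hp5 : 5 ≤ p) (hG : (Nat.card (commutator G)).Coprime p) : ¬ Involves G SL(2, ZMod p) := by
  rintro ⟨K, f, hf⟩
  have h1 : (commutator K).map f = ⊤ := by
    rw [map_commutator_eq, MonoidHom.range_eq_top.mpr hf]
    exact commutator_sl2_zmod hp5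
  obtain ⟨z, hz, hz'⟩ : upT (1 : ZMod p) ∈ (commutator K).map f := h1 ▸ mem_top _
  have h2 : (z : G) ∈ commutator G := by
    have : (z : G) ∈ (commutator K).map K.subtype := mem_map_of_mem _ hz
    rw [map_subtype_commutator] at this
    exact commutator_mono le_top le_top this
  have h3 : z ^ Nat.card (commutator G) = 1 := by
    apply Subtype.ext
    have := congrArg Subtype.val (pow_card_eq_one' (x := (⟨z, h2⟩ : commutator G)))
    exact this
  have h4 : upT (1 : ZMod p) ^ Nat.card (commutator G) = 1 := by rw [← hz', ← map_pow, h3, map_one]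
  rw [upT_pow, mul_one, upT_eq_one_iff, ZMod.natCast_eq_zero_iff] at h4
  exact hp.out.one_lt.ne' (Nat.Coprime.eq_one_of_dvd hG.symm h4)

end CL.Quad
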