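import Cfsg.Agent.Base
import Cfsg.Agent.PLocal.QuadSL2Free

/-!
# Recognising a section `Qd(p)`
-/

set_option autoImplicit false

namespace CL.Quad

open Matrix Subgroup
open scoped MatrixGroups

variable {p : ℕ}

/-- The translation part of `Qd(p)`. -/
def qdTransl (p : ℕ) : Multiplicative (Fin 2 → ZMod p) →* SL(3, ZMod p) where
  toFun x := ⟨!![1, 0, x.toAdd 0; 0, 1, x.toAdd 1; 0, 0, 1], by simp [Matrix.det_fin_three]⟩
  map_one' := by
    apply Subtype.ext
    ext i j; fin_cases i <;> fin_cases j <;> simp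
  map_mul' x y := by
    apply Subtype.ext
    change _ = !![1, 0, x.toAdd 0; 0, 1, x.toAdd 1; 0, 0, 1] *
      !![1, 0, y.toAdd 0; 0, 1, y.toAdd 1; 0, 0, 1]
    ext i j; fin_cases i <;> fin_cases j <;> simp [add_comm]

/-- The linear part of `Qd(p)`. -/
def qdBlock (p : ℕ) : SL(2, ZMod p) →* SL(3, ZMod p) where
  toFun m := ⟨!![m 0 0, m 0 1, 0; m 1 0, m 1 1, 0; 0, 0, 1], by
    have := m.2
    rw [Matrix.det_fin_two] at this
    simpa [Matrix.det_fin_three] using this⟩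
  map_one' := by
    apply Subtype.ext
    ext i j; fin_cases i <;> fin_cases j <;> simp
  map_mul' x y := by
    apply Subtype.ext
    change _ = !![x 0 0, x 0 1, 0; x 1 0, x 1 1, 0; 0, 0, 1] *
      !![y 0 0, y 0 1, 0; y 1 0, y 1 1, 0; 0, 0, 1]
    ext i j; fin_cases i <;> fin_cases j <;> simp [Matrix.mul_apply, Fin.sum_univ_succ]

theorem qdTransl_coe (x : Multiplicative (Fin 2 → ZMod p)) :
    (qdTransl p x : Matrix (Fin 3) (Fin 3) (ZMod p)) =
      !![1, 0, x.toAdd 0; 0, 1, x.toAdd 1; 0, 0, 1] := rfl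

theorem qdBlock_coe (m : SL(2, ZMod p)) :
    (qdBlock p m : Matrix (Fin 3) (Fin 3) (ZMod p)) =
      !![m 0 0, m 0 1, 0; m 1 0, m 1 1, 0; 0, 0, 1] := rfl

theorem qdTransl_mem (x : Multiplicative (Fin 2 → ZMod p)) : qdTransl p x ∈ Cfsg.qd p :=
  subset_closure ⟨rfl, rfl, rfl⟩

theorem qdBlock_mem (m : SL(2, ZMod p)) : qdBlock p m ∈ Cfsg.qd p :=
  subset_closure ⟨rfl, rfl, rfl⟩

theorem qdBlock_mul_qdTransl (m : SL(2, ZMod p)) (x : Fin 2 → ZMod p) :
    qdBlock p m * qdTransl p (Multiplicative.ofAdd x) =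
      qdTransl p (Multiplicative.ofAdd (m • x)) * qdBlock p m := by
  apply Subtype.ext
  change (qdBlock p m : Matrix (Fin 3) (Fin 3) (ZMod p)) * (qdTransl p _ : Matrix _ _ _) =
    (qdTransl p _ : Matrix (Fin 3) (Fin 3) (ZMod p)) * (qdBlock p m : Matrix _ _ _)
  rw [qdBlock_coe, qdTransl_coe, qdTransl_coe, sl_smul_eq_mulVec]
  ext i j; fin_cases i <;> fin_cases j <;>
    simp [Matrix.mul_apply, Fin.sum_univ_succ]

theorem exists_eq_qdTransl_mul_qdBlock {M : SL(3, ZMod p)}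
    (h0 : (M : Matrix (Fin 3) (Fin 3) (ZMod p)) 2 0 = 0)
    (h1 : (M : Matrix (Fin 3) (Fin 3) (ZMod p)) 2 1 = 0)
    (h2 : (M : Matrix (Fin 3) (Fin 3) (ZMod p)) 2 2 = 1) :
    ∃ x m, M = qdTransl p x * qdBlock p m := by
  have hdet := M.2
  rw [Matrix.det_fin_three, h0, h1, h2] at hdet
  refine ⟨Multiplicative.ofAdd ![M.1 0 2, M.1 1 2],
    ⟨!![M.1 0 0, M.1 0 1; M.1 1 0, M.1 1 1], by rw [Matrix.det_fin_two_of]; simpa using hdet⟩, ?_⟩
  apply Subtype.ext
  change M.1 = !![1, 0, M.1 0 2; 0, 1, M.1 1 2; 0, 0, 1] *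
    !![M.1 0 0, M.1 0 1, 0; M.1 1 0, M.1 1 1, 0; 0, 0, 1]
  ext i j; fin_cases i <;> fin_cases j <;> simp [Matrix.mul_apply, Fin.sum_univ_succ, h0, h1, h2]

/-- The natural action of `SL(2, p)` on the multiplicative copy of `𝔽_p²`. -/
def natAut (p : ℕ) : SL(2, ZMod p) →* MulAut (Multiplicative (Fin 2 → ZMod p)) :=
  (MulAutMultiplicative (Fin 2 → ZMod p)).symm.toMonoidHom.comp
    (DistribMulAction.toAddAut SL(2, ZMod p) (Fin 2 → ZMod p))

theorem natAut_apply (m : SL(2, ZMod p)) (x : Multiplicative (Fin 2 → ZMod p)) :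
    natAut p m x = Multiplicative.ofAdd (m • x.toAdd) := rfl

/-- A semidirect product of `𝔽_p²` with a group inducing `SL(2, p)` maps onto `Qd(p)`. -/
theorem involves_qd_semidirect {N : Type*} [Group N] (ψ : N →* SL(2, ZMod p))
    (hψ : Function.Surjective ψ) :
    Involves (Multiplicative (Fin 2 → ZMod p) ⋊[(natAut p).comp ψ] N) (Cfsg.qd p) := by
  let Φ : (Multiplicative (Fin 2 → ZMod p) ⋊[(natAut p).comp ψ] N) →* SL(3, ZMod p) :=
    SemidirectProduct.lift (qdTransl p) ((qdBlock p).comp ψ) fun g => by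
      refine MonoidHom.ext fun x => ?_
      change qdTransl p (Multiplicative.ofAdd (ψ g • x.toAdd)) =
        qdBlock p (ψ g) * qdTransl p (Multiplicative.ofAdd x.toAdd) * (qdBlock p (ψ g))⁻¹
      rw [qdBlock_mul_qdTransl, mul_inv_cancel_right]
  have hΦ : Φ.range = Cfsg.qd p := by
    apply le_antisymm
    · rintro _ ⟨x, rfl⟩
      exact mul_mem (qdTransl_mem _) (qdBlock_mem _)
    · rw [Cfsg.qd, closure_le]
      rintro M ⟨h0, h1, h2⟩
      obtain ⟨x, m, rfl⟩ := exists_eq_qdTransl_mul_qdBlock h0 h1 h2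
      obtain ⟨n, rfl⟩ := hψ m
      exact ⟨⟨x, n⟩, rfl⟩
  rw [← hΦ]
  exact Involves.range Φ

/-- `Qd(p)` involves `SL(2, p)`. -/
theorem involves_qd_sl2 (p : ℕ) : Involves (Cfsg.qd p) SL(2, ZMod p) := by
  refine Involves.of_injective ((qdBlock p).codRestrict _ qdBlock_mem) fun m m' h => ?_
  have h1 := congrArg (fun M : Cfsg.qd p => (M.1.1 : Matrix (Fin 3) (Fin 3) (ZMod p))) h
  change (qdBlock p m : Matrix (Fin 3) (Fin 3) (ZMod p)) = qdBlock p m' at h1
  rw [qdBlock_coe, qdBlock_coe] at h1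
  ext i j
  fin_cases i <;> fin_cases j
  · simpa using congrFun (congrFun h1 0) 0
  · simpa using congrFun (congrFun h1 0) 1
  · simpa using congrFun (congrFun h1 1) 0
  · simpa using congrFun (congrFun h1 1) 1

theorem not_involves_qd_of_sl2 {G : Type*} [Group G] (h : ¬ Involves G SL(2, ZMod p)) :
    ¬ Involves G (Cfsg.qd p) := fun h' => h (h'.trans (involves_qd_sl2 p))

/-- If a subgroup `L` of the finite group `G` induces `SL(2, p)`, `p` odd, naturally on a subgroup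
`𝔽_p²` of `G`, then `G` involves `Qd(p)`. -/
theorem involves_qd_of_natural {G : Type*} [Group G] [Finite G] [hp : Fact p.Prime] (hp2 : p ≠ 2)
    (L : Subgroup G) (ψ : L →* SL(2, ZMod p)) (ι : Multiplicative (Fin 2 → ZMod p) →* G)
    (hψ : Function.Surjective ψ) (hι : Function.Injective ι)
    (h : ∀ (g : L) (x : Fin 2 → ZMod p),
      ι (Multiplicative.ofAdd (ψ g • x)) = g * ι (Multiplicative.ofAdd x) * (g : G)⁻¹) :
    Involves G (Cfsg.qd p) := by
  have : Fact (Nat.Prime 2) := ⟨Nat.prime_two⟩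
  let Z : Subgroup L := (zpowers (-1 : SL(2, ZMod p))).comap ψ
  have hcen : zpowers (-1 : SL(2, ZMod p)) ≤ center _ := by
    rw [zpowers_le, mem_center_iff]; intro g; simp
  have : (zpowers (-1 : SL(2, ZMod p))).Normal :=
    ⟨fun n hn g => by rw [mem_center_iff.mp (hcen hn) g, mul_inv_cancel_right]; exact hn⟩
  obtain ⟨t, ht, ht2⟩ : ∃ t : L, ψ t = -1 ∧ ∃ k, t ^ 2 ^ k = 1 := by
    obtain ⟨z, hz⟩ := hψ (-1)
    obtain ⟨k, m, hm, hkm⟩ := Nat.exists_eq_two_pow_mul_odd (orderOf_pos z).ne'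
    refine ⟨z ^ m, by rw [map_pow, hz, hm.neg_one_pow], k, ?_⟩
    rw [← pow_mul, mul_comm, ← hkm, pow_orderOf_eq_one]
  obtain ⟨k, hk⟩ := ht2
  have htZ : t ∈ Z := by change ψ t ∈ zpowers _; rw [ht]; exact mem_zpowers _
  obtain ⟨T, hT⟩ := (isPGroup_zpowers_of_pow (x := (⟨t, htZ⟩ : Z)) (Subtype.ext hk)).exists_le_sylow
  let T' : Subgroup L := (T : Subgroup Z).map Z.subtype
  have htT : t ∈ T' := ⟨⟨t, htZ⟩, hT (mem_zpowers _), rfl⟩
  have hT' : IsPGroup 2 T' := T.isPGroup'.map _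
  let N : Subgroup L := normalizer (T' : Set L)
  have hNZ : N ⊔ Z = ⊤ := Sylow.normalizer_sup_eq_top T
  have htN : t ∈ N := le_normalizer htT
  let ψ' : N →* SL(2, ZMod p) := ψ.comp N.subtype
  have hψ' : Function.Surjective ψ' := by
    rw [← MonoidHom.range_eq_top, MonoidHom.range_comp, range_subtype, eq_top_iff,
      ← map_top_of_surjective ψ hψ, ← hNZ, Subgroup.map_sup, sup_le_iff]
    refine ⟨le_rfl, (map_comap_le _ _).trans ?_⟩
    rw [zpowers_le]
    exact ⟨t, htN, ht⟩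
  let j : (Multiplicative (Fin 2 → ZMod p) ⋊[(natAut p).comp ψ'] N) →* G :=
    SemidirectProduct.lift ι (L.subtype.comp N.subtype) fun g => by
      refine MonoidHom.ext fun x => ?_
      exact h g x.toAdd
  refine (Involves.of_injective j ?_).trans (involves_qd_semidirect ψ' hψ')
  rw [injective_iff_map_eq_one]
  rintro ⟨x, n⟩ hxn
  have h1 : ι x * ((n : L) : G) = 1 := hxn
  have h2 : ((n : L) : G) = ι x⁻¹ := by rw [map_inv]; exact eq_inv_of_mul_eq_one_right h1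
  have h3 : (n : L) * t * (n : L)⁻¹ * t⁻¹ ∈ T' :=
    mul_mem ((mem_normalizer_iff.mp n.2 t).mp htT) (inv_mem htT)
  obtain ⟨e, he⟩ := hT' ⟨_, h3⟩
  have h4 : (((n : L) * t * (n : L)⁻¹ * t⁻¹ : L) : G) = ι (x⁻¹ * x⁻¹) := by
    have h5 := h t x.toAdd
    rw [ht] at h5
    have h6 : (-1 : SL(2, ZMod p)) • x.toAdd = -x.toAdd := by
      rw [sl_smul_eq_mulVec]; simp [Matrix.neg_mulVec]
    rw [h6] at h5
    change ι x⁻¹ = t * ι x * (t : G)⁻¹ at h5
    rw [map_mul]
    nth_rewrite 2 [h5]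
    simp only [Subgroup.coe_mul, Subgroup.coe_inv, h2, map_inv, inv_inv, mul_assoc]
  have h7 : (x⁻¹ * x⁻¹) ^ 2 ^ e = 1 := by
    apply hι
    rw [map_pow, ← h4, map_one]
    exact congrArg Subtype.val (congrArg Subtype.val he)
  have h8 : x = 1 := by
    have h9 := congrArg Multiplicative.toAdd h7
    rw [toAdd_pow, toAdd_mul, toAdd_inv, toAdd_one, ← two_smul (ZMod p), ← Nat.cast_smul_eq_nsmul
      (ZMod p), smul_smul, smul_eq_zero] at h9
    rcases h9 with h9 | h9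
    · exfalso
      push_cast at h9
      exact mul_ne_zero (pow_ne_zero _ (two_ne_zero_zmod hp2)) (two_ne_zero_zmod hp2) h9
    · exact toAdd_eq_zero.mp (neg_eq_zero.mp h9)
  rw [h8, map_one, one_mul] at h1
  have h10 : n = 1 := Subtype.ext (Subtype.ext h1)
  rw [h8, h10]; rfl

end CL.Quad
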