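import Cfsg.Agent.Base
import Cfsg.Agent.PLocal.QuadNat
import Cfsg.Agent.PLocal.QuadQd
import Cfsg.Agent.Invol.BaerSuzuki
import Cfsg.Agent.Solv.Core
import Cfsg.Agent.PLocal.ZJTheorem

/-!
# Groups not involving `Qd(p)` are `p`-stable (`p` odd)
-/

set_option autoImplicit false

namespace CL.Quad

open Subgroup Cfsg
open scoped MatrixGroups commutatorElement

universe u

variable {G : Type*} [Group G] {p : ℕ}

theorem HasNatSL2.involves_qd [Finite G] [Fact p.Prime] (hp2 : p ≠ 2) {V H : Subgroup G}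
    (h : HasNatSL2 p V H) : Involves G (qd p) := by
  obtain ⟨L, ψ, ι, -, h2, h3, -, h5⟩ := h
  exact involves_qd_of_natural hp2 L ψ ι h2 h3 h5

/-- An element centralizing `Z` and `P / Z` has its `p`-th power in `C(P)`. -/
theorem pow_mem_centralizer_of_stabilizes {P Z : Subgroup G} {n : ℕ} (hZ : ∀ z ∈ Z, z ^ n = 1)
    {x : G} (hxZ : x ∈ centralizer (Z : Set G)) (hxP : ∀ y ∈ P, x * y * x⁻¹ * y⁻¹ ∈ Z) :
    x ^ n ∈ centralizer (P : Set G) := by
  rw [mem_centralizer_iff]
  intro y hy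
  have h1 := pow_conj_eq_of_commute (a := x) (v := y) (hxZ _ (hxP y hy)).symm n
  rw [hZ _ (hxP y hy), one_mul, mul_inv_eq_iff_eq_mul] at h1
  exact h1.symm

theorem involves_of_pair_aux [Fact p.Prime] (hp2 : p ≠ 2) (n : ℕ) :
    ∀ {G : Type u} [Group G] [Finite G] (P : Subgroup G) [P.Normal], Nat.card P = n →
      IsPGroup p P → ∀ {a b : G}, ⁅⁅P, zpowers a⁆, zpowers a⁆ = ⊥ →
      ⁅⁅P, zpowers b⁆, zpowers b⁆ = ⊥ →
      (∃ h ∈ closure {a, b}, ∀ n : ℕ, h ^ p ^ n ∉ centralizer (P : Set G)) →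
      Involves (closure {a, b} : Subgroup G) SL(2, ZMod p) ∧ Involves G (qd p) := by
  induction n using Nat.strong_induction_on with
  | _ n ih =>
  intro G _ _ P _ hn hP a b hqa hqb hnp
  have hP1 : P ≠ ⊥ := by
    rintro rfl
    obtain ⟨h, -, hh⟩ := hnp
    exact hh 0 fun y hy => by rw [mem_bot.mp hy, one_mul, mul_one]
  obtain ⟨Z, hZ, hZP⟩ := exists_isMinNormal_le P hP1
  have := hZ.normal
  have hZe : IsElementaryAbelian p Z := hZ.isElementaryAbelian_of_isPGroup (hP.to_le hZP)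
  by_cases hc : ∃ h ∈ closure {a, b}, ∀ n : ℕ, h ^ p ^ n ∉ centralizer (Z : Set G)
  · have h := hasNatSL2_of_pair hp2 hZe (le_normalizer_of_normal (mem_top a))
      (le_normalizer_of_normal (mem_top b)) (quadratic_mono hZP hqa)
      (quadratic_mono hZP hqb) hc
    exact ⟨h.involves, h.involves_qd hp2⟩
  push Not at hc
  let π := QuotientGroup.mk' Z
  have hπ : Function.Surjective π := QuotientGroup.mk'_surjective Z
  have : (P.map π).Normal := Normal.map inferInstance π hπ
  have hlt : Nat.card (P.map π) < n := by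
    rw [← hn, ← relIndex_ker, QuotientGroup.ker_mk', ← card_mul_relIndex_of_le hZP]
    have h1 : 1 < Nat.card Z := (one_lt_card_iff_ne_bot Z).mpr hZ.ne_bot
    exact lt_mul_left (Nat.pos_of_ne_zero index_ne_zero_of_finite) h1
  have hcl : (closure {a, b}).map π = closure {π a, π b} := by
    rw [MonoidHom.map_closure, Set.image_pair]
  obtain ⟨h1, h2⟩ := ih _ hlt (P.map π) rfl (hP.map π) (quadratic_map π bot_le hqa.le)
    (quadratic_map π bot_le hqb.le) (by
      obtain ⟨h, hh, hn⟩ := hnp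
      refine ⟨π h, hcl ▸ mem_map_of_mem π hh, fun m hm => ?_⟩
      obtain ⟨k, hk⟩ := hc h hh
      apply hn (k + m + 1)
      rw [pow_succ, pow_mul]
      refine pow_mem_centralizer_of_stabilizes hZe.2 ?_ fun y hy => ?_
      · rw [pow_add, pow_mul]; exact pow_mem hk _
      · have h3 : π h ^ p ^ (k + m) ∈ centralizer (P.map π : Set (G ⧸ Z)) := by
          rw [add_comm, pow_add, pow_mul]; exact pow_mem hm _
        have h4 := h3 (π y) (mem_map_of_mem π hy)
        rw [← QuotientGroup.eq_one_iff]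
        change π _ = 1
        rw [map_mul, map_mul, map_mul, map_inv, map_inv, map_pow, ← h4]
        simp)
  exact ⟨Involves.of_map (hcl ▸ h1), h2.of_quotient⟩

/-- Two elements acting quadratically on a `p`-group `P` and inducing on it a group which is not a
`p`-group generate a group involving `SL(2, p)`, and `N_G(P)` involves `Qd(p)`. -/
theorem involves_of_pair [Finite G] [Fact p.Prime] (hp2 : p ≠ 2) {P : Subgroup G}
    (hP : IsPGroup p P) {a b : G} (ha : a ∈ normalizer (P : Set G))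
    (hb : b ∈ normalizer (P : Set G)) (hqa : ⁅⁅P, zpowers a⁆, zpowers a⁆ = ⊥)
    (hqb : ⁅⁅P, zpowers b⁆, zpowers b⁆ = ⊥)
    (hnp : ∃ h ∈ closure {a, b}, ∀ n : ℕ, h ^ p ^ n ∉ centralizer (P : Set G)) :
    Involves (closure {a, b} : Subgroup G) SL(2, ZMod p) ∧
      Involves ↥(P ⊔ closure {a, b}) (qd p) := by
  set N : Subgroup G := P ⊔ closure {a, b} with hN
  have hNP : N ≤ normalizer (P : Set G) := by
    refine sup_le le_normalizer ?_
    rw [closure_le]; rintro s (rfl | rfl); exacts [ha, hb]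
  have hPN : P ≤ N := le_sup_left
  have haN : a ∈ N := mem_sup_right (subset_closure (by simp))
  have hbN : b ∈ N := mem_sup_right (subset_closure (by simp))
  have : (P.subgroupOf N).Normal := normal_subgroupOf_of_le_normalizer hNP
  have hq : ∀ x : N, ⁅⁅P, zpowers (x : G)⁆, zpowers (x : G)⁆ = ⊥ →
      ⁅⁅P.subgroupOf N, zpowers x⁆, zpowers x⁆ = ⊥ := by
    intro x hx
    rw [← map_eq_bot_iff_of_injective _ N.subtype_injective, map_commutator, map_commutator,
      MonoidHom.map_zpowers, map_subgroupOf_eq_of_le hPN]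
    exact hx
  have hcl : (closure {(⟨a, haN⟩ : N), ⟨b, hbN⟩}).map N.subtype = closure {a, b} := by
    rw [MonoidHom.map_closure, Set.image_pair]; rfl
  obtain ⟨h1, h2⟩ := involves_of_pair_aux hp2 _ (P.subgroupOf N) rfl hP.comap_subtype
    (hq ⟨a, haN⟩ hqa) (hq ⟨b, hbN⟩ hqb) (by
      obtain ⟨h, hh, hn⟩ := hnp
      rw [← hcl] at hh
      obtain ⟨h, hh, rfl⟩ := hh
      exact ⟨h, hh, fun m hm => hn m fun y hy => congrArg Subtype.val (hm ⟨y, hPN hy⟩ hy)⟩)
  refine ⟨?_, h2⟩
  rw [← hcl]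
  exact (Involves.of_mulEquiv (equivMapOfInjective _ _ N.subtype_injective).symm).trans h1

/-- The general instability theorem.  `H` normalizes the `p`-group `P`, and `f` maps `H` onto `X`
sending `C_H(P)` to `p`-elements (typically `X = H / C_H(P)`).  If `a ∈ H` acts quadratically on
`P` and `f a ∉ O_p(X)`, then `H` involves `SL(2, p)` and `P H` involves `Qd(p)`. -/
theorem involves_of_not_mem_pCore [Finite G] [Fact p.Prime] (hp2 : p ≠ 2) {P H : Subgroup G}
    (hP : IsPGroup p P) (hH : H ≤ normalizer (P : Set G)) {X : Type*} [Group X] (f : H →* X)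
    (hf : Function.Surjective f)
    (hker : ∀ h : H, (h : G) ∈ centralizer (P : Set G) → ∃ n : ℕ, f h ^ p ^ n = 1) (a : H)
    (hq : ⁅⁅P, zpowers (a : G)⁆, zpowers (a : G)⁆ = ⊥) (hna : f a ∉ pCore p X) :
    Involves H SL(2, ZMod p) ∧ Involves ↥(P ⊔ H) (qd p) := by
  have := Finite.of_surjective f hf
  by_cases hc : ∀ g : H, ∀ h ∈ closure {(a : G), g * a * (g : G)⁻¹},
      ∃ n : ℕ, h ^ p ^ n ∈ centralizer (P : Set G)
  · exfalso
    apply hna
    apply Invol.mem_pCore_of_baerSuzuki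
    intro g
    obtain ⟨g, rfl⟩ := hf g
    have hcl : closure {f a, f g * f a * (f g)⁻¹} = (closure {a, g * a * g⁻¹}).map f := by
      rw [MonoidHom.map_closure, Set.image_pair, map_mul, map_mul, map_inv]
    rw [hcl]
    rintro ⟨_, h, hh, rfl⟩
    have hh' : (h : G) ∈ closure {(a : G), g * a * (g : G)⁻¹} := by
      have := mem_map_of_mem H.subtype hh
      rwa [MonoidHom.map_closure, Set.image_pair] at this
    obtain ⟨n, hn⟩ := hc g h hh'
    obtain ⟨m, hm⟩ := hker (h ^ p ^ n) hn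
    refine ⟨n + m, Subtype.ext ?_⟩
    change f h ^ p ^ (n + m) = 1
    rw [pow_add, pow_mul, ← map_pow, hm]
  push Not at hc
  obtain ⟨g, hg⟩ := hc
  have hle : closure {(a : G), g * a * (g : G)⁻¹} ≤ H := by
    rw [closure_le]; rintro s (rfl | rfl)
    exacts [a.2, (g * a * g⁻¹).2]
  obtain ⟨h1, h2⟩ := involves_of_pair hp2 hP (hH a.2) (hH (g * a * g⁻¹).2) hq
    (quadratic_conj (hH g.2) hq) hg
  exact ⟨h1.of_le hle, h2.of_le (sup_le_sup_left hle P)⟩

/-- Normal-subgroup form of the stability theorem. -/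
theorem mem_pCore_of_quadratic [Finite G] [Fact p.Prime] (hp2 : p ≠ 2) (hG : ¬ Involves G (qd p))
    {P : Subgroup G} [P.Normal] (hP : IsPGroup p P) {X : Type*} [Group X] (f : G →* X)
    (hf : Function.Surjective f)
    (hker : ∀ h ∈ centralizer (P : Set G), ∃ n : ℕ, f h ^ p ^ n = 1) {a : G}
    (hq : ⁅⁅P, zpowers a⁆, zpowers a⁆ = ⊥) : f a ∈ pCore p X := by
  by_contra hna
  exact hG (involves_of_not_mem_pCore hp2 hP (H := ⊤) le_normalizer_of_normal
    (f.comp (⊤ : Subgroup G).subtype)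
    (fun x => by obtain ⟨g, rfl⟩ := hf x; exact ⟨⟨g, mem_top g⟩, rfl⟩)
    (fun h hh => hker h hh) ⟨a, mem_top a⟩ hq hna).2.of_subgroup

/-- A group not involving `Qd(p)` acts `p`-stably on each normal `p`-subgroup. -/
theorem isPStableOn_of_not_involves_qd [Finite G] [Fact p.Prime] (hp2 : p ≠ 2)
    (hG : ¬ Involves G (qd p)) (P : Subgroup G) [P.Normal] (hP : IsPGroup p P) :
    IsPStableOn p P := fun _ hq =>
  mem_pCore_of_quadratic hp2 hG hP (QuotientGroup.mk' _) (QuotientGroup.mk'_surjective _)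
    (fun h hh => ⟨0, by simpa using hh⟩) hq

/-- A group not involving `Qd(p)` acts `p`-stably on each normal `p`-section. -/
theorem isPStableOnSection_of_not_involves_qd [Finite G] [Fact p.Prime] (hp2 : p ≠ 2)
    (hG : ¬ Involves G (qd p)) (K N : Subgroup G) [K.Normal] [N.Normal]
    (hK : IsPGroup p (K.map (QuotientGroup.mk' N))) : IsPStableOnSection p K N := by
  intro a hq
  have : (K.map (QuotientGroup.mk' N)).Normal :=
    Normal.map inferInstance _ (QuotientGroup.mk'_surjective N)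
  have h := isPStableOn_of_not_involves_qd hp2 (fun h => hG h.of_quotient) _ hK
    (QuotientGroup.mk' N a) (quadratic_map _ (QuotientGroup.ker_mk' N).ge hq)
  let C := centralizer (K.map (QuotientGroup.mk' N) : Set (G ⧸ N))
  let f : G →* (G ⧸ N) ⧸ C := (QuotientGroup.mk' C).comp (QuotientGroup.mk' N)
  have hf : Function.Surjective f :=
    (QuotientGroup.mk'_surjective C).comp (QuotientGroup.mk'_surjective N)
  have hker : f.ker = sectionKernel K N := by
    rw [← MonoidHom.comap_ker, QuotientGroup.ker_mk']; rfl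
  refine ⟨(pCore p _).comap f, inferInstance, hker ▸ ker_le_comap f _, ?_, h⟩
  rw [← hker, relIndex_ker, map_comap_eq_self_of_surjective hf]
  exact (pCore_isPGroup p _).exists_card_eq

/-- A group not involving `Qd(p)` is `p`-stable in the action sense. -/
theorem isActionPStable_of_not_involves_qd [Finite G] [Fact p.Prime] (hp2 : p ≠ 2)
    (hG : ¬ Involves G (qd p)) : IsActionPStable p G := by
  refine ⟨fun V _ hV => isPStableOn_of_not_involves_qd hp2 hG V
    (isPGroup_of_isElementaryAbelian hV), ?_, fun S V _ hV => ?_⟩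
  · exact isPStableOnSection_of_not_involves_qd hp2 hG _ _ ((pCore_isPGroup p G).map _)
  · refine isPStableOn_of_not_involves_qd hp2 (fun h => hG h.of_subgroup) V ?_
    exact isPGroup_map_subtype_iff.mp (S.isPGroup'.to_le (hV.trans (map_subtype_le _)))

/-- A group not involving `Qd(p)` with `O_p(G) ≠ 1` is `p`-stable. -/
theorem isPStable_of_not_involves_qd [Finite G] [hp : Fact p.Prime] (hp2 : p ≠ 2)
    (hG : ¬ Involves G (qd p)) (hO : pCore p G ≠ ⊥) : IsPStable p G := by
  refine ⟨hp.out.odd_of_ne_two hp2, hO, fun A P _ hP _ _ _ hq => ?_⟩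
  rintro _ ⟨a, ha, rfl⟩
  by_contra hna
  exact hG (involves_of_not_mem_pCore hp2 hP le_rfl _ (QuotientGroup.mk'_surjective _)
    (fun h hh => ⟨0, by simpa [mem_subgroupOf] using hh⟩) a
    (quadratic_zpowers_of_quadratic hq ha) hna).2.of_subgroup

/-- Faithful action of `H` on a `p`-group `V`: a quadratic element outside `O_p(H)` forces a
section `SL(2, p)` of `H`. -/
theorem involves_sl2_of_faithful [Finite G] [Fact p.Prime] (hp2 : p ≠ 2) {V H : Subgroup G}
    (hV : IsPGroup p V) (hHV : H ≤ normalizer (V : Set G))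
    (hf : H ⊓ centralizer (V : Set G) = ⊥) {a : G} (haH : a ∈ H)
    (hq : ⁅⁅V, zpowers a⁆, zpowers a⁆ = ⊥) (hna : a ∉ (pCore p H).map H.subtype) :
    Involves H SL(2, ZMod p) :=
  (involves_of_not_mem_pCore hp2 hV hHV (MonoidHom.id H) Function.surjective_id
    (fun h hh => ⟨0, by
      have : (h : G) ∈ H ⊓ centralizer (V : Set G) := ⟨h.2, hh⟩
      rw [hf, mem_bot] at this
      simpa using this⟩) ⟨a, haH⟩ hq fun h => hna ⟨_, h, rfl⟩).1

/-- Faithful action of `⟨a, b⟩`, not a `p`-group, with `a`, `b` quadratic. -/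
theorem involves_sl2_of_faithful_pair [Finite G] [Fact p.Prime] (hp2 : p ≠ 2) {V : Subgroup G}
    (hV : IsPGroup p V) {a b : G} (hHV : closure {a, b} ≤ normalizer (V : Set G))
    (hf : closure {a, b} ⊓ centralizer (V : Set G) = ⊥)
    (hqa : ⁅⁅V, zpowers a⁆, zpowers a⁆ = ⊥) (hqb : ⁅⁅V, zpowers b⁆, zpowers b⁆ = ⊥)
    (hnp : ¬ IsPGroup p (closure {a, b} : Subgroup G)) :
    Involves (closure {a, b} : Subgroup G) SL(2, ZMod p) := by
  refine (involves_of_pair hp2 hV (hHV (subset_closure (by simp))) (hHV (subset_closure (by simp)))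
    hqa hqb ?_).1
  by_contra hc
  push Not at hc
  refine hnp fun h => ?_
  obtain ⟨n, hn⟩ := hc h h.2
  have : (h : G) ^ p ^ n ∈ closure {a, b} ⊓ centralizer (V : Set G) := ⟨pow_mem h.2 _, hn⟩
  rw [hf, mem_bot] at this
  exact ⟨n, Subtype.ext this⟩

theorem stab_of_not_involves_qd [Finite G] [Fact p.Prime] (hp2 : p ≠ 2)
    (hG : ¬ Involves G (qd p)) : CL.ZJ.Stab p G :=
  CL.ZJ.stab_of_isPStableOn fun P _ hP => isPStableOn_of_not_involves_qd hp2 hG P hP

theorem stab_of_not_involves_sl2 [Finite G] [Fact p.Prime] (hp2 : p ≠ 2)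
    (hG : ¬ Involves G SL(2, ZMod p)) : CL.ZJ.Stab p G :=
  stab_of_not_involves_qd hp2 (not_involves_qd_of_sl2 hG)

theorem stab_of_sylow_two [Finite G] [Fact p.Prime] (hp2 : p ≠ 2)
    (hG : ∀ T : Sylow 2 G, IsMulCommutative T) : CL.ZJ.Stab p G :=
  stab_of_not_involves_sl2 hp2 (not_involves_sl2_of_sylow_two hp2 hG)

theorem stab_of_odd [Finite G] [Fact p.Prime] (hp2 : p ≠ 2) (hG : Odd (Nat.card G)) :
    CL.ZJ.Stab p G :=
  stab_of_not_involves_sl2 hp2 (not_involves_sl2_of_odd hp2 hG)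

end CL.Quad
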