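import Cfsg.Agent.Base
import Cfsg.Agent.PLocal.Offender
import Cfsg.Agent.Solv.Coprime

/-!
Cores (the little that is needed here), the normal closure `V = ⟨Ω₁(Z(S)) | S ∈ Syl_p(G)⟩` and
Thompson factorization.
-/

set_option autoImplicit false

namespace CL.FF

open Cfsg
open scoped Pointwise

variable {G : Type*} [Group G] {p : ℕ}

/-! ### Cores -/

theorem pCore_isPGroup : IsPGroup p (pCore p G) :=
  Sylow.sSup_of_normal _ (fun _ h => h.2) fun _ h => h.1

theorem le_pCore {N : Subgroup G} [hN : N.Normal] (h : IsPGroup p N) : N ≤ pCore p G :=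
  le_sSup (s := {N : Subgroup G | N.Normal ∧ IsPGroup p N}) ⟨hN, h⟩

theorem le_pPrimeCore {N : Subgroup G} [hN : N.Normal] (h : (Nat.card N).Coprime p) :
    N ≤ pPrimeCore p G :=
  le_sSup (s := {N : Subgroup G | N.Normal ∧ (Nat.card N).Coprime p}) ⟨hN, h⟩

theorem coprime_card_sup {H N : Subgroup G} (h : H ≤ Subgroup.normalizer (N : Set G)) {n : ℕ}
    (hH : (Nat.card H).Coprime n) (hN : (Nat.card N).Coprime n) :
    (Nat.card (H ⊔ N : Subgroup G)).Coprime n :=
  (Nat.Coprime.mul_left hH hN).coprime_dvd_left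
    (EA.card_mul_card_eq h ▸ Dvd.intro_left _ rfl)

theorem pPrimeCore_coprime [Finite G] : (Nat.card (pPrimeCore p G)).Coprime p := by
  obtain ⟨M, ⟨hM, hM'⟩, hmax⟩ := (Set.toFinite
    {N : Subgroup G | N.Normal ∧ (Nat.card N).Coprime p}).exists_maximal
    ⟨⊥, inferInstance, by simp⟩
  refine hM'.coprime_dvd_left (Subgroup.card_dvd_of_le (sSup_le ?_))
  rintro N ⟨hN, hN'⟩
  exact le_sup_left.trans (hmax (show (N ⊔ M).Normal ∧ _ from
    ⟨inferInstance, coprime_card_sup Subgroup.le_normalizer_of_normal hN' hM'⟩) le_sup_right)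

theorem pCore_map_le {G' : Type*} [Group G'] {f : G →* G'} (hf : Function.Surjective f) :
    (pCore p G).map f ≤ pCore p G' :=
  have : ((pCore p G).map f).Normal := Subgroup.Normal.map inferInstance f hf
  le_pCore (pCore_isPGroup.map f)

theorem pPrimeCore_map_le [Finite G] {G' : Type*} [Group G'] {f : G →* G'}
    (hf : Function.Surjective f) : (pPrimeCore p G).map f ≤ pPrimeCore p G' :=
  have : ((pPrimeCore p G).map f).Normal := Subgroup.Normal.map inferInstance f hf
  le_pPrimeCore (pPrimeCore_coprime.coprime_dvd_left (Subgroup.card_map_dvd _ f))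

theorem pCore_map_equiv {G' : Type*} [Group G'] (e : G ≃* G') :
    (pCore p G).map (e : G →* G') = pCore p G' := by
  refine le_antisymm (pCore_map_le e.surjective) fun x hx => ?_
  exact ⟨e.symm x, pCore_map_le (f := (e.symm : G' →* G)) e.symm.surjective ⟨x, hx, rfl⟩,
    by simp⟩

theorem pPrimeCore_map_equiv [Finite G] {G' : Type*} [Group G'] (e : G ≃* G') :
    (pPrimeCore p G).map (e : G →* G') = pPrimeCore p G' := by
  have : Finite G' := Finite.of_equiv G e.toEquiv
  refine le_antisymm (pPrimeCore_map_le e.surjective) fun x hx => ?_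
  exact ⟨e.symm x, pPrimeCore_map_le (f := (e.symm : G' →* G)) e.symm.surjective ⟨x, hx, rfl⟩,
    by simp⟩

theorem pCore_characteristic : (pCore p G).Characteristic :=
  Subgroup.characteristic_iff_map_eq.2 fun e => pCore_map_equiv e

theorem pPrimeCore_characteristic [Finite G] : (pPrimeCore p G).Characteristic :=
  Subgroup.characteristic_iff_map_eq.2 fun e => pPrimeCore_map_equiv e

theorem pCore_map_subtype_le (N : Subgroup G) [N.Normal] :
    (pCore p N).map N.subtype ≤ pCore p G :=
  have := pCore_characteristic (p := p) (G := N)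
  le_pCore (pCore_isPGroup.map _)

theorem pCore_eq_bot_of_normal (N : Subgroup G) [N.Normal] (h : pCore p G = ⊥) :
    pCore p N = ⊥ := by
  have := pCore_map_subtype_le (p := p) N
  rw [h, le_bot_iff, Subgroup.map_eq_bot_iff_of_injective _ N.subtype_injective] at this
  exact this

theorem pCore_eq_bot_of_equiv {G' : Type*} [Group G'] (e : G ≃* G') (h : pCore p G = ⊥) :
    pCore p G' = ⊥ := by
  rw [← pCore_map_equiv e, h, Subgroup.map_bot]

theorem le_pCore_of_isSubnormal {K : Subgroup G} (hK : K.IsSubnormal) (hp : IsPGroup p K) :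
    K ≤ pCore p G := by
  have key : ∀ L : Subgroup G, L.IsSubnormal → (pCore p L).map L.subtype ≤ pCore p G := by
    intro L hL
    induction hL with
    | top => exact pCore_map_subtype_le ⊤
    | step H M hHM hM hN ih =>
      refine le_trans ?_ ih
      have h1 := pCore_map_subtype_le (p := p) (H.subgroupOf M)
      have h2 := pCore_map_equiv (p := p) (Subgroup.subgroupOfEquivOfLe hHM)
      rw [← h2, Subgroup.map_map]
      refine le_trans (le_of_eq ?_) (Subgroup.map_mono h1)
      rw [Subgroup.map_map]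
      rfl
  refine le_trans ?_ (key K hK)
  have : (⊤ : Subgroup K) ≤ pCore p K := le_pCore (hp.to_subgroup ⊤)
  intro x hx
  exact ⟨⟨x, hx⟩, this (Subgroup.mem_top _), rfl⟩

theorem pPrimeCore_quotient_eq_bot [Finite G] : pPrimeCore p (G ⧸ pPrimeCore p G) = ⊥ := by
  set N := pPrimeCore p G
  set M := (pPrimeCore p (G ⧸ N)).comap (QuotientGroup.mk' N) with hM
  have hNM : N ≤ M := by
    intro x hx
    rw [hM, Subgroup.mem_comap, QuotientGroup.mk'_apply, (QuotientGroup.eq_one_iff x).2 hx]
    exact Subgroup.one_mem _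
  have hmap : M.map (QuotientGroup.mk' N) = pPrimeCore p (G ⧸ N) :=
    Subgroup.map_comap_eq_self_of_surjective (QuotientGroup.mk'_surjective N) _
  have hc : (Nat.card M).Coprime p := by
    rw [← EA.card_mul_relIndex hNM]
    refine Nat.Coprime.mul_left pPrimeCore_coprime ?_
    have := Subgroup.relIndex_ker M (QuotientGroup.mk' N)
    rw [QuotientGroup.ker_mk'] at this
    rw [this, hmap]
    exact pPrimeCore_coprime
  rw [← hmap, Subgroup.map_eq_bot_iff, QuotientGroup.ker_mk']
  exact le_pPrimeCore hc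

theorem inf_eq_bot_of_isPGroup [Finite G] [Fact p.Prime] {P N : Subgroup G} (hP : IsPGroup p P)
    (hN : (Nat.card N).Coprime p) : P ⊓ N = ⊥ := by
  obtain ⟨n, hn⟩ := IsPGroup.iff_card.1 hP
  exact inf_eq_bot_of_coprime_card (hn ▸ (hN.symm.pow_left n))

theorem coprime_card_of_isPGroup [Finite G] [Fact p.Prime] {P : Subgroup G} (hP : IsPGroup p P)
    {n : ℕ} (hN : n.Coprime p) : (Nat.card P).Coprime n := by
  obtain ⟨m, hm⟩ := IsPGroup.iff_card.1 hP
  exact hm ▸ (hN.symm.pow_left m)

theorem isSolvable_of_isPGroup [Finite G] [Fact p.Prime] {P : Subgroup G} (hP : IsPGroup p P) :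
    Group.IsSolvable P :=
  have := hP.isNilpotent
  inferInstance

/-! ### `Ω₁(Z(S))` and its normal closure -/

/-- `Ω₁(Z(H))` for a subgroup `H`. -/
abbrev omegaZ (p : ℕ) (H : Subgroup G) : Subgroup G :=
  omegaOne p (H ⊓ Subgroup.centralizer (H : Set G))

/-- The subgroup generated by all `Ω₁(Z(S))`, `S` a Sylow `p`-subgroup. -/
abbrev omegaZClosure (p : ℕ) (G : Type*) [Group G] : Subgroup G :=
  ⨆ S : Sylow p G, omegaOne p ((S : Subgroup G) ⊓ Subgroup.centralizer ((S : Subgroup G) : Set G))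

theorem omegaZ_map_of_disjoint {G' : Type*} [Group G'] {f : G →* G'} {H : Subgroup G}
    (hf : H ⊓ f.ker = ⊥) : (omegaZ p H).map f = omegaZ p (H.map f) := by
  ext y
  rw [EA.mem_omegaOne_center_iff]
  constructor
  · rintro ⟨x, hx, rfl⟩
    obtain ⟨h1, h2, h3⟩ := EA.mem_omegaOne_center_iff.1 hx
    refine ⟨Subgroup.mem_map_of_mem f h1, Subgroup.mem_centralizer_iff.2 ?_,
      by rw [← map_pow, h3, map_one]⟩
    rintro _ ⟨h, hh, rfl⟩
    rw [← map_mul, ← map_mul, Subgroup.mem_centralizer_iff.1 h2 h hh]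
  · rintro ⟨⟨x, hx, rfl⟩, h2, h3⟩
    refine ⟨x, EA.mem_omegaOne_center_iff.2 ⟨hx, Subgroup.mem_centralizer_iff.2 fun h hh => ?_,
      ?_⟩, rfl⟩
    · refine Thompson.eq_of_map_eq_of_disjoint hf (H.mul_mem hh hx) (H.mul_mem hx hh) ?_
      rw [map_mul, map_mul]
      exact Subgroup.mem_centralizer_iff.1 h2 _ (Subgroup.mem_map_of_mem f hh)
    · refine Thompson.eq_of_map_eq_of_disjoint hf (H.pow_mem hx p) H.one_mem ?_
      rw [map_pow, h3, map_one]

theorem omegaZ_map_of_injective {G' : Type*} [Group G'] {f : G →* G'}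
    (hf : Function.Injective f) (H : Subgroup G) : (omegaZ p H).map f = omegaZ p (H.map f) :=
  omegaZ_map_of_disjoint (by rw [(MonoidHom.ker_eq_bot_iff f).2 hf, inf_bot_eq])

theorem omegaZ_le_closure (S : Sylow p G) : omegaZ p (S : Subgroup G) ≤ omegaZClosure p G :=
  le_iSup (fun S : Sylow p G => omegaZ p (S : Subgroup G)) S

theorem omegaZClosure_characteristic : (omegaZClosure p G).Characteristic := by
  refine Subgroup.characteristic_iff_map_le.2 fun e => ?_
  rw [Subgroup.map_iSup]
  refine iSup_le fun S => ?_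
  rw [omegaZ_map_of_injective e.injective]
  exact omegaZ_le_closure ((show MulAut G from e) • S)

theorem omegaZClosure_normal : (omegaZClosure p G).Normal :=
  have := omegaZClosure_characteristic (p := p) (G := G)
  inferInstance

theorem pCore_quotient_centralizer_eq_bot [Finite G] [Fact p.Prime] (V : Subgroup G) [V.Normal]
    (hgen : V ≤ ⨆ S : Sylow p G, V ⊓ Subgroup.centralizer ((S : Subgroup G) : Set G)) :
    pCore p (G ⧸ Subgroup.centralizer (V : Set G)) = ⊥ := by
  set C := Subgroup.centralizer (V : Set G) with hC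
  rw [eq_bot_iff]
  intro x hx
  obtain ⟨d, rfl⟩ := QuotientGroup.mk_surjective x
  rw [Subgroup.mem_bot, QuotientGroup.eq_one_iff]
  refine EA.centralizer_anti hgen ?_
  rw [EA.centralizer_iSup, Subgroup.mem_iInf]
  intro S
  obtain ⟨s, hs, hsd⟩ := pCore_isPGroup.le_sylow_of_normal
    (S.mapSurjective (QuotientGroup.mk'_surjective C)) hx
  rw [QuotientGroup.mk'_apply, QuotientGroup.eq] at hsd
  rw [show d = s * (s⁻¹ * d) by group]
  exact Subgroup.mul_mem _ (Subgroup.le_centralizer_iff.1 inf_le_right hs)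
    (EA.centralizer_anti inf_le_left hsd)

theorem pCore_quotient_omegaZClosure [Finite G] [Fact p.Prime] :
    haveI := omegaZClosure_normal (p := p) (G := G)
    pCore p (G ⧸ Subgroup.centralizer (omegaZClosure p G : Set G)) = ⊥ :=
  haveI := omegaZClosure_normal (p := p) (G := G)
  pCore_quotient_centralizer_eq_bot _ (iSup_mono fun S =>
    le_inf (omegaZ_le_closure S) ((EA.omegaOne_le _).trans inf_le_right))

theorem omegaZClosure_le_omegaZ_pCore
    (hc : Subgroup.centralizer (pCore p G : Set G) ≤ pCore p G) :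
    omegaZClosure p G ≤ omegaZ p (pCore p G) := by
  refine iSup_le fun S => EA.omegaOne_mono ?_
  have h1 : (S : Subgroup G) ⊓ Subgroup.centralizer ((S : Subgroup G) : Set G) ≤
      Subgroup.centralizer (pCore p G : Set G) :=
    inf_le_right.trans (EA.centralizer_anti (pCore_isPGroup.le_sylow_of_normal S))
  exact le_inf (h1.trans hc) h1

theorem omegaZClosure_isElementaryAbelian
    (hc : Subgroup.centralizer (pCore p G : Set G) ≤ pCore p G) :
    IsElementaryAbelian p (omegaZClosure p G) :=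
  EA.mono (EA.omegaOne_center _) (omegaZClosure_le_omegaZ_pCore hc)

theorem le_of_pCore_quotient_eq_bot [Finite G] {C D : Subgroup G} [C.Normal] [D.Normal]
    (h : pCore p (G ⧸ C) = ⊥) {k : ℕ} (hk : C.relIndex D = p ^ k) : D ≤ C := by
  have : (D.map (QuotientGroup.mk' C)).Normal :=
    Subgroup.Normal.map inferInstance _ (QuotientGroup.mk'_surjective C)
  have h1 : Nat.card (D.map (QuotientGroup.mk' C)) = p ^ k := by
    rw [← Subgroup.relIndex_ker, QuotientGroup.ker_mk', hk]
  have h2 := le_pCore (IsPGroup.of_card h1)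
  rwa [h, le_bot_iff, Subgroup.map_eq_bot_iff, QuotientGroup.ker_mk'] at h2

/-! ### Thompson factorization -/

/-- Frattini argument for `J(S)`: if `J(S) ≤ C ⊴ G` then `G = C N_G(J(S))`. -/
theorem exists_mul_normalizer_thompsonOf [Finite G] [Fact p.Prime] (S : Sylow p G)
    (C : Subgroup G) [C.Normal] (h : thompsonSubgroupOf p (S : Subgroup G) ≤ C) (g : G) :
    ∃ c ∈ C, ∃ n ∈ Subgroup.normalizer (thompsonSubgroupOf p (S : Subgroup G) : Set G),
      g = c * n := by
  obtain ⟨T, hT⟩ := (S.2.comap_subtype (K := C)).exists_le_sylow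
  obtain ⟨S', hS'⟩ := T.exists_comap_subtype_eq
  have hTS : (T : Subgroup C).map C.subtype = (S : Subgroup G) ⊓ C := by
    obtain ⟨x, rfl⟩ := MulAction.exists_smul_eq G S S'
    have e1 : (T : Subgroup C).map C.subtype = MulAut.conj x • ((S : Subgroup G) ⊓ C) := by
      rw [← hS', Subgroup.smul_inf, Subgroup.Normal.conj_smul_eq_self x C, ← Sylow.coe_subgroup_smul]
      exact Subgroup.subgroupOf_map_subtype _ _
    refine (Subgroup.eq_of_le_of_card_ge ?_ ?_).symm
    · rw [← Subgroup.subgroupOf_map_subtype]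
      exact Subgroup.map_mono hT
    · rw [e1, card_conj_smul]
  have h1 := Sylow.normalizer_sup_eq_top T
  rw [hTS, sup_comm] at h1
  have h2 : g ∈ C ⊔ Subgroup.normalizer (((S : Subgroup G) ⊓ C : Subgroup G) : Set G) :=
    h1 ▸ Subgroup.mem_top g
  obtain ⟨c, hc, n, hn, rfl⟩ :=
    (EA.mem_sup_of_le_normalizer' Subgroup.le_normalizer_of_normal).1 h2
  refine ⟨c, hc, n, ?_, rfl⟩
  rw [← Thompson.thompsonOf_eq_of_le (le_inf (Thompson.thompsonOf_le _) h) inf_le_left]
  exact Thompson.normalizer_le_normalizer_thompsonOf _ hn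

theorem isThompsonFactorizable_of_le [Finite G] [Fact p.Prime]
    (h : thompsonSubgroup p G ≤ Subgroup.centralizer (omegaZClosure p G : Set G)) :
    IsThompsonFactorizable p G := by
  intro S g
  have := omegaZClosure_normal (p := p) (G := G)
  obtain ⟨c, hc, n, hn, rfl⟩ := exists_mul_normalizer_thompsonOf S _
    ((Thompson.thompsonOf_sylow_le S).trans h) g
  exact ⟨1, Subgroup.one_mem _, c, EA.centralizer_anti (omegaZ_le_closure S) hc, n, hn,
    by rw [one_mul]⟩

theorem le_centralizer_of_isThompsonFactorizable [Finite G] [Fact p.Prime]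
    (hO : pPrimeCore p G = ⊥) (h : IsThompsonFactorizable p G) :
    thompsonSubgroup p G ≤ Subgroup.centralizer (omegaZClosure p G : Set G) := by
  rw [Thompson.thompson_eq_iSup_sylow]
  refine iSup_le fun S => ?_
  rw [Subgroup.le_centralizer_iff]
  refine iSup_le fun T => ?_
  obtain ⟨g, rfl⟩ := MulAction.exists_smul_eq G S T
  obtain ⟨x, hx, c, hc, n, hn, hg⟩ := h S g⁻¹
  rw [hO, Subgroup.mem_bot] at hx
  rw [hx, one_mul] at hg
  have e : omegaZ p ((g • S : Sylow p G) : Subgroup G) =
      (omegaZ p (S : Subgroup G)).map (MulAut.conj g).toMonoidHom :=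
    (omegaZ_map_of_injective (MulAut.conj g).injective _).symm
  change omegaZ p ((g • S : Sylow p G) : Subgroup G) ≤ _
  rw [e]
  rintro _ ⟨z, hz, rfl⟩
  have h1 := Subgroup.mem_centralizer_iff.1 hc z hz
  have h2 : (MulAut.conj g).toMonoidHom z = n⁻¹ * z * n⁻¹⁻¹ := by
    have : g = n⁻¹ * c⁻¹ := by rw [← mul_inv_rev, ← hg, inv_inv]
    calc (MulAut.conj g).toMonoidHom z = n⁻¹ * (c⁻¹ * (z * c)) * n⁻¹⁻¹ := by
          simp only [this, MulEquiv.toMonoidHom_eq_coe, MonoidHom.coe_coe, MulAut.conj_apply]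
          group
      _ = _ := by rw [h1]; group
  rw [h2]
  exact (Offender.conj_mem (Thompson.normalizer_thompsonOf_le_normalizer_center _)
    (Subgroup.inv_mem _ hn) (Thompson.omegaOne_center_le_centerThompsonOf _ hz)).2

theorem isThompsonFactorizable_iff [Finite G] [Fact p.Prime] (hO : pPrimeCore p G = ⊥) :
    IsThompsonFactorizable p G ↔
      thompsonSubgroup p G ≤ Subgroup.centralizer (omegaZClosure p G : Set G) :=
  ⟨le_centralizer_of_isThompsonFactorizable hO, isThompsonFactorizable_of_le⟩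

/-- Normalizers of `p`-subgroups lift modulo a normal `p'`-subgroup. -/
theorem normalizer_map_mk'_of_isPGroup [Finite G] [Fact p.Prime] {P : Subgroup G}
    (hP : IsPGroup p P) (N : Subgroup G) [N.Normal] (hN : (Nat.card N).Coprime p) :
    Subgroup.normalizer ((P.map (QuotientGroup.mk' N) : Subgroup (G ⧸ N)) : Set (G ⧸ N)) =
      (Subgroup.normalizer (P : Set G)).map (QuotientGroup.mk' N) := by
  refine le_antisymm (fun x hx => ?_) (Subgroup.le_normalizer_map _)
  obtain ⟨g, rfl⟩ := QuotientGroup.mk'_surjective N x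
  have h1 : MulAut.conj g • P ≤ N ⊔ P := by
    rintro _ ⟨y, hy, rfl⟩
    have h2 := (Subgroup.mem_normalizer_iff.1 hx (QuotientGroup.mk' N y)).1
      (Subgroup.mem_map_of_mem _ hy)
    rw [← map_inv, ← map_mul, ← map_mul, ← Subgroup.mem_comap, Subgroup.comap_map_eq,
      QuotientGroup.ker_mk', sup_comm] at h2
    exact h2
  have hP' : IsPGroup p (MulAut.conj g • P : Subgroup G) := hP.map _
  obtain ⟨l, hl, h3⟩ := exists_conj_eq_of_le_sup (L := N) Subgroup.le_normalizer_of_normal
    Subgroup.le_normalizer_of_normal (coprime_card_of_isPGroup hP' hN)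
    (Or.inl (isSolvable_of_isPGroup hP')) h1 (card_conj_smul P g).ge
  refine ⟨l * g, mem_normalizer_iff_conj_smul_eq.2 (by rw [map_mul, mul_smul, h3]), ?_⟩
  rw [map_mul, QuotientGroup.mk'_apply, (QuotientGroup.eq_one_iff l).2 hl, one_mul]

theorem isThompsonFactorizable_iff_quotient [Finite G] [Fact p.Prime] :
    IsThompsonFactorizable p G ↔ IsThompsonFactorizable p (G ⧸ pPrimeCore p G) := by
  set N := pPrimeCore p G with hN
  have hsurj := QuotientGroup.mk'_surjective N
  have hdis : ∀ S : Sylow p G, (S : Subgroup G) ⊓ (QuotientGroup.mk' N).ker = ⊥ := fun S => by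
    rw [QuotientGroup.ker_mk']
    exact inf_eq_bot_of_isPGroup S.2 pPrimeCore_coprime
  have hC : ∀ S : Sylow p G, Subgroup.centralizer
      (omegaZ p ((S.mapSurjective hsurj : Sylow p (G ⧸ N)) : Subgroup (G ⧸ N)) : Set (G ⧸ N)) =
      (Subgroup.centralizer (omegaZ p (S : Subgroup G) : Set G)).map (QuotientGroup.mk' N) := by
    intro S
    have hp : IsPGroup p (omegaZ p (S : Subgroup G)) := EA.isPGroup (EA.omegaOne_center _)
    rw [Sylow.coe_mapSurjective, ← omegaZ_map_of_disjoint (hdis S),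
      centralizer_map_mk'_of_coprime _ N (coprime_card_of_isPGroup hp pPrimeCore_coprime)
        (Or.inl (isSolvable_of_isPGroup hp))]
  have hJ : ∀ S : Sylow p G, Subgroup.normalizer
      (thompsonSubgroupOf p ((S.mapSurjective hsurj : Sylow p (G ⧸ N)) : Subgroup (G ⧸ N)) :
        Set (G ⧸ N)) =
      (Subgroup.normalizer (thompsonSubgroupOf p (S : Subgroup G) : Set G)).map
        (QuotientGroup.mk' N) := by
    intro S
    rw [Sylow.coe_mapSurjective, Thompson.thompsonOf_map_of_disjoint (hdis S),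
      normalizer_map_mk'_of_isPGroup (S.2.to_le (Thompson.thompsonOf_le _)) N pPrimeCore_coprime]
  constructor
  · intro h T x
    obtain ⟨S, rfl⟩ := Sylow.mapSurjective_surjective hsurj p T
    obtain ⟨g, rfl⟩ := hsurj x
    obtain ⟨y, hy, c, hc, n, hn, rfl⟩ := h S g
    refine ⟨1, Subgroup.one_mem _, QuotientGroup.mk' N c, ?_, QuotientGroup.mk' N n, ?_, ?_⟩
    · exact hC S ▸ Subgroup.mem_map_of_mem _ hc
    · exact hJ S ▸ Subgroup.mem_map_of_mem _ hn
    · rw [map_mul, map_mul, QuotientGroup.mk'_apply, (QuotientGroup.eq_one_iff y).2 hy]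
  · intro h S g
    obtain ⟨y, hy, c', hc', n', hn', hg⟩ := h (S.mapSurjective hsurj) (QuotientGroup.mk' N g)
    rw [pPrimeCore_quotient_eq_bot, Subgroup.mem_bot] at hy
    obtain ⟨c, hc, rfl⟩ := (hC S).le hc'
    obtain ⟨n, hn, rfl⟩ := (hJ S).le hn'
    rw [hy, one_mul, ← map_mul, QuotientGroup.mk'_apply, QuotientGroup.mk'_apply, eq_comm,
      QuotientGroup.eq_iff_div_mem, div_eq_mul_inv] at hg
    refine ⟨(c * n * g⁻¹)⁻¹, N.inv_mem hg, c, hc, n, hn, by group⟩

end CL.FF
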