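import Cfsg.Agent.PLocal.Constraint
import Cfsg.Agent.S0028

/-!
`p`-local subgroups of groups of characteristic `p` and of `p`-constrained groups
(via Thompson's `P × Q` lemma).
-/

set_option autoImplicit false

open Cfsg Subgroup

namespace CL.PL

open CL.Transfer

variable {G : Type*} [Group G] {H : Type*} [Group H] {p : ℕ}

/-- In a group of characteristic `p`, a `p'`-element centralizing a `p`-subgroup `P` and
`C_{O_p(G)}(P)` is trivial. -/
theorem eq_one_of_centralizes_of_charP [Finite G] [Fact p.Prime]
    (h : centralizer (pCore p G : Set G) ≤ pCore p G) {P : Subgroup G} (hP : IsPGroup p P)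
    {x : G} (hx : (orderOf x).Coprime p) (h1 : x ∈ centralizer (P : Set G))
    (h2 : x ∈ centralizer ((pCore p G ⊓ centralizer (P : Set G) : Subgroup G) : Set G)) :
    x = 1 := by
  have key := Cfsg.Agent.S0028.result p P (zpowers x) (pCore p G) hP
    (by rwa [Nat.card_zpowers]) (pCore_isPGroup p G)
    (le_centralizer_iff.1 (zpowers_le.2 h1)) le_normalizer_of_normal le_normalizer_of_normal
    (le_centralizer_iff.1 (zpowers_le.2 h2))
  exact eq_one_of_mem_isPGroup_of_coprime (pCore_isPGroup p G) (h (key (mem_zpowers x))) hx

theorem charP_subgroup_of_centralizes [Finite G] [Fact p.Prime]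
    (h : centralizer (pCore p G : Set G) ≤ pCore p G) {P L : Subgroup G} (hP : IsPGroup p P)
    (h1 : pCore p G ⊓ centralizer (P : Set G) ≤ L)
    (h2 : ∀ x : L, x ∈ centralizer (pCore p L : Set L) → (x : G) ∈ centralizer (P : Set G)) :
    centralizer (pCore p L : Set L) ≤ pCore p L := by
  refine charP_of_forall_coprime fun x hx hx' => Subtype.ext ?_
  refine eq_one_of_centralizes_of_charP h hP (by simpa using hx') (h2 x hx) fun z hz => ?_
  exact congrArg Subtype.val (hx ⟨z, h1 hz⟩ (pCore_subgroupOf_le L hz.1))

/-- If `G` has characteristic `p`, `P` is a `p`-subgroup and `P C_{O_p(G)}(P) ≤ L ≤ N_G(P)`, then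
`L` has characteristic `p`. -/
theorem charP_of_le_normalizer [Finite G] [Fact p.Prime]
    (h : centralizer (pCore p G : Set G) ≤ pCore p G) {P L : Subgroup G} (hP : IsPGroup p P)
    (hPL : P ≤ L) (h1 : pCore p G ⊓ centralizer (P : Set G) ≤ L)
    (hL : L ≤ normalizer (P : Set G)) : centralizer (pCore p L : Set L) ≤ pCore p L :=
  charP_subgroup_of_centralizes h hP h1 fun _ hx z hz =>
    congrArg Subtype.val (hx ⟨z, hPL hz⟩ (subgroupOf_le_pCore hP hL hz))

theorem charP_normalizer [Finite G] [Fact p.Prime]
    (h : centralizer (pCore p G : Set G) ≤ pCore p G) {P : Subgroup G} (hP : IsPGroup p P) :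
    centralizer (pCore p (normalizer (P : Set G)) : Set (normalizer (P : Set G))) ≤
      pCore p (normalizer (P : Set G)) :=
  charP_of_le_normalizer h hP le_normalizer (inf_le_right.trans (centralizer_le_normalizer _))
    le_rfl

theorem charP_centralizer [Finite G] [Fact p.Prime]
    (h : centralizer (pCore p G : Set G) ≤ pCore p G) {P : Subgroup G} (hP : IsPGroup p P) :
    centralizer (pCore p (centralizer (P : Set G)) : Set (centralizer (P : Set G))) ≤
      pCore p (centralizer (P : Set G)) :=
  charP_subgroup_of_centralizes h hP inf_le_right fun x _ => x.2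

theorem ker_subgroupMap (f : G →* H) (L : Subgroup G) :
    (f.subgroupMap L).ker = f.ker.subgroupOf L := by
  ext x
  exact Subtype.ext_iff

theorem coprime_card_ker_subgroupMap (f : G →* H) (L : Subgroup G) {n : ℕ}
    (hk : (Nat.card f.ker).Coprime n) : (Nat.card (f.subgroupMap L).ker).Coprime n := by
  rw [ker_subgroupMap]
  exact coprime_card_comap _ hk (by simp)

/-- If the image of `L` modulo a `p'`-kernel has characteristic `p`, then `L` is `p`-constrained
and `O_{p'}(L) = ker ∩ L`. -/
theorem isPConstrained_of_map_charP [Finite G] [Fact p.Prime] (f : G →* H)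
    (hk : (Nat.card f.ker).Coprime p) {L : Subgroup G}
    (h : centralizer (pCore p (L.map f) : Set (L.map f)) ≤ pCore p (L.map f)) :
    IsPConstrained p L ∧ (pPrimeCore p L).map L.subtype = f.ker ⊓ L := by
  have h1 := coprime_card_ker_subgroupMap f L hk
  refine ⟨isPConstrained_of_surjective_charP _ (f.subgroupMap_surjective L) h1 h, ?_⟩
  rw [← ker_eq_pPrimeCore_of_charP _ (f.subgroupMap_surjective L) h1 h, ker_subgroupMap,
    subgroupOf_map_subtype]

theorem IsPConstrained.normalizer [Finite G] [Fact p.Prime] (h : IsPConstrained p G)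
    {P : Subgroup G} (hP : IsPGroup p P) :
    IsPConstrained p (normalizer (P : Set G)) ∧
      (pPrimeCore p (normalizer (P : Set G))).map (normalizer (P : Set G)).subtype =
        pPrimeCore p G ⊓ normalizer (P : Set G) := by
  have hk : (Nat.card (QuotientGroup.mk' (pPrimeCore p G)).ker).Coprime p := by
    rw [QuotientGroup.ker_mk']; exact pPrimeCore_coprime p G
  have := isPConstrained_of_map_charP (QuotientGroup.mk' (pPrimeCore p G)) hk
    (L := Subgroup.normalizer (P : Set G)) (by
      rw [map_normalizer_eq _ (QuotientGroup.mk'_surjective _) hk hP]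
      exact charP_normalizer (isPConstrained_iff.1 h) (hP.map _))
  rwa [QuotientGroup.ker_mk'] at this

theorem IsPConstrained.centralizer [Finite G] [Fact p.Prime] (h : IsPConstrained p G)
    {P : Subgroup G} (hP : IsPGroup p P) :
    IsPConstrained p (centralizer (P : Set G)) ∧
      (pPrimeCore p (centralizer (P : Set G))).map (centralizer (P : Set G)).subtype =
        pPrimeCore p G ⊓ centralizer (P : Set G) := by
  have hk : (Nat.card (QuotientGroup.mk' (pPrimeCore p G)).ker).Coprime p := by
    rw [QuotientGroup.ker_mk']; exact pPrimeCore_coprime p G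
  have := isPConstrained_of_map_charP (QuotientGroup.mk' (pPrimeCore p G)) hk
    (L := Subgroup.centralizer (P : Set G)) (by
      rw [map_centralizer_eq _ (QuotientGroup.mk'_surjective _) hk hP]
      exact charP_centralizer (isPConstrained_iff.1 h) (hP.map _))
  rwa [QuotientGroup.ker_mk'] at this

end CL.PL
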