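import Cfsg.Agent.Base
import Cfsg.Agent.PLocal.ThompsonFact
import Cfsg.Agent.PLocal.QuadBasic

/-!
Two subnormal subgroups acting irreducibly on their commutator modules.
-/

set_option autoImplicit false

namespace CL.FF

open Cfsg
open scoped Pointwise commutatorElement

variable {G : Type*} [Group G] {p : ℕ}

/-- `E` acts irreducibly (or trivially) on `[V, E]`. -/
def Irr (V E : Subgroup G) : Prop :=
  ∀ U : Subgroup G, U ≤ ⁅V, E⁆ → E ≤ Subgroup.normalizer (U : Set G) → U = ⊥ ∨ U = ⁅V, E⁆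

/-- `O_p(E) = 1`, in ambient form. -/
def NoP (p : ℕ) (E : Subgroup G) : Prop :=
  ∀ K : Subgroup G, K ≤ E → E ≤ Subgroup.normalizer (K : Set G) → IsPGroup p K → K = ⊥

theorem conj_smul_commutator (g : G) (H K : Subgroup G) :
    MulAut.conj g • ⁅H, K⁆ = ⁅MulAut.conj g • H, MulAut.conj g • K⁆ :=
  Subgroup.map_commutator H K _

theorem conj_smul_normalizer (g : G) (H : Subgroup G) :
    MulAut.conj g • Subgroup.normalizer (H : Set G) =
      Subgroup.normalizer ((MulAut.conj g • H : Subgroup G) : Set G) :=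
  Subgroup.map_equiv_normalizer_eq H (MulAut.conj g)

theorem conj_smul_centralizer (g : G) (H : Subgroup G) :
    MulAut.conj g • Subgroup.centralizer (H : Set G) =
      Subgroup.centralizer ((MulAut.conj g • H : Subgroup G) : Set G) :=
  (EA.centralizer_map_equiv H (MulAut.conj g)).symm

theorem conj_smul_conj_smul (g h : G) (H : Subgroup G) :
    MulAut.conj g • MulAut.conj h • H = MulAut.conj (g * h) • H := by
  rw [map_mul, mul_smul]

theorem conj_inv_smul_conj_smul (g : G) (H : Subgroup G) :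
    MulAut.conj g⁻¹ • MulAut.conj g • H = H := by
  rw [map_inv, inv_smul_smul]

theorem conj_smul_conj_inv_smul (g : G) (H : Subgroup G) :
    MulAut.conj g • MulAut.conj g⁻¹ • H = H := by
  rw [map_inv, smul_inv_smul]

theorem conj_smul_mono (g : G) {H K : Subgroup G} (h : H ≤ K) :
    MulAut.conj g • H ≤ MulAut.conj g • K := Subgroup.map_mono h

theorem conj_smul_bot (g : G) : MulAut.conj g • (⊥ : Subgroup G) = ⊥ := Subgroup.map_bot _

theorem conj_mem_conj_smul (g : G) {H : Subgroup G} {x : G} (hx : x ∈ H) :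
    g * x * g⁻¹ ∈ MulAut.conj g • H := ⟨x, hx, rfl⟩

theorem Irr.conj {V E : Subgroup G} (h : Irr V E) {g : G}
    (hg : g ∈ Subgroup.normalizer (V : Set G)) : Irr V (MulAut.conj g • E) := by
  intro U hU hE
  have hV := mem_normalizer_iff_conj_smul_eq.1 hg
  have e : ⁅V, MulAut.conj g • E⁆ = MulAut.conj g • ⁅V, E⁆ := by rw [conj_smul_commutator, hV]
  rw [e] at hU ⊢
  have h1 := conj_smul_mono g⁻¹ hU
  have h2 := conj_smul_mono g⁻¹ hE
  rw [conj_inv_smul_conj_smul] at h1 h2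
  rw [conj_smul_normalizer] at h2
  rcases h _ h1 h2 with h3 | h3
  · left
    rw [← conj_smul_conj_inv_smul g U, h3, conj_smul_bot]
  · right
    rw [← h3, conj_smul_conj_inv_smul]

theorem NoP.conj {E : Subgroup G} (h : NoP p E) (g : G) : NoP p (MulAut.conj g • E) := by
  intro K hK hE hp
  have h1 := conj_smul_mono g⁻¹ hK
  have h2 := conj_smul_mono g⁻¹ hE
  rw [conj_inv_smul_conj_smul] at h1 h2
  rw [conj_smul_normalizer] at h2
  rw [← conj_smul_conj_inv_smul g K, h _ h1 h2 (hp.map _), conj_smul_bot]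

theorem noP_of_coprime [Finite G] [Fact p.Prime] {E : Subgroup G} (h : (Nat.card E).Coprime p) :
    NoP p E := fun K hK _ hp => by
  rw [← inf_eq_left.2 hK]
  exact inf_eq_bot_of_isPGroup hp h

theorem noP_of_isSubnormal {H E : Subgroup G} (hO : pCore p H = ⊥) (hE : E ≤ H)
    (hs : (E.subgroupOf H).IsSubnormal) : NoP p E := by
  intro K hK hn hp
  have h1 : (K.subgroupOf H).IsSubnormal := by
    refine Subgroup.IsSubnormal.step _ _ (Subgroup.comap_mono hK) hs ?_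
    exact Subgroup.normal_subgroupOf_of_le_normalizer
      ((Subgroup.comap_mono hn).trans (Subgroup.le_normalizer_comap _))
  have h2 := le_pCore_of_isSubnormal h1 hp.comap_subtype
  rw [hO, le_bot_iff, Subgroup.subgroupOf_eq_bot, disjoint_iff, inf_eq_left.2 (hK.trans hE)] at h2
  exact h2

theorem noP_of_pCore_eq_bot {H : Subgroup G} (hO : pCore p H = ⊥) : NoP p H :=
  noP_of_isSubnormal hO le_rfl (by rw [Subgroup.subgroupOf_self]; exact Subgroup.IsSubnormal.top)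

/-- A faithful quadratic subgroup is a `p`-group (of exponent `p`). -/
theorem pow_eq_one_of_quadratic {V K : Subgroup G} (hV : IsElementaryAbelian p V)
    (hKV : K ≤ Subgroup.normalizer (V : Set G)) (hf : K ⊓ Subgroup.centralizer (V : Set G) = ⊥)
    (hq : ⁅⁅V, K⁆, K⁆ = ⊥) {k : G} (hk : k ∈ K) : k ^ p = 1 := by
  have : k ^ p ∈ K ⊓ Subgroup.centralizer (V : Set G) := ⟨K.pow_mem hk p,
    Quad.pow_mem_centralizer_of_quadratic hV.2 (hKV hk)
      (Quad.quadratic_zpowers_of_quadratic hq hk)⟩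
  rwa [hf, Subgroup.mem_bot] at this

theorem isPGroup_inf_centralizer_commutator {V E : Subgroup G} (hV : IsElementaryAbelian p V)
    (hEV : E ≤ Subgroup.normalizer (V : Set G)) (hf : E ⊓ Subgroup.centralizer (V : Set G) = ⊥) :
    IsPGroup p (E ⊓ Subgroup.centralizer ((⁅V, E⁆ : Subgroup G) : Set G) : Subgroup G) := by
  intro k
  refine ⟨1, Subtype.ext ?_⟩
  rw [pow_one]
  refine pow_eq_one_of_quadratic hV (inf_le_left.trans hEV)
    (le_bot_iff.1 (hf ▸ inf_le_inf_right _ inf_le_left)) ?_ k.2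
  rw [Subgroup.commutator_eq_bot_iff_le_centralizer, Subgroup.le_centralizer_iff]
  exact inf_le_right.trans (EA.centralizer_anti (Subgroup.commutator_mono le_rfl inf_le_left))

theorem NoP.inf_centralizer_commutator {V E : Subgroup G} (h : NoP p E)
    (hV : IsElementaryAbelian p V) (hEV : E ≤ Subgroup.normalizer (V : Set G))
    (hf : E ⊓ Subgroup.centralizer (V : Set G) = ⊥) :
    E ⊓ Subgroup.centralizer ((⁅V, E⁆ : Subgroup G) : Set G) = ⊥ :=
  h _ inf_le_left (EA.le_normalizer_inf Subgroup.le_normalizer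
    (EA.le_normalizer_centralizer (Subgroup.normalizer_commutator_ge_right _ _)))
    (isPGroup_inf_centralizer_commutator hV hEV hf)

theorem Irr.inf_centralizer_eq_bot {V E : Subgroup G} (hi : Irr V E) (h : NoP p E)
    (hV : IsElementaryAbelian p V) (hEV : E ≤ Subgroup.normalizer (V : Set G))
    (hf : E ⊓ Subgroup.centralizer (V : Set G) = ⊥) (hE : E ≠ ⊥) :
    ⁅V, E⁆ ⊓ Subgroup.centralizer (E : Set G) = ⊥ := by
  rcases hi _ (inf_le_left : ⁅V, E⁆ ⊓ Subgroup.centralizer (E : Set G) ≤ _)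
    (EA.le_normalizer_of_le_centralizer (Subgroup.le_centralizer_iff.1 inf_le_right)) with h1 | h1
  · exact h1
  · exfalso
    apply hE
    rw [← h.inf_centralizer_commutator hV hEV hf, eq_comm, inf_eq_left,
      Subgroup.le_centralizer_iff]
    exact inf_eq_left.1 h1

/-- The data of one subgroup in the two-subgroup lemma. -/
structure IrrData (p : ℕ) (V E : Subgroup G) : Prop where
  norm : E ≤ Subgroup.normalizer (V : Set G)
  faithful : E ⊓ Subgroup.centralizer (V : Set G) = ⊥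
  noP : NoP p E
  irr : Irr V E
  two_lt : 2 < Nat.card E

theorem IrrData.ne_bot {V E : Subgroup G} (h : IrrData p V E) : E ≠ ⊥ := by
  rintro rfl
  have := h.two_lt
  rw [Subgroup.card_bot] at this
  omega

theorem IrrData.conj {V E : Subgroup G} (h : IrrData p V E) {g : G}
    (hg : g ∈ Subgroup.normalizer (V : Set G)) : IrrData p V (MulAut.conj g • E) := by
  have hV := mem_normalizer_iff_conj_smul_eq.1 hg
  refine ⟨?_, ?_, h.noP.conj g, h.irr.conj hg, by rw [card_conj_smul]; exact h.two_lt⟩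
  · have := conj_smul_mono g h.norm
    rwa [conj_smul_normalizer, hV] at this
  · have := congrArg (fun X => MulAut.conj g • X) h.faithful
    simp only [Subgroup.smul_inf, conj_smul_centralizer, hV, conj_smul_bot] at this
    exact this

theorem irr_pair_of_le_normalizer {V E₁ E₂ : Subgroup G} (hV : IsElementaryAbelian p V)
    (d₁ : IrrData p V E₁) (d₂ : IrrData p V E₂) (h21 : ¬ ⁅V, E₂⁆ ≤ ⁅V, E₁⁆)
    (hn : E₂ ≤ Subgroup.normalizer ((⁅V, E₁⁆ : Subgroup G) : Set G))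
    (A₂ : ∀ h ∈ E₁, MulAut.conj h • ⁅V, E₂⁆ = ⁅V, E₂⁆ ∨ ⁅MulAut.conj h • ⁅V, E₂⁆, E₂⁆ = ⊥) :
    ⁅V, E₁⁆ ⊓ ⁅V, E₂⁆ = ⊥ ∧ ⁅⁅V, E₁⁆, E₂⁆ = ⊥ ∧ ⁅⁅V, E₂⁆, E₁⁆ = ⊥ := by
  have v₁ : ⁅V, E₁⁆ ≤ V := Offender.commutator_le d₁.norm le_rfl
  have v₂ : ⁅V, E₂⁆ ≤ V := Offender.commutator_le d₂.norm le_rfl
  have h0 : ⁅V, E₁⁆ ⊓ ⁅V, E₂⁆ = ⊥ := by
    rcases d₂.irr _ (inf_le_right : ⁅V, E₁⁆ ⊓ ⁅V, E₂⁆ ≤ _)
      (EA.le_normalizer_inf hn (Subgroup.normalizer_commutator_ge_right _ _)) with h | h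
    · exact h
    · exact absurd (inf_eq_right.1 h) h21
  have h1 : ⁅⁅V, E₁⁆, E₂⁆ = ⊥ := by
    rw [eq_bot_iff, ← h0]
    exact le_inf (Offender.commutator_le hn le_rfl) (Subgroup.commutator_mono v₁ le_rfl)
  have hn' : E₁ ≤ Subgroup.normalizer ((⁅V, E₂⁆ : Subgroup G) : Set G) := by
    intro h hh
    rw [mem_normalizer_iff_conj_smul_eq]
    refine (A₂ h hh).resolve_right fun hc => h21 ?_
    have hW : MulAut.conj h • ⁅V, E₂⁆ ≤ ⁅V, E₁⁆ ⊔ ⁅V, E₂⁆ :=
      conj_smul_le_of_mem_normalizer le_sup_right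
        (Offender.le_normalizer_of_commutator_le le_sup_left (sup_le v₁ v₂) hh)
    have hle : MulAut.conj h • ⁅V, E₂⁆ ≤ ⁅V, E₁⁆ := by
      intro w hw
      obtain ⟨a, ha, b, hb, rfl⟩ := (EA.mem_sup_of_le_normalizer
        (EA.le_normalizer_of_le_centralizer (EA.le_centralizer_of_le hV v₁ v₂))).1 (hW hw)
      have hb' : b ∈ ⁅V, E₂⁆ ⊓ Subgroup.centralizer (E₂ : Set G) := by
        refine ⟨hb, ?_⟩
        rw [Subgroup.commutator_eq_bot_iff_le_centralizer] at hc h1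
        have := Subgroup.mul_mem _ (Subgroup.inv_mem _ (h1 ha)) (hc hw)
        rwa [inv_mul_cancel_left] at this
      rw [d₂.irr.inf_centralizer_eq_bot d₂.noP hV d₂.norm d₂.faithful d₂.ne_bot,
        Subgroup.mem_bot] at hb'
      rw [hb', mul_one]
      exact ha
    have := conj_smul_le_of_mem_normalizer hle
      (Subgroup.normalizer_commutator_ge_right V E₁ (E₁.inv_mem hh))
    rwa [conj_inv_smul_conj_smul] at this
  refine ⟨h0, h1, ?_⟩
  rw [eq_bot_iff, ← h0]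
  exact le_inf (Subgroup.commutator_mono v₂ le_rfl) (Offender.commutator_le hn' le_rfl)

theorem injective_commutator_of_inf_eq_bot {V U : Subgroup G} (hV : IsElementaryAbelian p V)
    (hU : U ≤ V) {g : G} (hg : g ∈ Subgroup.normalizer (V : Set G))
    (h : U ⊓ MulAut.conj g • U = ⊥) :
    Function.Injective
      ((Offender.commHom (EA.iff.1 hV).1 hg).comp (Subgroup.inclusion hU)) := by
  rw [injective_iff_map_eq_one]
  intro u hu
  have h1 : ⁅(u : G), g⁆ = 1 := hu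
  have h2 : (u : G) ∈ U ⊓ MulAut.conj g • U := by
    refine ⟨u.2, ?_⟩
    have := conj_mem_conj_smul g u.2
    rwa [← (commutatorElement_eq_one_iff_mul_comm.1 h1), mul_inv_cancel_right] at this
  rw [h, Subgroup.mem_bot] at h2
  exact Subtype.ext h2

theorem irr_pair_false [Finite G] {V E₁ E₂ : Subgroup G} (hV : IsElementaryAbelian p V)
    (d₁ : IrrData p V E₁) (d₂ : IrrData p V E₂)
    (A₁ : ∀ g ∈ E₂, MulAut.conj g • ⁅V, E₁⁆ = ⁅V, E₁⁆ ∨
      (⁅V, E₁⁆ ⊓ MulAut.conj g • ⁅V, E₁⁆ = ⊥ ∧ ⁅MulAut.conj g • ⁅V, E₁⁆, E₁⁆ = ⊥))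
    {g : G} (hg : g ∈ E₂) (hg' : MulAut.conj g • ⁅V, E₁⁆ ≠ ⁅V, E₁⁆)
    (hcard : Nat.card (⁅V, E₂⁆ : Subgroup G) ≤ Nat.card (⁅V, E₁⁆ : Subgroup G)) : False := by
  set V₁ := ⁅V, E₁⁆ with hV₁
  set V₂ := ⁅V, E₂⁆ with hV₂
  have v₁ : V₁ ≤ V := Offender.commutator_le d₁.norm le_rfl
  have v₂ : V₂ ≤ V := Offender.commutator_le d₂.norm le_rfl
  have n₂ : E₂ ≤ Subgroup.normalizer (V₂ : Set G) := Subgroup.normalizer_commutator_ge_right _ _
  obtain ⟨g1, g2⟩ := (A₁ g hg).resolve_left hg'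
  have vg : ∀ x ∈ E₂, MulAut.conj x • V₁ ≤ V := fun x hx =>
    conj_smul_le_of_mem_normalizer v₁ (d₂.norm hx)
  set f := (Offender.commHom (EA.iff.1 hV).1 (d₂.norm hg)).comp (Subgroup.inclusion v₁) with hf
  have hinj : Function.Injective f := injective_commutator_of_inf_eq_bot hV v₁ (d₂.norm hg) g1
  have hrange : f.range = V₂ := by
    refine Subgroup.eq_of_le_of_card_ge ?_ ?_
    · rintro _ ⟨u, rfl⟩
      exact Subgroup.commutator_mem_commutator (v₁ u.2) hg
    · rwa [← Nat.card_congr (MonoidHom.ofInjective hinj).toEquiv]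
  have hform : ∀ w ∈ V₂, ∃ u ∈ V₁, w = u * (g * u⁻¹ * g⁻¹) := by
    intro w hw
    rw [← hrange] at hw
    obtain ⟨u, rfl⟩ := hw
    refine ⟨u, u.2, ?_⟩
    change ⁅(u : G), g⁆ = _
    rw [commutatorElement_def]
    group
  have h12 : V₁ ⊓ V₂ = ⊥ := by
    rw [eq_bot_iff]
    rintro w ⟨hw₁, hw₂⟩
    obtain ⟨u, hu, rfl⟩ := hform w hw₂
    have : g * u⁻¹ * g⁻¹ ∈ V₁ ⊓ MulAut.conj g • V₁ :=
      ⟨(Subgroup.mul_mem_cancel_left _ hu).1 hw₁, conj_mem_conj_smul g (V₁.inv_mem hu)⟩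
    rw [g1, Subgroup.mem_bot, mul_inv_eq_one, mul_eq_left, inv_eq_one] at this
    simp [this]
  have hg2 : MulAut.conj g • V₁ ⊓ V₂ = ⊥ := by
    rw [← mem_normalizer_iff_conj_smul_eq.1 (n₂ hg), ← Subgroup.smul_inf, h12, conj_smul_bot]
  have hW : V₂ ≤ V₁ ⊔ MulAut.conj g • V₁ := by
    intro w hw
    obtain ⟨u, hu, rfl⟩ := hform w hw
    exact Subgroup.mul_mem_sup hu (conj_mem_conj_smul g (V₁.inv_mem hu))
  have horb : ∀ x ∈ E₂, MulAut.conj x • V₁ ≠ V₁ → MulAut.conj x • V₁ = MulAut.conj g • V₁ := by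
    intro x hx hx'
    obtain ⟨-, x2⟩ := (A₁ x hx).resolve_left hx'
    refine Subgroup.eq_of_le_of_card_ge ?_ (by rw [card_conj_smul, card_conj_smul])
    have h1 : MulAut.conj x • V₁ ≤ V₁ ⊔ MulAut.conj g • V₁ :=
      (conj_smul_le_of_mem_normalizer (le_sup_left : V₁ ≤ V₁ ⊔ V₂)
        (Offender.le_normalizer_of_commutator_le le_sup_right (sup_le v₁ v₂) hx)).trans
        (sup_le le_sup_left hW)
    intro w hw
    obtain ⟨a, ha, b, hb, rfl⟩ := (EA.mem_sup_of_le_normalizer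
      (EA.le_normalizer_of_le_centralizer (EA.le_centralizer_of_le hV v₁ (vg g hg)))).1 (h1 hw)
    have ha' : a ∈ V₁ ⊓ Subgroup.centralizer (E₁ : Set G) := by
      refine ⟨ha, ?_⟩
      rw [Subgroup.commutator_eq_bot_iff_le_centralizer] at x2 g2
      have := Subgroup.mul_mem _ (x2 hw) (Subgroup.inv_mem _ (g2 hb))
      rwa [mul_inv_cancel_right] at this
    rw [d₁.irr.inf_centralizer_eq_bot d₁.noP hV d₁.norm d₁.faithful d₁.ne_bot,
      Subgroup.mem_bot] at ha'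
    rw [ha', one_mul]
    exact hb
  have hK : ∀ k ∈ E₂, MulAut.conj k • V₁ = V₁ → k = 1 := by
    intro k hk hk'
    have k1 : MulAut.conj k • MulAut.conj g • V₁ = MulAut.conj g • V₁ := by
      rw [conj_smul_conj_smul]
      refine horb _ (E₂.mul_mem hk hg) fun h => hg' ?_
      rw [← conj_inv_smul_conj_smul k (MulAut.conj g • V₁), conj_smul_conj_smul k g, h]
      nth_rewrite 1 [← hk']
      rw [conj_inv_smul_conj_smul]
    have hcent : ∀ U : Subgroup G, U ≤ V → U ⊓ V₂ = ⊥ → MulAut.conj k • U = U →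
        U ≤ Subgroup.centralizer (Subgroup.zpowers k : Set G) := by
      intro U hU hU' hkU
      rw [← Subgroup.commutator_eq_bot_iff_le_centralizer, eq_bot_iff, ← hU']
      exact le_inf (Offender.commutator_le
        (Subgroup.zpowers_le.2 (mem_normalizer_iff_conj_smul_eq.2 hkU)) le_rfl)
        (Subgroup.commutator_mono hU (Subgroup.zpowers_le.2 hk))
    have : k ∈ E₂ ⊓ Subgroup.centralizer (V₂ : Set G) := by
      refine ⟨hk, ?_⟩
      change k ∈ Subgroup.centralizer (V₂ : Set G)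
      rw [← Subgroup.zpowers_le, ← Subgroup.le_centralizer_iff]
      exact hW.trans (sup_le (hcent _ v₁ h12 hk') (hcent _ (vg g hg) hg2 k1))
    rwa [d₂.noP.inf_centralizer_commutator hV d₂.norm d₂.faithful, Subgroup.mem_bot] at this
  have hsub : (E₂ : Set G) ⊆ {1, g} := by
    intro x hx
    by_cases hx1 : x = 1
    · exact Or.inl hx1
    · right
      have h1 := horb x hx fun h => hx1 (hK x hx h)
      have h2 := hK (g⁻¹ * x) (E₂.mul_mem (E₂.inv_mem hg) hx) (by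
        rw [← conj_smul_conj_smul, h1, conj_inv_smul_conj_smul])
      exact (inv_mul_eq_one.1 h2).symm
  have h3 := Set.ncard_le_ncard hsub (Set.toFinite _)
  have h4 : ({1, g} : Set G).ncard ≤ 2 := by
    simpa using Set.ncard_insert_le (1 : G) {g}
  have h5 := d₂.two_lt
  rw [← SetLike.coe_sort_coe, Nat.card_coe_set_eq] at h5
  omega

theorem card_le_of_inf_conj_eq_bot [Finite G] {V U E : Subgroup G} (hV : IsElementaryAbelian p V)
    (hU : U ≤ V) (hE : E ≤ Subgroup.normalizer (V : Set G)) {g : G} (hg : g ∈ E)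
    (h : U ⊓ MulAut.conj g • U = ⊥) : Nat.card U ≤ Nat.card (⁅V, E⁆ : Subgroup G) := by
  rw [Nat.card_congr
    (MonoidHom.ofInjective (injective_commutator_of_inf_eq_bot hV hU (hE hg) h)).toEquiv]
  refine Subgroup.card_le_of_le ?_
  rintro _ ⟨u, rfl⟩
  exact Subgroup.commutator_mem_commutator (hU u.2) hg

/-- Two subnormal subgroups acting irreducibly on incomparable commutator modules centralize each
other's module. -/
theorem irr_pair [Finite G] {V : Subgroup G} (hV : IsElementaryAbelian p V) (H : Subgroup G)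
    (hHV : H ≤ Subgroup.normalizer (V : Set G)) {E₁ E₂ : Subgroup G} (h₁ : E₁ ≤ H) (h₂ : E₂ ≤ H)
    (s₁ : (E₁.subgroupOf H).IsSubnormal) (s₂ : (E₂.subgroupOf H).IsSubnormal)
    (d₁ : IrrData p V E₁) (d₂ : IrrData p V E₂)
    (h12 : ¬ ⁅V, E₁⁆ ≤ ⁅V, E₂⁆) (h21 : ¬ ⁅V, E₂⁆ ≤ ⁅V, E₁⁆) :
    ⁅V, E₁⁆ ⊓ ⁅V, E₂⁆ = ⊥ ∧ ⁅⁅V, E₁⁆, E₂⁆ = ⊥ ∧ ⁅⁅V, E₂⁆, E₁⁆ = ⊥ := by
  induction H using WellFoundedLT.induction generalizing E₁ E₂ with
  | ind H ih =>
  have A : ∀ E : Subgroup G, E ≤ H → E ≠ H → (E.subgroupOf H).IsSubnormal → IrrData p V E →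
      ∀ g ∈ H, MulAut.conj g • ⁅V, E⁆ = ⁅V, E⁆ ∨
        (⁅V, E⁆ ⊓ MulAut.conj g • ⁅V, E⁆ = ⊥ ∧ ⁅MulAut.conj g • ⁅V, E⁆, E⁆ = ⊥) := by
    intro E hE hne hs d g hg
    by_cases heq : MulAut.conj g • ⁅V, E⁆ = ⁅V, E⁆
    · exact Or.inl heq
    right
    obtain ⟨K, hK, hEK, hKt⟩ := hs.exists_normal_and_le_and_lt_top_of_ne (by
      rw [Ne, Subgroup.subgroupOf_eq_top]
      exact fun h => hne (le_antisymm hE h))
    set N := K.map H.subtype with hN
    have hNH : N ≤ H := Subgroup.map_subtype_le K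
    have hNlt : N < H := by
      refine lt_of_le_of_ne hNH fun h => hKt.ne ?_
      rw [eq_top_iff]
      intro x _
      have : (x : G) ∈ N := h.ge x.2
      exact (Subgroup.mem_map_iff_mem H.subtype_injective).1 this
    have hEN : E ≤ N := by
      rw [← Subgroup.map_subgroupOf_eq_of_le hE]
      exact Subgroup.map_mono hEK
    have hHN : H ≤ Subgroup.normalizer (N : Set G) := by
      have := Subgroup.le_normalizer_map (H := K) H.subtype
      rwa [K.normalizer_eq_top, ← MonoidHom.range_eq_map, Subgroup.range_subtype] at this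
    have hsub : ∀ X : Subgroup G, (X.subgroupOf H).IsSubnormal → (X.subgroupOf N).IsSubnormal :=
      fun X hX => hX.comap (Subgroup.inclusion hNH)
    have hs' : ((MulAut.conj g • E).subgroupOf H).IsSubnormal := by
      have := hs.smul (MulAut.conj (⟨g, hg⟩ : H))
      convert this using 1
      ext x
      rw [Subgroup.mem_subgroupOf, mem_conj_smul_iff, mem_conj_smul_iff, Subgroup.mem_subgroupOf]
      rfl
    have e : ⁅V, MulAut.conj g • E⁆ = MulAut.conj g • ⁅V, E⁆ := by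
      rw [conj_smul_commutator, mem_normalizer_iff_conj_smul_eq.1 (hHV hg)]
    obtain ⟨k1, -, k3⟩ := ih N hNlt (hNH.trans hHV) hEN
      (conj_smul_le_of_mem_normalizer hEN (hHN hg)) (hsub _ hs) (hsub _ hs') d (d.conj (hHV hg))
      (by
        rw [e]
        exact fun h => heq (Subgroup.eq_of_le_of_card_ge h (card_conj_smul _ _).le).symm)
      (by
        rw [e]
        exact fun h => heq (Subgroup.eq_of_le_of_card_ge h (card_conj_smul _ _).ge))
    rw [e] at k1 k3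
    exact ⟨k1, k3⟩
  have A₁ := A E₁ h₁ (by rintro rfl; exact h21 (Subgroup.commutator_mono le_rfl h₂)) s₁ d₁
  have A₂ := A E₂ h₂ (by rintro rfl; exact h12 (Subgroup.commutator_mono le_rfl h₁)) s₂ d₂
  by_cases n₁ : E₂ ≤ Subgroup.normalizer ((⁅V, E₁⁆ : Subgroup G) : Set G)
  · exact irr_pair_of_le_normalizer hV d₁ d₂ h21 n₁ fun h hh =>
      (A₂ h (h₁ hh)).imp_right And.right
  by_cases n₂ : E₁ ≤ Subgroup.normalizer ((⁅V, E₂⁆ : Subgroup G) : Set G)
  · obtain ⟨k1, k2, k3⟩ := irr_pair_of_le_normalizer hV d₂ d₁ h12 n₂ fun h hh =>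
      (A₁ h (h₂ hh)).imp_right And.right
    exact ⟨inf_comm ⁅V, E₁⁆ _ ▸ k1, k3, k2⟩
  exfalso
  obtain ⟨g, hg, hg'⟩ := SetLike.not_le_iff_exists.1 n₁
  obtain ⟨h, hh, hh'⟩ := SetLike.not_le_iff_exists.1 n₂
  rw [mem_normalizer_iff_conj_smul_eq] at hg' hh'
  exact irr_pair_false hV d₁ d₂ (fun x hx => A₁ x (h₂ hx)) hg hg'
    (card_le_of_inf_conj_eq_bot hV (Offender.commutator_le d₂.norm le_rfl) d₁.norm hh
      ((A₂ h (h₁ hh)).resolve_left hh').1)

/-- If `[V, E₁, E₂] = 1 = [V, E₂, E₁]` then `[E₁, E₂]` centralizes `V`. -/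
theorem commutator_le_centralizer_of_cross {V E₁ E₂ : Subgroup G} (h1 : ⁅⁅V, E₁⁆, E₂⁆ = ⊥)
    (h2 : ⁅⁅V, E₂⁆, E₁⁆ = ⊥) : ⁅E₁, E₂⁆ ≤ Subgroup.centralizer (V : Set G) := by
  rw [← Subgroup.commutator_eq_bot_iff_le_centralizer]
  exact Subgroup.commutator_commutator_eq_bot_of_rotate
    (by rw [Subgroup.commutator_comm E₂ V]; exact h2) h1

end CL.FF
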