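import Cfsg.Agent.Base
import Cfsg.Agent.PLocal.FFSubnormal
import Cfsg.Agent.Solv.CoprimeGen
import Cfsg.Agent.S0028

/-!
Failure of factorization in a faithful group with self-centralizing `p'`-core: best offenders are
generated by transvection subgroups.
-/

set_option autoImplicit false

namespace CL.FF

open Cfsg
open scoped Pointwise commutatorElement

variable {G : Type*} [Group G] {p : ℕ}

/-- `H` acts faithfully on the elementary abelian `p`-group `V`, and `F` is a normal
`p'`-subgroup of `H` containing its centralizer in `H`. -/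
structure Hyp (p : ℕ) (V H F : Subgroup G) : Prop where
  ea : IsElementaryAbelian p V
  norm : H ≤ Subgroup.normalizer (V : Set G)
  faithful : H ⊓ Subgroup.centralizer (V : Set G) = ⊥
  le : F ≤ H
  normF : H ≤ Subgroup.normalizer (F : Set G)
  cop : (Nat.card F).Coprime p
  cent : H ⊓ Subgroup.centralizer (F : Set G) ≤ F

theorem le_normalizer_map_subtype {H : Subgroup G} (K : Subgroup H) [K.Normal] :
    H ≤ Subgroup.normalizer ((K.map H.subtype : Subgroup G) : Set G) := by
  have := Subgroup.le_normalizer_map (H := K) H.subtype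
  rwa [K.normalizer_eq_top, ← MonoidHom.range_eq_map, Subgroup.range_subtype] at this

theorem hyp_of_pPrimeCore [Finite G] {V H : Subgroup G} (hV : IsElementaryAbelian p V)
    (hHV : H ≤ Subgroup.normalizer (V : Set G)) (hf : H ⊓ Subgroup.centralizer (V : Set G) = ⊥)
    (hS1 : Subgroup.centralizer (pPrimeCore p H : Set H) ≤ pPrimeCore p H) :
    Hyp p V H ((pPrimeCore p H).map H.subtype) := by
  refine ⟨hV, hHV, hf, Subgroup.map_subtype_le _, le_normalizer_map_subtype _, ?_, ?_⟩
  · rw [card_map_subtype]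
    exact pPrimeCore_coprime
  · rintro x ⟨hx, hc⟩
    refine ⟨⟨x, hx⟩, hS1 ?_, rfl⟩
    rw [Subgroup.mem_centralizer_iff]
    intro y hy
    exact Subtype.ext (Subgroup.mem_centralizer_iff.1 hc y ⟨y, hy, rfl⟩)

/-- A transvection subgroup: order `p`, fixed points of index `p`. -/
structure TV (p : ℕ) (V A : Subgroup G) : Prop where
  norm : A ≤ Subgroup.normalizer (V : Set G)
  card : Nat.card A = p
  index : (V ⊓ Subgroup.centralizer (A : Set G)).relIndex V = p

theorem eq_bot_or_eq_of_card_prime [hp : Fact p.Prime] {A B : Subgroup G} (hA : Nat.card A = p)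
    (hB : B ≤ A) : B = ⊥ ∨ B = A := by
  have : Finite A := Nat.finite_of_card_ne_zero (hA ▸ hp.out.ne_zero)
  rcases (Nat.dvd_prime hp.out).1 (hA ▸ Subgroup.card_dvd_of_le hB) with h | h
  · exact Or.inl (Subgroup.card_eq_one.1 h)
  · exact Or.inr (Subgroup.eq_of_le_of_card_ge hB (by rw [h, hA]))

theorem exists_zpowers_of_card_prime [hp : Fact p.Prime] {A : Subgroup G} (hA : Nat.card A = p) :
    ∃ a : G, a ≠ 1 ∧ a ^ p = 1 ∧ A = Subgroup.zpowers a := by
  have hne : A ≠ ⊥ := by
    rintro rfl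
    rw [Subgroup.card_bot] at hA
    exact hp.out.one_lt.ne hA
  obtain ⟨⟨a, ha⟩, ha1⟩ := Subgroup.ne_bot_iff_exists_ne_one.1 hne
  have ha1' : a ≠ 1 := fun h => ha1 (Subtype.ext h)
  refine ⟨a, ha1', ?_, ?_⟩
  · have := congrArg Subtype.val (pow_card_eq_one' (x := (⟨a, ha⟩ : A)))
    rwa [hA] at this
  · exact ((eq_bot_or_eq_of_card_prime hA (Subgroup.zpowers_le.2 ha)).resolve_left
      (Subgroup.zpowers_ne_bot.2 ha1')).symm

theorem ea_of_card_prime [Fact p.Prime] {A : Subgroup G} (hA : Nat.card A = p) :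
    IsElementaryAbelian p A := by
  obtain ⟨a, -, ha, rfl⟩ := exists_zpowers_of_card_prime hA
  exact EA.zpowers ha

theorem dvd_relIndex_of_lt [Finite G] [hp : Fact p.Prime] {U W : Subgroup G} (hW : IsPGroup p W)
    (h : U < W) : p ∣ U.relIndex W := by
  obtain ⟨n, hn⟩ := IsPGroup.iff_card.1 hW
  have h1 : U.relIndex W ∣ p ^ n := hn ▸ Subgroup.relIndex_dvd_card U W
  obtain ⟨k, -, hk⟩ := (Nat.dvd_prime_pow hp.out).1 h1
  rcases k with _ | k
  · exact absurd (Subgroup.relIndex_eq_one.1 hk) h.not_ge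
  · exact hk ▸ dvd_pow_self p k.succ_ne_zero

theorem mul_card_le_of_lt [Finite G] [Fact p.Prime] {U W : Subgroup G} (hW : IsPGroup p W)
    (h : U < W) : Nat.card U * p ≤ Nat.card W := by
  rw [← EA.card_mul_relIndex h.le]
  exact Nat.mul_le_mul_left _ (Nat.le_of_dvd
    (Nat.pos_of_ne_zero Subgroup.FiniteIndex.index_ne_zero) (dvd_relIndex_of_lt hW h))

theorem centralizer_zpowers (a : G) :
    Subgroup.centralizer (Subgroup.zpowers a : Set G) = Subgroup.centralizer {a} := by
  rw [Subgroup.zpowers_eq_closure, Subgroup.centralizer_closure]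

theorem mem_centralizer_zpowers_iff {a x : G} :
    x ∈ Subgroup.centralizer (Subgroup.zpowers a : Set G) ↔ Commute a x := by
  rw [centralizer_zpowers, Subgroup.mem_centralizer_singleton_iff]
  exact eq_comm

/-- For a cyclic group acting on an abelian group, `|[V, A]| = |V : C_V(A)|`. -/
theorem card_commutator_zpowers {V : Subgroup G} (hV : ∀ a ∈ V, ∀ b ∈ V, a * b = b * a) {a : G}
    (ha : a ∈ Subgroup.normalizer (V : Set G)) :
    Nat.card (⁅V, Subgroup.zpowers a⁆ : Subgroup G) =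
      (V ⊓ Subgroup.centralizer (Subgroup.zpowers a : Set G)).relIndex V := by
  have hR : (Offender.commHom hV ha).range ≤ V := by
    rintro _ ⟨v, rfl⟩
    exact Offender.commutatorElement_mem le_rfl v.2 ha
  have h1 : ⁅V, Subgroup.zpowers a⁆ = (Offender.commHom hV ha).range := by
    apply le_antisymm
    · rw [Subgroup.zpowers_eq_closure]
      refine Offender.commutator_closure_right_le hR
        (EA.le_normalizer_of_le_centralizer fun v hv =>
          Subgroup.mem_centralizer_iff.2 fun w hw => hV w (hR hw) v hv)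
        (Set.singleton_subset_iff.2 ha) ?_
      rintro v hv _ rfl
      exact ⟨⟨v, hv⟩, rfl⟩
    · rintro _ ⟨v, rfl⟩
      exact Subgroup.commutator_mem_commutator v.2 (Subgroup.mem_zpowers a)
  rw [h1, ← Subgroup.index_ker, Subgroup.relIndex]
  congr 1
  ext v
  rw [MonoidHom.mem_ker, Offender.commHom_apply, commutatorElement_eq_one_iff_commute,
    Subgroup.mem_subgroupOf, Subgroup.mem_inf, mem_centralizer_zpowers_iff]
  exact ⟨fun h => ⟨v.2, h.symm⟩, fun h => h.2.symm⟩

theorem TV.card_commutator [Fact p.Prime] {V A : Subgroup G} (hV : IsElementaryAbelian p V)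
    (hA : TV p V A) : Nat.card (⁅V, A⁆ : Subgroup G) = p := by
  obtain ⟨a, -, -, rfl⟩ := exists_zpowers_of_card_prime hA.card
  rw [card_commutator_zpowers (EA.iff.1 hV).1 (hA.norm (Subgroup.mem_zpowers a)), hA.index]

theorem TV.ea [Fact p.Prime] {V A : Subgroup G} (hA : TV p V A) : IsElementaryAbelian p A :=
  ea_of_card_prime hA.card

theorem TV.ne_bot [hp : Fact p.Prime] {V A : Subgroup G} (hA : TV p V A) : A ≠ ⊥ := by
  rintro rfl
  exact hp.out.one_lt.ne (Subgroup.card_bot.symm.trans hA.card)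

theorem TV.commutator_ne_bot [hp : Fact p.Prime] {V A : Subgroup G}
    (hV : IsElementaryAbelian p V) (hA : TV p V A) : ⁅V, A⁆ ≠ ⊥ := by
  intro h
  have := hA.card_commutator hV
  rw [h, Subgroup.card_bot] at this
  exact hp.out.one_lt.ne this

theorem TV.meas_eq {V A : Subgroup G} (hA : TV p V A) : Offender.meas V A = Nat.card V := by
  rw [← EA.card_mul_relIndex (inf_le_left : V ⊓ Subgroup.centralizer (A : Set G) ≤ V), hA.index,
    Offender.meas, hA.card, mul_comm]

theorem TV.isBestOffenderOn [Fact p.Prime] {V A : Subgroup G} (hA : TV p V A) :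
    IsBestOffenderOn p V A := by
  refine ⟨fun B hB => ?_, by rw [EA.commutator_self hA.ea]; exact bot_le,
    fun a ha => by rw [hA.ea.2 a ha]; exact Subgroup.one_mem _⟩
  rcases eq_bot_or_eq_of_card_prime hA.card hB with rfl | rfl
  · exact ((Offender.meas_bot V).trans hA.meas_eq.symm).le
  · exact le_rfl

theorem TV.conj {V A : Subgroup G} (hA : TV p V A) {g : G}
    (hg : g ∈ Subgroup.normalizer (V : Set G)) : TV p V (MulAut.conj g • A) := by
  have hV := mem_normalizer_iff_conj_smul_eq.1 hg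
  refine ⟨?_, by rw [card_conj_smul, hA.card], ?_⟩
  · have := conj_smul_mono g hA.norm
    rwa [conj_smul_normalizer, hV] at this
  · rw [← hA.index, ← conj_smul_centralizer]
    nth_rewrite 1 [← hV]
    nth_rewrite 2 [← hV]
    rw [← Subgroup.smul_inf]
    exact Subgroup.relIndex_map_map_of_injective _ _ (MulAut.conj g).injective

namespace Hyp

variable {V H F : Subgroup G}

theorem eq_bot (h : Hyp p V H F) {K : Subgroup G} (hK : K ≤ H)
    (hc : K ≤ Subgroup.centralizer (V : Set G)) : K = ⊥ :=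
  le_bot_iff.1 (h.faithful ▸ le_inf hK hc)

theorem eq_bot_of_commutator (h : Hyp p V H F) {K : Subgroup G} (hK : K ≤ H)
    (hc : ⁅V, K⁆ = ⊥) : K = ⊥ :=
  h.eq_bot hK (Subgroup.le_centralizer_iff.1 (Subgroup.commutator_eq_bot_iff_le_centralizer.1 hc))

theorem inf_faithful (h : Hyp p V H F) {K : Subgroup G} (hK : K ≤ H) :
    K ⊓ Subgroup.centralizer (V : Set G) = ⊥ :=
  h.eq_bot (inf_le_left.trans hK) inf_le_right

theorem ea_of_offender (h : Hyp p V H F) {A : Subgroup G} (hAH : A ≤ H)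
    (hA : IsBestOffenderOn p V A) : IsElementaryAbelian p A := by
  refine EA.of_comm (fun a ha b hb => ?_) fun a ha => ?_
  · have := h.eq_bot ((Subgroup.commutator_le_self A).trans hAH) hA.2.1
    exact (Subgroup.mem_centralizer_iff.1
      (Subgroup.commutator_eq_bot_iff_le_centralizer.1 this hb) a ha)
  · have : a ^ p ∈ H ⊓ Subgroup.centralizer (V : Set G) := ⟨H.pow_mem (hAH ha) p, hA.2.2 a ha⟩
    rwa [h.faithful, Subgroup.mem_bot] at this

theorem eq_bot_of_le_centralizer [Finite G] [Fact p.Prime] (h : Hyp p V H F) {K : Subgroup G}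
    (hK : K ≤ H) (hp : IsPGroup p K) (hc : K ≤ Subgroup.centralizer (F : Set G)) : K = ⊥ := by
  rw [← inf_eq_left.2 ((le_inf hK hc).trans h.cent)]
  exact inf_eq_bot_of_isPGroup hp h.cop

/-- Every nonidentity element of a best offender is missed by a hyperplane which is again a best
offender. -/
theorem exists_hyperplane [Finite G] [hp : Fact p.Prime] (h : Hyp p V H F) {A : Subgroup G}
    (hAH : A ≤ H) (hA : IsBestOffenderOn p V A) {a : G} (ha : a ∈ A) (ha1 : a ≠ 1) :
    ∃ B ≤ A, B.relIndex A = p ∧ a ∉ B ∧ Offender.meas V B = Offender.meas V A := by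
  have hE := h.ea_of_offender hAH hA
  have := hE.1
  have hAp := EA.isPGroup hE
  have hcop := coprime_card_of_isPGroup hAp h.cop
  have hAF : A ≤ Subgroup.normalizer (F : Set G) := hAH.trans h.normF
  have hne : ¬ F ≤ Subgroup.centralizer (Subgroup.zpowers a : Set G) := fun hc =>
    Subgroup.zpowers_ne_bot.2 ha1 (h.eq_bot_of_le_centralizer
      (Subgroup.zpowers_le.2 (hAH ha)) (hAp.to_le (Subgroup.zpowers_le.2 ha))
      (Subgroup.le_centralizer_iff.1 hc))
  obtain ⟨B, hBA, hB, hBa⟩ : ∃ B ≤ A, B.relIndex A ∣ p ∧ ¬ F ⊓ Subgroup.centralizer (B : Set G) ≤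
      Subgroup.centralizer (Subgroup.zpowers a : Set G) := by
    by_contra! hcon
    exact hne (coprime_le_of_hyperplanes hE.2 hAF hcop _ hcon)
  have haB : a ∉ B := fun haB =>
    hBa (inf_le_right.trans (EA.centralizer_anti (Subgroup.zpowers_le.2 haB)))
  have hidx : B.relIndex A = p := ((Nat.dvd_prime hp.out).1 hB).resolve_left fun h1 =>
    haB (Subgroup.relIndex_eq_one.1 h1 ha)
  refine ⟨B, hBA, hidx, haB, le_antisymm (hA.1 B hBA) ?_⟩
  set D := F ⊓ Subgroup.centralizer (B : Set G) with hD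
  have hAB : A ≤ Subgroup.centralizer (B : Set G) := EA.le_centralizer_of_le hE le_rfl hBA
  have hAD : A ≤ Subgroup.normalizer (D : Set G) :=
    EA.le_normalizer_inf hAF (hAB.trans Subgroup.le_normalizer)
  have hQD : ⁅D, A⁆ ≤ D := Offender.commutator_le hAD le_rfl
  have hcopD := coprime_card_of_le le_rfl (inf_le_left : D ≤ F) hcop
  have hlt : V ⊓ Subgroup.centralizer (A : Set G) < V ⊓ Subgroup.centralizer (B : Set G) := by
    refine lt_of_le_of_ne (inf_le_inf_left _ (EA.centralizer_anti hBA)) fun heq => hBa ?_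
    set U := V ⊓ Subgroup.centralizer (B : Set G) with hU
    have hUA : ⁅U, A⁆ = ⊥ :=
      Subgroup.commutator_eq_bot_iff_le_centralizer.2 (heq ▸ inf_le_right)
    have hQH : ⁅D, A⁆ ≤ H := hQD.trans (inf_le_left.trans h.le)
    have hQU : ⁅D, A⁆ ≤ Subgroup.normalizer (U : Set G) :=
      EA.le_normalizer_inf (hQH.trans h.norm)
        ((hQD.trans inf_le_right).trans Subgroup.le_normalizer)
    have h3 : ⁅⁅⁅D, A⁆, A⁆, U⁆ = ⊥ := by
      refine Subgroup.commutator_commutator_eq_bot_of_rotate ?_ ?_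
      · rw [Subgroup.commutator_comm A U, hUA, Subgroup.commutator_bot_left]
      · rw [eq_bot_iff, ← hUA]
        exact Subgroup.commutator_mono (Offender.commutator_le hQU le_rfl) le_rfl
    rw [coprime_commutator_commutator hAD hcopD (Or.inl (isSolvable_of_isPGroup hAp)),
      Subgroup.commutator_eq_bot_iff_le_centralizer] at h3
    have h4 := Cfsg.Agent.S0028.result p B ⁅D, A⁆ V (hAp.to_le hBA)
      (h.cop.coprime_dvd_left (Subgroup.card_dvd_of_le (hQD.trans inf_le_left)))
      (EA.isPGroup h.ea) (Subgroup.le_centralizer_iff.1 (hQD.trans inf_le_right))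
      ((hBA.trans hAH).trans h.norm) (hQH.trans h.norm) (Subgroup.le_centralizer_iff.1 h3)
    exact (Subgroup.commutator_eq_bot_iff_le_centralizer.1 (h.eq_bot hQH h4)).trans
      (EA.centralizer_anti (Subgroup.zpowers_le.2 ha))
  have h5 := mul_card_le_of_lt ((EA.isPGroup h.ea).to_le inf_le_left) hlt
  have h6 := EA.card_mul_relIndex hBA
  rw [hidx] at h6
  unfold Offender.meas
  rw [← h6, mul_assoc, mul_comm p]
  exact Nat.mul_le_mul_left _ h5

theorem meas_eq_card [Finite G] [Fact p.Prime] (h : Hyp p V H F) {A : Subgroup G}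
    (hAH : A ≤ H) (hA : IsBestOffenderOn p V A) : Offender.meas V A = Nat.card V := by
  induction A using WellFoundedLT.induction with
  | ind A ih =>
  by_cases hA1 : A = ⊥
  · rw [hA1, Offender.meas_bot]
  obtain ⟨⟨a, ha⟩, ha1⟩ := Subgroup.ne_bot_iff_exists_ne_one.1 hA1
  obtain ⟨B, hBA, -, haB, hm⟩ := h.exists_hyperplane hAH hA ha fun h => ha1 (Subtype.ext h)
  rw [← hm]
  exact ih B (lt_of_le_of_ne hBA (by rintro rfl; exact haB ha)) (hBA.trans hAH)
    (Offender.isBestOffenderOn_of_le hA hBA hm.ge)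

theorem tv_of_card [Finite G] [hp : Fact p.Prime] (h : Hyp p V H F) {A : Subgroup G}
    (hAH : A ≤ H) (hA : IsBestOffenderOn p V A) (hc : Nat.card A = p) : TV p V A := by
  refine ⟨hAH.trans h.norm, hc, ?_⟩
  have h1 := h.meas_eq_card hAH hA
  rw [← EA.card_mul_relIndex (inf_le_left : V ⊓ Subgroup.centralizer (A : Set G) ≤ V),
    Offender.meas, hc, mul_comm] at h1
  exact (Nat.eq_of_mul_eq_mul_left Nat.card_pos h1).symm

/-- Minimal nontrivial best offenders are transvection subgroups. -/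
theorem tv_of_min [Finite G] [Fact p.Prime] (h : Hyp p V H F) {A : Subgroup G}
    (hAH : A ≤ H) (hA : IsBestOffenderOn p V A) (hAV : ⁅V, A⁆ ≠ ⊥)
    (hmin : ∀ B : Subgroup G, B ≤ A → IsBestOffenderOn p V B → ⁅V, B⁆ ≠ ⊥ → B = A) :
    TV p V A := by
  have hA1 : A ≠ ⊥ := by
    rintro rfl
    exact hAV (Subgroup.commutator_bot_right V)
  obtain ⟨⟨a, ha⟩, ha1⟩ := Subgroup.ne_bot_iff_exists_ne_one.1 hA1
  obtain ⟨B, hBA, hidx, haB, hm⟩ := h.exists_hyperplane hAH hA ha fun h => ha1 (Subtype.ext h)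
  have hB : B = ⊥ := h.eq_bot_of_commutator (hBA.trans hAH) (by
    by_contra hne
    exact haB (hmin B hBA (Offender.isBestOffenderOn_of_le hA hBA hm.ge) hne ▸ ha))
  rw [hB, Subgroup.relIndex_bot_left] at hidx
  exact h.tv_of_card hAH hA hidx

theorem min_iff_tv [Finite G] [Fact p.Prime] (h : Hyp p V H F) {A : Subgroup G} (hAH : A ≤ H) :
    (IsBestOffenderOn p V A ∧ ⁅V, A⁆ ≠ ⊥ ∧
      ∀ B : Subgroup G, B ≤ A → IsBestOffenderOn p V B → ⁅V, B⁆ ≠ ⊥ → B = A) ↔ TV p V A := by
  refine ⟨fun k => h.tv_of_min hAH k.1 k.2.1 k.2.2, fun k =>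
    ⟨k.isBestOffenderOn, k.commutator_ne_bot h.ea, fun B hB _ hBV => ?_⟩⟩
  refine (eq_bot_or_eq_of_card_prime k.card hB).resolve_left ?_
  rintro rfl
  exact hBV (Subgroup.commutator_bot_right V)

/-- A best offender is generated by transvection subgroups. -/
theorem le_of_forall_tv [Finite G] [hp : Fact p.Prime] (h : Hyp p V H F) {A : Subgroup G}
    (hAH : A ≤ H) (hA : IsBestOffenderOn p V A) {K : Subgroup G}
    (hK : ∀ B ≤ A, TV p V B → B ≤ K) : A ≤ K := by
  induction A using WellFoundedLT.induction with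
  | ind A ih =>
  by_cases hA1 : A = ⊥
  · rw [hA1]
    exact bot_le
  have step : ∀ a ∈ A, a ≠ 1 → ∃ B ≤ A, B.relIndex A = p ∧ a ∉ B ∧ B ≤ K := by
    intro a ha ha1
    obtain ⟨B, hBA, hidx, haB, hm⟩ := h.exists_hyperplane hAH hA ha ha1
    exact ⟨B, hBA, hidx, haB, ih B (lt_of_le_of_ne hBA (by rintro rfl; exact haB ha))
      (hBA.trans hAH) (Offender.isBestOffenderOn_of_le hA hBA hm.ge)
      fun C hC => hK C (hC.trans hBA)⟩
  obtain ⟨⟨a, ha⟩, ha1⟩ := Subgroup.ne_bot_iff_exists_ne_one.1 hA1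
  obtain ⟨B, hBA, hidx, -, hBK⟩ := step a ha fun h => ha1 (Subtype.ext h)
  by_cases hB1 : B = ⊥
  · rw [hB1, Subgroup.relIndex_bot_left] at hidx
    exact hK A le_rfl (h.tv_of_card hAH hA hidx)
  obtain ⟨⟨b, hb⟩, hb1⟩ := Subgroup.ne_bot_iff_exists_ne_one.1 hB1
  obtain ⟨C, hCA, hidx', hbC, hCK⟩ := step b (hBA hb) fun h => hb1 (Subtype.ext h)
  have h1 := Subgroup.relIndex_mul_relIndex C (B ⊔ C) A le_sup_right (sup_le hBA hCA)
  rw [hidx'] at h1
  rcases (Nat.dvd_prime hp.out).1 (Dvd.intro _ h1) with h2 | h2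
  · exact absurd (Subgroup.relIndex_eq_one.1 h2 (Subgroup.mem_sup_left hb)) hbC
  · rw [h2] at h1
    have h3 : (B ⊔ C).relIndex A = 1 := Nat.eq_of_mul_eq_mul_left hp.out.pos (by rw [h1, mul_one])
    exact (Subgroup.relIndex_eq_one.1 h3).trans (sup_le hBK hCK)

end Hyp

/-- From a generating family of subgroups of prime order extract an independent one. -/
theorem exists_iSupIndep_of_card_prime [Finite G] [Fact p.Prime] (P : Subgroup G → Prop)
    (hP : ∀ B, P B → Nat.card B = p) {A : Subgroup G} (hA : A = ⨆ B : {B // P B}, B.1) :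
    ∃ (k : ℕ) (B : Fin k → Subgroup G), (∀ i, P (B i)) ∧ iSupIndep B ∧ ⨆ i, B i = A := by
  classical
  have hex : ∃ k : ℕ, ∃ B : Fin k → Subgroup G, (∀ i, P (B i)) ∧ ⨆ i, B i = A := by
    let e := Finite.equivFin {B // P B}
    refine ⟨_, fun i => (e.symm i).1, fun i => (e.symm i).2, ?_⟩
    rw [hA]
    exact e.symm.iSup_comp (g := fun B : {B // P B} => B.1)
  obtain ⟨B, hB, hBA⟩ := Nat.find_spec hex
  refine ⟨_, B, hB, fun i => ?_, hBA⟩
  have hmin := @Nat.find_min _ _ hex
  generalize Nat.find hex = k at B hB hBA hmin i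
  rcases k with _ | k
  · exact i.elim0
  rw [disjoint_iff]
  refine (eq_bot_or_eq_of_card_prime (hP _ (hB i)) inf_le_left).resolve_right fun h => ?_
  refine hmin k.lt_succ_self ⟨fun j => B (i.succAbove j), fun j => hB _, ?_⟩
  rw [← hBA]
  refine le_antisymm (iSup_le fun j => le_iSup B _) (iSup_le fun j => ?_)
  have key : ∀ j ≠ i, B j ≤ ⨆ l, B (i.succAbove l) := fun j hj => by
    obtain ⟨l, rfl⟩ := Fin.exists_succAbove_eq hj
    exact le_iSup (fun l => B (i.succAbove l)) l
  by_cases hj : j = i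
  · rw [hj]
    exact (inf_eq_left.1 h).trans (iSup₂_le key)
  · exact key j hj

end CL.FF
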