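import Cfsg.Agent.Base
import Cfsg.Agent.PLocal.Offender

/-!
Coordinates on an elementary abelian subgroup `W` of order `p ^ 2`, the representation of
`N_G(W)` in `GL(2, p)`, and two transvection subgroups generating `SL(2, p)`.
-/

set_option autoImplicit false

namespace CL.Plane

open Cfsg Matrix
open scoped commutatorElement MatrixGroups

variable {G : Type*} [Group G] {p : ℕ}

/-- The matrix representation of the normalizer of the image of a coordinate map. -/
theorem exists_rep {ι : Type*} [Fintype ι] [DecidableEq ι]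
    (e : Multiplicative (ι → ZMod p) →* G) (he : Function.Injective e) :
    ∃ ρ : Subgroup.normalizer (e.range : Set G) →* GL ι (ZMod p), ∀ g x,
      e (Multiplicative.ofAdd ((ρ g : Matrix ι ι (ZMod p)) *ᵥ x)) =
        g * e (Multiplicative.ofAdd x) * (g : G)⁻¹ := by
  let E : Multiplicative (ι → ZMod p) ≃* e.range := MonoidHom.ofInjective he
  have hE : ∀ x, ((E x : e.range) : G) = e x := fun x => rfl
  let c : Subgroup.normalizer (e.range : Set G) → (ι → ZMod p) →+ (ι → ZMod p) := fun g =>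
    MonoidHom.toAdditive.symm.symm
      (((E.symm : e.range →* Multiplicative (ι → ZMod p)).comp
        ((e.range.normalizerMonoidHom g : e.range ≃* e.range) : e.range →* e.range)).comp
        (E : Multiplicative (ι → ZMod p) →* e.range))
  let m : Subgroup.normalizer (e.range : Set G) → Matrix ι ι (ZMod p) := fun g =>
    LinearMap.toMatrix' ((c g).toZModLinearMap p)
  have hm : ∀ g x, e (Multiplicative.ofAdd (m g *ᵥ x)) =
      g * e (Multiplicative.ofAdd x) * (g : G)⁻¹ := by
    intro g x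
    have : m g *ᵥ x = c g x := by
      rw [← Matrix.toLin'_apply, Matrix.toLin'_toMatrix']
      rfl
    rw [this, ← hE]
    change ((E (E.symm (e.range.normalizerMonoidHom g (E (Multiplicative.ofAdd x)))) : e.range) :
      G) = _
    rw [MulEquiv.apply_symm_apply]
    rfl
  have hext : ∀ M N : Matrix ι ι (ZMod p),
      (∀ x, e (Multiplicative.ofAdd (M *ᵥ x)) = e (Multiplicative.ofAdd (N *ᵥ x))) → M = N := by
    intro M N h
    exact Matrix.ext_iff_mulVec.2 fun x => Multiplicative.ofAdd.injective (he (h x))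
  let M : Subgroup.normalizer (e.range : Set G) →* Matrix ι ι (ZMod p) :=
    { toFun := m
      map_one' := hext _ _ fun x => by rw [hm, Matrix.one_mulVec]; simp
      map_mul' := fun g h => hext _ _ fun x => by
        rw [hm, ← Matrix.mulVec_mulVec, hm, hm]
        simp only [Subgroup.coe_mul]
        group }
  exact ⟨M.toHomUnits, hm⟩

theorem rep_eq_one_iff {ι : Type*} [Fintype ι] [DecidableEq ι]
    {e : Multiplicative (ι → ZMod p) →* G} (he : Function.Injective e)
    {ρ : Subgroup.normalizer (e.range : Set G) →* GL ι (ZMod p)}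
    (hρ : ∀ g x, e (Multiplicative.ofAdd ((ρ g : Matrix ι ι (ZMod p)) *ᵥ x)) =
        g * e (Multiplicative.ofAdd x) * (g : G)⁻¹) (g : Subgroup.normalizer (e.range : Set G)) :
    ρ g = 1 ↔ (g : G) ∈ Subgroup.centralizer (e.range : Set G) := by
  rw [Subgroup.mem_centralizer_iff]
  constructor
  · rintro h _ ⟨x, rfl⟩
    have := hρ g x.toAdd
    rw [h, Units.val_one, Matrix.one_mulVec, ofAdd_toAdd] at this
    exact (mul_inv_eq_iff_eq_mul.1 this.symm).symm
  · intro h
    refine Units.ext (Matrix.ext_iff_mulVec.2 fun x => Multiplicative.ofAdd.injective (he ?_))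
    rw [hρ, Units.val_one, Matrix.one_mulVec, ← h _ ⟨_, rfl⟩, mul_inv_cancel_right]

/-- The homomorphism `ZMod p → G` attached to an element with `u ^ p = 1`. -/
noncomputable def zmodHom [NeZero p] {u : G} (hu : u ^ p = 1) : Multiplicative (ZMod p) →* G :=
  MonoidHom.mk' (fun x => u ^ (x.toAdd).val) fun x y => by
    rw [toAdd_mul, ZMod.val_add, ← pow_add]
    exact (pow_eq_pow_mod _ hu).symm

theorem zmodHom_apply [NeZero p] {u : G} (hu : u ^ p = 1) (x : ZMod p) :
    zmodHom hu (Multiplicative.ofAdd x) = u ^ x.val := rfl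

theorem zmodHom_natCast [NeZero p] {u : G} (hu : u ^ p = 1) (n : ℕ) :
    zmodHom hu (Multiplicative.ofAdd (n : ZMod p)) = u ^ n := by
  rw [zmodHom_apply, ZMod.val_natCast]
  exact (pow_eq_pow_mod _ hu).symm

theorem exists_zmodHom_eq [NeZero p] {u w : G} (hu : u ^ p = 1) (hw : w ∈ Subgroup.zpowers u) :
    ∃ s : ZMod p, zmodHom hu (Multiplicative.ofAdd s) = w := by
  have hfin : IsOfFinOrder u := isOfFinOrder_iff_pow_eq_one.2 ⟨p, NeZero.pos p, hu⟩
  obtain ⟨n, rfl⟩ := (hfin.mem_powers_iff_mem_zpowers).2 hw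
  exact ⟨n, zmodHom_natCast hu n⟩

/-- Coordinates attached to two commuting elements of order dividing `p`. -/
noncomputable def coord [NeZero p] {u v : G} (hu : u ^ p = 1) (hv : v ^ p = 1)
    (huv : Commute u v) : Multiplicative (Fin 2 → ZMod p) →* G :=
  MonoidHom.mk' (fun x => zmodHom hu (Multiplicative.ofAdd (x.toAdd 0)) *
      zmodHom hv (Multiplicative.ofAdd (x.toAdd 1))) fun x y => by
    simp only [toAdd_mul, Pi.add_apply, ofAdd_add, map_mul]
    simp only [zmodHom_apply, mul_assoc]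
    congr 1
    rw [← mul_assoc, ← mul_assoc, (huv.pow_pow _ _).eq]

theorem coord_apply [NeZero p] {u v : G} (hu : u ^ p = 1) (hv : v ^ p = 1)
    (huv : Commute u v) (x : Fin 2 → ZMod p) :
    coord hu hv huv (Multiplicative.ofAdd x) =
      zmodHom hu (Multiplicative.ofAdd (x 0)) * zmodHom hv (Multiplicative.ofAdd (x 1)) := rfl

theorem coord_injective [Fact p.Prime] {u v : G} (hu : u ^ p = 1) (hv : v ^ p = 1)
    (huv : Commute u v) (hu1 : u ≠ 1) (hvu : v ∉ Subgroup.zpowers u) :
    Function.Injective (coord hu hv huv) := by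
  rw [injective_iff_map_eq_one]
  intro x hx
  rw [← ofAdd_toAdd x, coord_apply] at hx
  have h1 : x.toAdd 1 = 0 := by
    by_contra h
    apply hvu
    have h2 : zmodHom hv (Multiplicative.ofAdd (x.toAdd 1)) ∈ Subgroup.zpowers u := by
      rw [eq_inv_of_mul_eq_one_right hx]
      exact Subgroup.inv_mem _ (Subgroup.npow_mem_zpowers _ _)
    have h3 := Subgroup.pow_mem _ h2 ((x.toAdd 1)⁻¹).val
    rw [← map_pow, ← ofAdd_nsmul, nsmul_eq_mul, ZMod.natCast_zmod_val, inv_mul_cancel₀ h,
      ← Nat.cast_one, zmodHom_natCast, pow_one] at h3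
    exact h3
  rw [h1, ofAdd_zero, map_one, mul_one, zmodHom_apply, ← orderOf_dvd_iff_pow_eq_one,
    orderOf_eq_prime hu hu1] at hx
  have h0 : x.toAdd 0 = 0 :=
    (ZMod.val_eq_zero _).1 (Nat.eq_zero_of_dvd_of_lt hx (ZMod.val_lt _))
  rw [← ofAdd_toAdd x, ← ofAdd_zero]
  congr 1
  ext i
  fin_cases i
  · exact h0
  · exact h1

theorem coord_range [Finite G] [Fact p.Prime] {W : Subgroup G} (hW : IsElementaryAbelian p W)
    (hc : Nat.card W = p ^ 2) {u v : G} (huW : u ∈ W) (hvW : v ∈ W) (hu1 : u ≠ 1)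
    (hvu : v ∉ Subgroup.zpowers u) :
    (coord (hW.2 u huW) (hW.2 v hvW) (EA.commute hW huW hvW)).range = W := by
  refine Subgroup.eq_of_le_of_card_ge ?_ ?_
  · rintro _ ⟨x, rfl⟩
    rw [← ofAdd_toAdd x, coord_apply]
    exact W.mul_mem (W.pow_mem huW _) (W.pow_mem hvW _)
  · rw [hc, ← Nat.card_congr (MonoidHom.ofInjective
      (coord_injective _ _ _ hu1 hvu)).toEquiv]
    simp [Nat.card_eq_fintype_card, ZMod.card]

theorem exists_basis [Finite G] [Fact p.Prime] {W : Subgroup G} (hW : IsElementaryAbelian p W)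
    (hc : Nat.card W = p ^ 2) : ∃ u ∈ W, ∃ v ∈ W, u ≠ 1 ∧ v ∉ Subgroup.zpowers u := by
  have hp := (Fact.out : p.Prime).one_lt
  have h1 : W ≠ ⊥ := by
    rintro rfl
    rw [Subgroup.card_bot] at hc
    nlinarith
  obtain ⟨⟨u, hu⟩, hu1⟩ := Subgroup.ne_bot_iff_exists_ne_one.1 h1
  have hu1' : u ≠ 1 := fun h => hu1 (Subtype.ext h)
  by_contra h
  push Not at h
  have := Subgroup.card_le_of_le (show W ≤ Subgroup.zpowers u from fun v hv => h u hu v hv hu1')
  rw [hc, EA.card_zpowers hW hu hu1'] at this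
  nlinarith

/-- The normalizer of a plane maps to `GL(2, p)` with kernel the centralizer. -/
theorem exists_rep_plane [Finite G] [Fact p.Prime] {W : Subgroup G}
    (hW : IsElementaryAbelian p W) (hc : Nat.card W = p ^ 2) :
    ∃ ρ : Subgroup.normalizer (W : Set G) →* GL (Fin 2) (ZMod p),
      ∀ g, ρ g = 1 ↔ (g : G) ∈ Subgroup.centralizer (W : Set G) := by
  obtain ⟨u, hu, v, hv, hu1, hvu⟩ := exists_basis hW hc
  have hr := coord_range hW hc hu hv hu1 hvu
  have he := coord_injective (hW.2 u hu) (hW.2 v hv) (EA.commute hW hu hv) hu1 hvu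
  generalize coord (hW.2 u hu) (hW.2 v hv) (EA.commute hW hu hv) = e at hr he
  subst hr
  obtain ⟨ρ, hρ⟩ := exists_rep e he
  exact ⟨ρ, rep_eq_one_iff he hρ⟩

theorem det_eq_one_of_pow [Fact p.Prime] {n : Type*} [Fintype n] [DecidableEq n]
    {g : GL n (ZMod p)} {k : ℕ} (hg : g ^ p ^ k = 1) :
    Matrix.GeneralLinearGroup.det g = 1 := by
  have h1 : (Matrix.GeneralLinearGroup.det g) ^ p ^ k = 1 := by rw [← map_pow, hg, map_one]
  have h2 := congrArg (Units.val) h1
  rw [Units.val_pow_eq_pow_val, ZMod.pow_card_pow] at h2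
  exact Units.ext h2

/-- Lifting a homomorphism into `GL` with determinant one to `SL`. -/
def liftSL {H n R : Type*} [Group H] [Fintype n] [DecidableEq n] [CommRing R] (f : H →* GL n R)
    (hf : ∀ h, Matrix.GeneralLinearGroup.det (f h) = 1) : H →* Matrix.SpecialLinearGroup n R where
  toFun h := ⟨(f h : Matrix n n R), congrArg Units.val (hf h)⟩
  map_one' := Subtype.ext (by simp)
  map_mul' a b := Subtype.ext (congrArg Units.val (map_mul f a b))

theorem coe_liftSL {H n R : Type*} [Group H] [Fintype n] [DecidableEq n] [CommRing R]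
    (f : H →* GL n R) (hf : ∀ h, Matrix.GeneralLinearGroup.det (f h) = 1) (h : H) :
    ((liftSL f hf h : Matrix.SpecialLinearGroup n R) : Matrix n n R) = f h := rfl

theorem liftSL_eq_one_iff {H n R : Type*} [Group H] [Fintype n] [DecidableEq n] [CommRing R]
    (f : H →* GL n R) (hf : ∀ h, Matrix.GeneralLinearGroup.det (f h) = 1) (h : H) :
    liftSL f hf h = 1 ↔ f h = 1 :=
  ⟨fun h1 => Units.ext (congrArg Subtype.val h1), fun h1 => Subtype.ext (congrArg Units.val h1)⟩

/-- A subgroup of `N_G(W)` generated by `p`-elements maps to `SL(2, p)` with kernel `C(W)`. -/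
theorem exists_hom_SL2 [Finite G] [Fact p.Prime] {W : Subgroup G}
    (hW : IsElementaryAbelian p W) (hc : Nat.card W = p ^ 2) {s : Set G}
    (hs : Subgroup.closure s ≤ Subgroup.normalizer (W : Set G))
    (hp : ∀ g ∈ s, ∃ k, g ^ p ^ k = 1) :
    ∃ φ : Subgroup.closure s →* SL(2, ZMod p),
      ∀ g, φ g = 1 ↔ (g : G) ∈ Subgroup.centralizer (W : Set G) := by
  obtain ⟨ρ, hρ⟩ := exists_rep_plane hW hc
  have hdet : ∀ g : Subgroup.closure s,
      Matrix.GeneralLinearGroup.det ((ρ.comp (Subgroup.inclusion hs)) g) = 1 := by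
    rintro ⟨g, hg⟩
    induction hg using Subgroup.closure_induction with
    | mem x hx =>
      obtain ⟨k, hk⟩ := hp x hx
      refine det_eq_one_of_pow (k := k) ?_
      rw [← map_pow, show (⟨x, Subgroup.subset_closure hx⟩ : Subgroup.closure s) ^ p ^ k = 1 from
        Subtype.ext hk, map_one]
    | one => rw [show (⟨1, _⟩ : Subgroup.closure s) = 1 from rfl, map_one, map_one]
    | mul x y hx hy ihx ihy =>
      rw [show (⟨x * y, _⟩ : Subgroup.closure s) = ⟨x, hx⟩ * ⟨y, hy⟩ from rfl, map_mul, map_mul,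
        ihx, ihy, one_mul]
    | inv x hx ih =>
      rw [show (⟨x⁻¹, _⟩ : Subgroup.closure s) = ⟨x, hx⟩⁻¹ from rfl, map_inv, map_inv, ih, inv_one]
  exact ⟨liftSL _ hdet, fun g => by rw [liftSL_eq_one_iff]; exact hρ _⟩

theorem card_le_card_SL2 [Finite G] [Fact p.Prime] {W : Subgroup G}
    (hW : IsElementaryAbelian p W) (hc : Nat.card W = p ^ 2) {s : Set G}
    (hs : Subgroup.closure s ≤ Subgroup.normalizer (W : Set G))
    (hp : ∀ g ∈ s, ∃ k, g ^ p ^ k = 1)
    (hf : Subgroup.closure s ⊓ Subgroup.centralizer (W : Set G) = ⊥) :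
    Nat.card (Subgroup.closure s) ∣ Nat.card SL(2, ZMod p) := by
  obtain ⟨φ, hφ⟩ := exists_hom_SL2 hW hc hs hp
  refine Subgroup.card_dvd_of_injective φ ((injective_iff_map_eq_one φ).2 fun g hg => ?_)
  have : (g : G) ∈ Subgroup.closure s ⊓ Subgroup.centralizer (W : Set G) := ⟨g.2, (hφ g).1 hg⟩
  rw [hf, Subgroup.mem_bot] at this
  exact Subtype.ext this

/-- A `q`-group normalizing a plane centralizes it unless `q` divides `|GL(2, p)|`. -/
theorem le_centralizer_of_coprime [Finite G] [Fact p.Prime] {W X : Subgroup G}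
    (hW : IsElementaryAbelian p W) (hc : Nat.card W = p ^ 2)
    (hX : X ≤ Subgroup.normalizer (W : Set G))
    (hcop : (Nat.card X).Coprime ((p ^ 2 - 1) * (p ^ 2 - p))) :
    X ≤ Subgroup.centralizer (W : Set G) := by
  obtain ⟨ρ, hρ⟩ := exists_rep_plane hW hc
  intro x hx
  refine (hρ ⟨x, hX hx⟩).1 ?_
  rw [← orderOf_eq_one_iff]
  refine Nat.eq_one_of_dvd_coprimes hcop ?_ ?_
  · refine (orderOf_map_dvd ρ _).trans ?_
    rw [← Subgroup.orderOf_coe]
    exact X.orderOf_dvd_natCard hx
  · have := orderOf_dvd_natCard (ρ ⟨x, hX hx⟩)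
    rw [Matrix.card_GL_field] at this
    simpa [Fin.prod_univ_two, ZMod.card] using this

theorem transvection_pow {F : Type*} [Field F] {i j : Fin 2} (h : i ≠ j) (s : F) (n : ℕ) :
    Matrix.SpecialLinearGroup.transvection h s ^ n =
      Matrix.SpecialLinearGroup.transvection h (n * s) := by
  induction n with
  | zero => simp
  | succ n ih =>
    rw [pow_succ, ih, ← Matrix.SpecialLinearGroup.transvection_add]
    congr 1
    push_cast
    ring

theorem eq_top_of_transvections [Fact p.Prime] {K : Subgroup SL(2, ZMod p)} {s t : ZMod p}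
    (hs : s ≠ 0) (ht : t ≠ 0)
    (h1 : Matrix.SpecialLinearGroup.transvection (show (0 : Fin 2) ≠ 1 by decide) s ∈ K)
    (h2 : Matrix.SpecialLinearGroup.transvection (show (1 : Fin 2) ≠ 0 by decide) t ∈ K) :
    K = ⊤ := by
  rw [eq_top_iff]
  intro A _
  refine Matrix.SL2.transvection_induction (· ∈ K) ?_ (fun _ _ => K.mul_mem) A
  intro i j h c
  fin_cases i <;> fin_cases j
  · exact absurd rfl h
  · have := K.pow_mem h1 (c * s⁻¹).val
    rw [transvection_pow, ZMod.natCast_zmod_val, inv_mul_cancel_right₀ hs] at this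
    exact this
  · have := K.pow_mem h2 (c * t⁻¹).val
    rw [transvection_pow, ZMod.natCast_zmod_val, inv_mul_cancel_right₀ ht] at this
    exact this
  · exact absurd rfl h

/-- Two transvections with different centres induce `SL(2, p)` on a plane. -/
theorem exists_surjective_SL2 [Finite G] [Fact p.Prime] {W : Subgroup G}
    (hW : IsElementaryAbelian p W) (hc : Nat.card W = p ^ 2) {a b u v : G}
    (ha : a ∈ Subgroup.normalizer (W : Set G)) (hb : b ∈ Subgroup.normalizer (W : Set G))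
    (huW : u ∈ W) (hvW : v ∈ W) (hu1 : u ≠ 1) (hvu : v ∉ Subgroup.zpowers u)
    (hau : Commute a u) (hav : ⁅a, v⁆ ∈ Subgroup.zpowers u) (hav' : ¬ Commute a v)
    (hbv : Commute b v) (hbu : ⁅b, u⁆ ∈ Subgroup.zpowers v) (hbu' : ¬ Commute b u) :
    ∃ φ : Subgroup.closure ({a, b} : Set G) →* SL(2, ZMod p), Function.Surjective φ ∧
      ∀ g, φ g = 1 ↔ (g : G) ∈ Subgroup.centralizer (W : Set G) := by
  have hr := coord_range hW hc huW hvW hu1 hvu
  have he := coord_injective (hW.2 u huW) (hW.2 v hvW) (EA.commute hW huW hvW) hu1 hvu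
  obtain ⟨s, hs⟩ := exists_zmodHom_eq (hW.2 u huW) hav
  obtain ⟨t, ht⟩ := exists_zmodHom_eq (hW.2 v hvW) hbu
  have hs0 : s ≠ 0 := by
    rintro rfl
    exact hav' (commutatorElement_eq_one_iff_commute.1 (by rw [← hs, ofAdd_zero, map_one]))
  have ht0 : t ≠ 0 := by
    rintro rfl
    exact hbu' (commutatorElement_eq_one_iff_commute.1 (by rw [← ht, ofAdd_zero, map_one]))
  have z1 : ∀ {w : G} (hw : w ^ p = 1), zmodHom hw (Multiplicative.ofAdd 1) = w := fun hw => by
    rw [← Nat.cast_one, zmodHom_natCast, pow_one]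
  have e10 := coord_apply (hW.2 u huW) (hW.2 v hvW) (EA.commute hW huW hvW) ![1, 0]
  have e01 := coord_apply (hW.2 u huW) (hW.2 v hvW) (EA.commute hW huW hvW) ![0, 1]
  have es1 := coord_apply (hW.2 u huW) (hW.2 v hvW) (EA.commute hW huW hvW) ![s, 1]
  have e1t := coord_apply (hW.2 u huW) (hW.2 v hvW) (EA.commute hW huW hvW) ![1, t]
  simp only [Matrix.cons_val_zero, Matrix.cons_val_one, ofAdd_zero, map_one,
    mul_one, one_mul, z1, hs, ht] at e10 e01 es1 e1t
  have hcomm : u * ⁅b, u⁆ = ⁅b, u⁆ * u :=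
    EA.comm hW huW ((Subgroup.zpowers_le.2 hvW) hbu)
  generalize coord (hW.2 u huW) (hW.2 v hvW) (EA.commute hW huW hvW) = e at hr he e10 e01 es1 e1t
  subst hr
  obtain ⟨ρ, hρ⟩ := exists_rep e he
  have hcol : ∀ (M : Matrix (Fin 2) (Fin 2) (ZMod p)) (x y : Fin 2 → ZMod p),
      M *ᵥ ![1, 0] = x → M *ᵥ ![0, 1] = y → M = !![x 0, y 0; x 1, y 1] := by
    rintro M _ _ rfl rfl
    ext i j
    fin_cases i <;> fin_cases j <;> simp [Matrix.mulVec, dotProduct, Fin.sum_univ_two]
  have hρa : (ρ ⟨a, ha⟩ : Matrix (Fin 2) (Fin 2) (ZMod p)) =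
      Matrix.SpecialLinearGroup.transvection (show (0 : Fin 2) ≠ 1 by decide) s := by
    refine (hcol (ρ ⟨a, ha⟩ : Matrix (Fin 2) (Fin 2) (ZMod p)) ![1, 0] ![s, 1]
      (Multiplicative.ofAdd.injective (he ?_))
      (Multiplicative.ofAdd.injective (he ?_))).trans ?_
    · rw [hρ, e10]
      exact mul_inv_eq_iff_eq_mul.2 hau.eq
    · rw [hρ, e01, es1, commutatorElement_def]
      group
    · ext i j
      fin_cases i <;> fin_cases j <;> simp [Matrix.SpecialLinearGroup.transvection_coe]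
  have hρb : (ρ ⟨b, hb⟩ : Matrix (Fin 2) (Fin 2) (ZMod p)) =
      Matrix.SpecialLinearGroup.transvection (show (1 : Fin 2) ≠ 0 by decide) t := by
    refine (hcol (ρ ⟨b, hb⟩ : Matrix (Fin 2) (Fin 2) (ZMod p)) ![1, t] ![0, 1]
      (Multiplicative.ofAdd.injective (he ?_))
      (Multiplicative.ofAdd.injective (he ?_))).trans ?_
    · rw [hρ, e10, e1t, hcomm, commutatorElement_def]
      group
    · rw [hρ, e01]
      exact mul_inv_eq_iff_eq_mul.2 hbv.eq
    · ext i j
      fin_cases i <;> fin_cases j <;> simp [Matrix.SpecialLinearGroup.transvection_coe]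
  have hs' : Subgroup.closure ({a, b} : Set G) ≤ Subgroup.normalizer (e.range : Set G) := by
    rw [Subgroup.closure_le]
    rintro _ (rfl | rfl)
    · exact ha
    · exact hb
  have hdet : ∀ g : Subgroup.closure ({a, b} : Set G),
      Matrix.GeneralLinearGroup.det ((ρ.comp (Subgroup.inclusion hs')) g) = 1 := by
    rintro ⟨g, hg⟩
    induction hg using Subgroup.closure_induction with
    | mem x hx =>
      rcases hx with rfl | rfl
      · exact Units.ext ((congrArg Matrix.det hρa).trans (Matrix.SpecialLinearGroup.det_coe _))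
      · exact Units.ext ((congrArg Matrix.det hρb).trans (Matrix.SpecialLinearGroup.det_coe _))
    | one => rw [show (⟨1, _⟩ : Subgroup.closure ({a, b} : Set G)) = 1 from rfl, map_one, map_one]
    | mul x y hx hy ihx ihy =>
      rw [show (⟨x * y, _⟩ : Subgroup.closure ({a, b} : Set G)) = ⟨x, hx⟩ * ⟨y, hy⟩ from rfl,
        map_mul, map_mul, ihx, ihy, one_mul]
    | inv x hx ih =>
      rw [show (⟨x⁻¹, _⟩ : Subgroup.closure ({a, b} : Set G)) = ⟨x, hx⟩⁻¹ from rfl, map_inv,
        map_inv, ih, inv_one]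
  refine ⟨liftSL _ hdet, ?_, fun g => by rw [liftSL_eq_one_iff]; exact rep_eq_one_iff he hρ _⟩
  rw [← MonoidHom.range_eq_top]
  refine eq_top_of_transvections hs0 ht0 ⟨⟨a, Subgroup.subset_closure (by simp)⟩, ?_⟩
    ⟨⟨b, Subgroup.subset_closure (by simp)⟩, ?_⟩
  · exact Subtype.ext hρa
  · exact Subtype.ext hρb

end CL.Plane
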