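import Cfsg.Agent.Base
import Cfsg.Agent.PLocal.FFBasic
import Cfsg.Agent.PLocal.Plane
import Cfsg.Agent.Solv.CoprimeAbelian
import Cfsg.Agent.Lin.Card

/-!
Two transvection subgroups which do not centralize each other's commutator generate `SL(2, p)`.
-/

set_option autoImplicit false

namespace CL.FF

open Cfsg
open scoped Pointwise commutatorElement MatrixGroups

variable {G : Type*} [Group G] {p : ℕ}

theorem card_SL2 [Fact p.Prime] : Nat.card SL(2, ZMod p) = p * ((p - 1) * (p + 1)) := by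
  rw [Lin.card_SL_two, ZMod.card, mul_assoc]

theorem relIndex_centralizer_dvd [hp : Fact p.Prime] {U K : Subgroup G} (hU : Nat.card U = p)
    (hK : K ≤ Subgroup.normalizer (U : Set G)) :
    (Subgroup.centralizer (U : Set G)).relIndex K ∣ p - 1 := by
  have : Finite U := Nat.finite_of_card_ne_zero (hU ▸ hp.out.ne_zero)
  have : IsCyclic U := isCyclic_of_prime_card hU
  have h1 := Subgroup.card_subgroup_dvd_card
    (U.normalizerMonoidHom.comp (Subgroup.inclusion hK)).range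
  rw [IsCyclic.card_mulAut, hU, Nat.totient_prime hp.out, ← Subgroup.index_ker,
    ← MonoidHom.comap_ker, Subgroup.normalizerMonoidHom_ker] at h1
  exact h1

theorem le_centralizer_of_card_prime [Finite G] [hp : Fact p.Prime] {U K : Subgroup G}
    (hU : Nat.card U = p) (hK : K ≤ Subgroup.normalizer (U : Set G)) (hKp : IsPGroup p K) :
    K ≤ Subgroup.centralizer (U : Set G) := by
  rw [← Subgroup.relIndex_eq_one]
  have h1 := relIndex_centralizer_dvd hU hK
  have h2 := Subgroup.relIndex_dvd_card (Subgroup.centralizer (U : Set G)) K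
  have h3 : (Nat.card K).Coprime (p - 1) := coprime_card_of_isPGroup hKp
    ((Nat.coprime_self_sub_left hp.out.one_le).2 (Nat.coprime_one_left p))
  exact Nat.eq_one_of_dvd_coprimes h3 h2 h1

theorem TV.commutator_le_centralizer [Finite G] [Fact p.Prime] {V A : Subgroup G}
    (hV : IsElementaryAbelian p V) (hA : TV p V A) :
    ⁅V, A⁆ ≤ Subgroup.centralizer (A : Set G) :=
  Subgroup.le_centralizer_iff.1 (le_centralizer_of_card_prime (hA.card_commutator hV)
    (Subgroup.normalizer_commutator_ge_right _ _) (EA.isPGroup hA.ea))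

/-- `E` is a copy of `SL(2, p)` acting naturally on the plane `[V, E]` and trivially on a
complement. -/
structure SL2Data (p : ℕ) [Fact p.Prime] (V E : Subgroup G) : Prop where
  norm : E ≤ Subgroup.normalizer (V : Set G)
  card_comm : Nat.card (⁅V, E⁆ : Subgroup G) = p ^ 2
  inf_eq : ⁅V, E⁆ ⊓ Subgroup.centralizer (E : Set G) = ⊥
  sup_eq : ⁅V, E⁆ ⊔ (V ⊓ Subgroup.centralizer (E : Set G)) = V
  faithful : E ⊓ Subgroup.centralizer ((⁅V, E⁆ : Subgroup G) : Set G) = ⊥
  iso : Nonempty (E ≃* SL(2, ZMod p))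
  irr : Irr V E

theorem card_cases_of_le_sq [Finite G] [hp : Fact p.Prime] {U W : Subgroup G} (h : U ≤ W)
    (hW : Nat.card W = p ^ 2) : U = ⊥ ∨ Nat.card U = p ∨ U = W := by
  obtain ⟨k, hk, hU⟩ := (Nat.dvd_prime_pow hp.out).1 (hW ▸ Subgroup.card_dvd_of_le h)
  interval_cases k
  · exact Or.inl (Subgroup.card_eq_one.1 hU)
  · exact Or.inr (Or.inl (by simpa using hU))
  · exact Or.inr (Or.inr (Subgroup.eq_of_le_of_card_ge h (by rw [hU, hW])))

theorem sl2Data_of_pair [Finite G] [hp : Fact p.Prime] {V A B : Subgroup G}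
    (hV : IsElementaryAbelian p V) (hA : TV p V A) (hB : TV p V B)
    (hf : (A ⊔ B) ⊓ Subgroup.centralizer (V : Set G) = ⊥)
    (h1 : ¬ ⁅V, B⁆ ≤ Subgroup.centralizer (A : Set G))
    (h2 : ¬ ⁅V, A⁆ ≤ Subgroup.centralizer (B : Set G)) : SL2Data p V (A ⊔ B) := by
  have cA := hA.commutator_le_centralizer hV
  have cB := hB.commutator_le_centralizer hV
  have nA := hA.card_commutator hV
  have nB := hB.card_commutator hV
  have vA : ⁅V, A⁆ ≤ V := Offender.commutator_le hA.norm le_rfl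
  have vB : ⁅V, B⁆ ≤ V := Offender.commutator_le hB.norm le_rfl
  have eA : ⁅V, A⁆ ⊓ Subgroup.centralizer (B : Set G) = ⊥ :=
    (eq_bot_or_eq_of_card_prime nA inf_le_left).resolve_right fun h => h2 (inf_eq_left.1 h)
  have eB : ⁅V, B⁆ ⊓ Subgroup.centralizer (A : Set G) = ⊥ :=
    (eq_bot_or_eq_of_card_prime nB inf_le_left).resolve_right fun h => h1 (inf_eq_left.1 h)
  have hAB : ⁅V, A⁆ ⊓ ⁅V, B⁆ = ⊥ := le_bot_iff.1 (eA ▸ inf_le_inf_left _ cB)
  have hn : ⁅V, A⁆ ≤ Subgroup.normalizer ((⁅V, B⁆ : Subgroup G) : Set G) :=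
    EA.le_normalizer_of_le_centralizer (EA.le_centralizer_of_le hV vA vB)
  have hW : ⁅V, A ⊔ B⁆ = ⁅V, A⁆ ⊔ ⁅V, B⁆ := Offender.commutator_sup_right hA.norm hB.norm
  have hE : A ⊔ B ≤ Subgroup.normalizer (V : Set G) := sup_le hA.norm hB.norm
  have vW : ⁅V, A ⊔ B⁆ ≤ V := Offender.commutator_le hE le_rfl
  have hc : Nat.card (⁅V, A ⊔ B⁆ : Subgroup G) = p ^ 2 := by
    rw [hW, EA.card_sup_of_disjoint hn hAB, nA, nB, sq]
  have hinf : ⁅V, A ⊔ B⁆ ⊓ Subgroup.centralizer ((A ⊔ B : Subgroup G) : Set G) = ⊥ := by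
    rw [eq_bot_iff, hW, EA.centralizer_sup]
    rintro w ⟨hw, hwA, hwB⟩
    obtain ⟨u, hu, v, hv, rfl⟩ := (EA.mem_sup_of_le_normalizer hn).1 hw
    have k1 : u ∈ ⁅V, A⁆ ⊓ Subgroup.centralizer (B : Set G) :=
      ⟨hu, (Subgroup.mul_mem_cancel_right _ (cB hv)).1 hwB⟩
    have k2 : v ∈ ⁅V, B⁆ ⊓ Subgroup.centralizer (A : Set G) :=
      ⟨hv, (Subgroup.mul_mem_cancel_left _ (cA hu)).1 hwA⟩
    rw [eA, Subgroup.mem_bot] at k1
    rw [eB, Subgroup.mem_bot] at k2
    simp [k1, k2]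
  have hsup : ⁅V, A ⊔ B⁆ ⊔ (V ⊓ Subgroup.centralizer ((A ⊔ B : Subgroup G) : Set G)) = V := by
    refine Subgroup.eq_of_le_of_card_ge (sup_le vW inf_le_left) ?_
    rw [EA.card_sup_of_disjoint
      (EA.le_normalizer_of_le_centralizer (EA.le_centralizer_of_le hV vW inf_le_left))
      (le_bot_iff.1 (hinf ▸ inf_le_inf_left _ inf_le_right)), hc,
      ← EA.card_mul_relIndex (inf_le_left :
        V ⊓ Subgroup.centralizer ((A ⊔ B : Subgroup G) : Set G) ≤ V), mul_comm]
    refine Nat.mul_le_mul_right _ ?_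
    rw [EA.centralizer_sup, inf_inf_distrib_left]
    refine Subgroup.relIndex_inf_le.trans ?_
    rw [hA.index, hB.index, sq]
  have hfa : (A ⊔ B) ⊓ Subgroup.centralizer ((⁅V, A ⊔ B⁆ : Subgroup G) : Set G) = ⊥ := by
    rw [eq_bot_iff, ← hf]
    refine le_inf inf_le_left ?_
    nth_rewrite 2 [← hsup]
    rw [EA.centralizer_sup]
    exact le_inf inf_le_right (inf_le_left.trans (Subgroup.le_centralizer_iff.1 inf_le_right))
  have nW : A ⊔ B ≤ Subgroup.normalizer ((⁅V, A ⊔ B⁆ : Subgroup G) : Set G) :=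
    Subgroup.normalizer_commutator_ge_right _ _
  refine ⟨hE, hc, hinf, hsup, hfa, ?_, fun U hU hEU => ?_⟩
  · obtain ⟨a, -, -, ha⟩ := exists_zpowers_of_card_prime hA.card
    obtain ⟨b, -, -, hb⟩ := exists_zpowers_of_card_prime hB.card
    obtain ⟨u, hu1, -, hu⟩ := exists_zpowers_of_card_prime nA
    obtain ⟨v, hv1, -, hv⟩ := exists_zpowers_of_card_prime nB
    have ma : a ∈ A := ha ▸ Subgroup.mem_zpowers a
    have mb : b ∈ B := hb ▸ Subgroup.mem_zpowers b
    have mu : u ∈ ⁅V, A⁆ := hu ▸ Subgroup.mem_zpowers u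
    have mv : v ∈ ⁅V, B⁆ := hv ▸ Subgroup.mem_zpowers v
    obtain ⟨φ, hφ, hker⟩ := Plane.exists_surjective_SL2 (EA.mono hV vW) hc
      (nW (Subgroup.mem_sup_left ma)) (nW (Subgroup.mem_sup_right mb))
      (Subgroup.commutator_mono le_rfl le_sup_left mu)
      (Subgroup.commutator_mono le_rfl le_sup_right mv) hu1
      (fun h => hv1 (by
        have : v ∈ ⁅V, A⁆ ⊓ ⁅V, B⁆ := ⟨hu ▸ h, mv⟩
        rwa [hAB, Subgroup.mem_bot] at this))
      (Subgroup.mem_centralizer_iff.1 (cA mu) a ma)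
      (by rw [← hu, Subgroup.commutator_comm]; exact Subgroup.commutator_mem_commutator ma (vB mv))
      (fun h => h1 (by rw [hv, ha]; exact Subgroup.zpowers_le.2 (mem_centralizer_zpowers_iff.2 h)))
      (Subgroup.mem_centralizer_iff.1 (cB mv) b mb)
      (by rw [← hv, Subgroup.commutator_comm]; exact Subgroup.commutator_mem_commutator mb (vA mu))
      (fun h => h2 (by rw [hu, hb]; exact Subgroup.zpowers_le.2 (mem_centralizer_zpowers_iff.2 h)))
    have hcl : A ⊔ B = Subgroup.closure {a, b} := by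
      rw [ha, hb, Set.insert_eq, Subgroup.closure_union, Subgroup.zpowers_eq_closure,
        Subgroup.zpowers_eq_closure]
    refine ⟨(MulEquiv.subgroupCongr hcl).trans (MulEquiv.ofBijective φ ⟨?_, hφ⟩)⟩
    rw [injective_iff_map_eq_one]
    intro g hg
    have : (g : G) ∈ (A ⊔ B) ⊓ Subgroup.centralizer ((⁅V, A ⊔ B⁆ : Subgroup G) : Set G) :=
      ⟨hcl.ge g.2, (hker g).1 hg⟩
    rw [hfa, Subgroup.mem_bot] at this
    exact Subtype.ext this
  · rcases card_cases_of_le_sq hU hc with h | h | h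
    · exact Or.inl h
    · left
      rw [eq_bot_iff, ← hinf]
      refine le_inf hU (Subgroup.le_centralizer_iff.1 (sup_le ?_ ?_))
      · exact le_centralizer_of_card_prime h (le_sup_left.trans hEU) (EA.isPGroup hA.ea)
      · exact le_centralizer_of_card_prime h (le_sup_right.trans hEU) (EA.isPGroup hB.ea)
    · exact Or.inr h

theorem not_le_centralizer_of_coprime [Finite G] [Fact p.Prime] {V A B Q : Subgroup G}
    (hV : IsElementaryAbelian p V) (hA : TV p V A) (hB : TV p V B) (hQ : Q ≤ A ⊔ B)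
    (hcop : (Nat.card Q).Coprime p) (hne : ⁅V, Q⁆ ≠ ⊥) :
    ¬ ⁅V, B⁆ ≤ Subgroup.centralizer (A : Set G) := by
  intro h
  apply hne
  have hE : A ⊔ B ≤ Subgroup.normalizer (V : Set G) := sup_le hA.norm hB.norm
  have nW : A ⊔ B ≤ Subgroup.normalizer ((⁅V, A ⊔ B⁆ : Subgroup G) : Set G) :=
    Subgroup.normalizer_commutator_ge_right _ _
  have hW : ⁅V, A ⊔ B⁆ = ⁅V, A⁆ ⊔ ⁅V, B⁆ := Offender.commutator_sup_right hA.norm hB.norm
  have h1 : ⁅⁅V, A ⊔ B⁆, A ⊔ B⁆ ≤ ⁅V, B⁆ := by
    rw [Offender.commutator_sup_right (le_sup_left.trans nW) (le_sup_right.trans nW)]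
    refine sup_le ?_ (Subgroup.commutator_mono (Offender.commutator_le hE le_rfl) le_rfl)
    rw [hW, Subgroup.commutator_eq_bot_iff_le_centralizer.2
      (sup_le (hA.commutator_le_centralizer hV) h)]
    exact bot_le
  have h2 : ⁅⁅V, B⁆, A ⊔ B⁆ = ⊥ := by
    rw [Subgroup.commutator_eq_bot_iff_le_centralizer, EA.centralizer_sup]
    exact le_inf h (hB.commutator_le_centralizer hV)
  have h3 : ⁅⁅V, Q⁆, Q⁆ = ⁅V, Q⁆ := coprime_commutator_commutator (hQ.trans hE)
    (coprime_card_of_isPGroup (EA.isPGroup hV) hcop).symm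
    (Or.inr (isSolvable_of_isPGroup (EA.isPGroup hV)))
  rw [← h3, ← h3, eq_bot_iff, ← h2]
  exact Subgroup.commutator_mono ((Subgroup.commutator_mono
    (Subgroup.commutator_mono le_rfl hQ) hQ).trans h1) hQ

namespace SL2Data

variable [hp : Fact p.Prime] {V E : Subgroup G}

theorem card (h : SL2Data p V E) : Nat.card E = p * ((p - 1) * (p + 1)) := by
  obtain ⟨e⟩ := h.iso
  rw [Nat.card_congr e.toEquiv, card_SL2]

theorem comm_le (h : SL2Data p V E) : ⁅V, E⁆ ≤ V := Offender.commutator_le h.norm le_rfl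

theorem eq_bot (h : SL2Data p V E) {K : Subgroup G} (hK : K ≤ E)
    (hc : K ≤ Subgroup.centralizer ((⁅V, E⁆ : Subgroup G) : Set G)) : K = ⊥ :=
  le_bot_iff.1 (h.faithful ▸ le_inf hK hc)

theorem faithful' (h : SL2Data p V E) : E ⊓ Subgroup.centralizer (V : Set G) = ⊥ :=
  h.eq_bot inf_le_left (inf_le_right.trans (EA.centralizer_anti h.comm_le))

theorem comm_ne_bot (h : SL2Data p V E) : ⁅V, E⁆ ≠ ⊥ := by
  intro k
  have := h.card_comm
  rw [k, Subgroup.card_bot] at this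
  exact (Nat.one_lt_pow two_ne_zero hp.out.one_lt).ne this

theorem conj (h : SL2Data p V E) {g : G} (hg : g ∈ Subgroup.normalizer (V : Set G)) :
    SL2Data p V (MulAut.conj g • E) := by
  have hV := mem_normalizer_iff_conj_smul_eq.1 hg
  have e : ⁅V, MulAut.conj g • E⁆ = MulAut.conj g • ⁅V, E⁆ := by rw [conj_smul_commutator, hV]
  refine ⟨?_, by rw [e, card_conj_smul, h.card_comm], ?_, ?_, ?_, ?_, h.irr.conj hg⟩
  · have := conj_smul_mono g h.norm
    rwa [conj_smul_normalizer, hV] at this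
  · rw [e, ← conj_smul_centralizer, ← Subgroup.smul_inf, h.inf_eq, conj_smul_bot]
  · have := congrArg (fun X => MulAut.conj g • X) h.sup_eq
    simp only [Subgroup.smul_sup, Subgroup.smul_inf, conj_smul_centralizer, hV] at this
    rw [e, this]
  · rw [e, ← conj_smul_centralizer, ← Subgroup.smul_inf, h.faithful, conj_smul_bot]
  · obtain ⟨e⟩ := h.iso
    exact ⟨(Subgroup.equivSMul (MulAut.conj g) E).symm.trans e⟩

/-- A large normal subgroup of `E` is still irreducible on the plane. -/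
theorem irr_of_normal [Finite G] (h : SL2Data p V E) (hV : IsElementaryAbelian p V)
    {Q : Subgroup G} (hQ : Q ≤ E) (hn : E ≤ Subgroup.normalizer (Q : Set G))
    (hc : (p - 1) * (p - 1) < Nat.card Q) {U : Subgroup G} (hU : U ≤ ⁅V, E⁆)
    (hQU : Q ≤ Subgroup.normalizer (U : Set G)) : U = ⊥ ∨ U = ⁅V, E⁆ := by
  rcases card_cases_of_le_sq hU h.card_comm with k | k | k
  · exact Or.inl k
  swap
  · exact Or.inr k
  refine h.irr U hU fun g hg => ?_
  rw [mem_normalizer_iff_conj_smul_eq]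
  by_contra hne
  have k' : Nat.card (MulAut.conj g • U : Subgroup G) = p := by rw [card_conj_smul, k]
  have hU' : MulAut.conj g • U ≤ ⁅V, E⁆ :=
    conj_smul_le_of_mem_normalizer hU (Subgroup.normalizer_commutator_ge_right _ _ hg)
  have hQU' : Q ≤ Subgroup.normalizer ((MulAut.conj g • U : Subgroup G) : Set G) := by
    rw [← conj_smul_normalizer, ← mem_normalizer_iff_conj_smul_eq.1 (hn hg)]
    exact conj_smul_mono g hQU
  have hd : U ⊓ MulAut.conj g • U = ⊥ :=
    (eq_bot_or_eq_of_card_prime k' inf_le_right).resolve_right fun e =>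
      hne (Subgroup.eq_of_le_of_card_ge (inf_eq_right.1 e) (by rw [k, k']))
  have hs : U ⊔ MulAut.conj g • U = ⁅V, E⁆ := by
    refine Subgroup.eq_of_le_of_card_ge (sup_le hU hU') ?_
    rw [EA.card_sup_of_disjoint (EA.le_normalizer_of_le_centralizer
      (EA.le_centralizer_of_le hV (hU.trans h.comm_le) (hU'.trans h.comm_le))) hd, k, k',
      h.card_comm, sq]
  have h1 : Q ⊓ Subgroup.centralizer ((⁅V, E⁆ : Subgroup G) : Set G) = ⊥ :=
    h.eq_bot (inf_le_left.trans hQ) inf_le_right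
  have h2 : Nat.card Q = (Subgroup.centralizer ((⁅V, E⁆ : Subgroup G) : Set G)).relIndex Q := by
    rw [← Subgroup.inf_relIndex_right, inf_comm, h1, Subgroup.relIndex_bot_left]
  rw [← hs, EA.centralizer_sup] at h2
  have hp1 : 0 < p - 1 := Nat.sub_pos_of_lt hp.out.one_lt
  exact hc.not_ge (h2 ▸ Subgroup.relIndex_inf_le.trans (Nat.mul_le_mul
    (Nat.le_of_dvd hp1 (relIndex_centralizer_dvd k hQU))
    (Nat.le_of_dvd hp1 (relIndex_centralizer_dvd k' hQU'))))

theorem ne_bot_of_card_lt {Q : Subgroup G} (hc : (p - 1) * (p - 1) < Nat.card Q) : Q ≠ ⊥ := by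
  rintro rfl
  have hp1 : 0 < p - 1 := Nat.sub_pos_of_lt hp.out.one_lt
  rw [Subgroup.card_bot] at hc
  exact hc.not_ge (Nat.mul_pos hp1 hp1)

theorem commutator_eq_of_normal [Finite G] (h : SL2Data p V E)
    {Q : Subgroup G} (hQ : Q ≤ E) (hn : E ≤ Subgroup.normalizer (Q : Set G)) (hne : Q ≠ ⊥) :
    ⁅V, Q⁆ = ⁅V, E⁆ := by
  refine (h.irr _ (Subgroup.commutator_mono le_rfl hQ)
    (EA.le_normalizer_commutator h.norm hn)).resolve_left fun k => hne ?_
  rw [Subgroup.commutator_eq_bot_iff_le_centralizer, Subgroup.le_centralizer_iff] at k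
  exact le_bot_iff.1 (h.faithful' ▸ le_inf hQ k)

theorem inf_centralizer_of_normal [Finite G] (h : SL2Data p V E)
    {Q : Subgroup G} (hQ : Q ≤ E) (hn : E ≤ Subgroup.normalizer (Q : Set G)) (hne : Q ≠ ⊥) :
    ⁅V, E⁆ ⊓ Subgroup.centralizer (Q : Set G) = ⊥ :=
  (h.irr _ inf_le_left (EA.le_normalizer_inf (Subgroup.normalizer_commutator_ge_right _ _)
    (EA.le_normalizer_centralizer hn))).resolve_right fun k =>
      hne (h.eq_bot hQ (Subgroup.le_centralizer_iff.1 (inf_eq_left.1 k)))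

theorem centralizer_eq_of_normal [Finite G] (h : SL2Data p V E) (hV : IsElementaryAbelian p V)
    {Q : Subgroup G} (hQ : Q ≤ E) (hn : E ≤ Subgroup.normalizer (Q : Set G)) (hne : Q ≠ ⊥) :
    V ⊓ Subgroup.centralizer (Q : Set G) = V ⊓ Subgroup.centralizer (E : Set G) := by
  refine le_antisymm ?_ (inf_le_inf_left _ (EA.centralizer_anti hQ))
  rintro v ⟨hv, hvQ⟩
  obtain ⟨w, hw, c, hc, rfl⟩ := (EA.mem_sup_of_le_normalizer (EA.le_normalizer_of_le_centralizer
    (EA.le_centralizer_of_le hV h.comm_le inf_le_left))).1 (h.sup_eq.ge hv)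
  have : w ∈ ⁅V, E⁆ ⊓ Subgroup.centralizer (Q : Set G) :=
    ⟨hw, (Subgroup.mul_mem_cancel_right _ (EA.centralizer_anti hQ hc.2)).1 hvQ⟩
  rw [h.inf_centralizer_of_normal hQ hn hne, Subgroup.mem_bot] at this
  rw [this, one_mul]
  exact hc

theorem irrData_of_normal [Finite G] (h : SL2Data p V E) (hV : IsElementaryAbelian p V)
    {Q : Subgroup G} (hQ : Q ≤ E) (hn : E ≤ Subgroup.normalizer (Q : Set G))
    (hc : Nat.card Q = (p - 1) * (p + 1)) : IrrData p V Q := by
  have h2 := hp.out.two_le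
  have hlt : (p - 1) * (p - 1) < Nat.card Q := by
    rw [hc]
    exact Nat.mul_lt_mul_of_pos_left (by omega) (by omega)
  refine ⟨hQ.trans h.norm, le_bot_iff.1 (h.faithful' ▸ inf_le_inf_right _ hQ),
    noP_of_coprime ?_, fun U hU hQU => ?_, ?_⟩
  · rw [hc]
    exact Nat.Coprime.mul_left
      ((Nat.coprime_self_sub_left hp.out.one_le).2 (Nat.coprime_one_left p)) (by simp)
  · rw [h.commutator_eq_of_normal hQ hn (ne_bot_of_card_lt hlt)] at hU ⊢
    exact h.irr_of_normal hV hQ hn hlt hU hQU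
  · rw [hc]
    calc 2 < 1 * 3 := by norm_num
      _ ≤ _ := Nat.mul_le_mul (by omega) (by omega)

/-- If `p ≥ 5` then `E` is perfect. -/
theorem eq_two_or_three (h : SL2Data p V E) (hne : ¬ E ≤ ⁅E, E⁆) : p = 2 ∨ p = 3 := by
  by_contra! hcon
  apply hne
  obtain ⟨e⟩ := h.iso
  have h5 : 5 ≤ p := hp.out.five_le_of_ne_two_of_ne_three hcon.1 hcon.2
  have h2 : ((2 : ℕ) : ZMod p) ≠ 0 := by
    rw [Ne, ZMod.natCast_eq_zero_iff]
    exact fun k => by have := Nat.le_of_dvd two_pos k; omega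
  have h3 : ((3 : ℕ) : ZMod p) ≠ 0 := by
    rw [Ne, ZMod.natCast_eq_zero_iff]
    exact fun k => by have := Nat.le_of_dvd three_pos k; omega
  have hperf : Group.IsPerfect SL(2, ZMod p) := ⟨Matrix.SL2.commutator_eq_top h2 fun k => h3 (by
    have : ((3 : ℕ) : ZMod p) = ((2 : ℕ) : ZMod p) ^ 2 - 1 := by push_cast; ring
    rw [this, k, sub_self])⟩
  have : Group.IsPerfect E := Group.IsPerfect.ofSurjective (f := (e.symm : SL(2, ZMod p) →* E))
    e.symm.surjective
  exact (Subgroup.isPerfect_iff.1 this).ge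

omit hp in
theorem SL2_three_aux : ¬ ∀ a b c d : SL(2, ZMod 3), ⁅⁅a, b⁆, ⁅c, d⁆⁆ = 1 := by
  intro key
  have := key ⟨!![1, 1; 0, 1], by decide⟩ ⟨!![1, 0; 1, 1], by decide⟩
    ⟨!![1, 0; 1, 1], by decide⟩ ⟨!![1, 2; 0, 1], by decide⟩
  revert this
  decide

theorem not_commutator_commutator_eq_bot (h : SL2Data p V E) (h3 : p = 3) :
    ¬ ⁅⁅E, E⁆, ⁅E, E⁆⁆ = ⊥ := by
  subst h3
  intro k
  obtain ⟨e⟩ := h.iso
  refine SL2_three_aux fun a b c d => ?_
  have h1 := Subgroup.commutator_mem_commutator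
    (Subgroup.commutator_mem_commutator (e.symm a).2 (e.symm b).2)
    (Subgroup.commutator_mem_commutator (e.symm c).2 (e.symm d).2)
  rw [k, Subgroup.mem_bot] at h1
  apply e.symm.injective
  rw [map_one, map_commutatorElement, map_commutatorElement, map_commutatorElement]
  exact Subtype.ext h1

end SL2Data

end CL.FF
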