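import Cfsg.Agent.Base
import Cfsg.Agent.PLocal.FFPair
import Cfsg.Agent.Solv.Factor
import Cfsg.Agent.Solv.Fitting

/-!
Structure theorem for failure of factorization: the `SL(2, p)` factors.
-/

set_option autoImplicit false

namespace CL.FF

open Cfsg
open scoped Pointwise commutatorElement MatrixGroups

variable {G : Type*} [Group G] {p : ℕ}

theorem commutator_sup_sup_le {F A : Subgroup G} (hA : ∀ a ∈ A, ∀ b ∈ A, a * b = b * a)
    (hAF : A ≤ Subgroup.normalizer (F : Set G)) : ⁅F ⊔ A, F ⊔ A⁆ ≤ F := by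
  rw [Subgroup.commutator_le]
  intro x hx y hy
  obtain ⟨f, hf, a, ha, rfl⟩ := (EA.mem_sup_of_le_normalizer' hAF).1 hx
  obtain ⟨g, hg, b, hb, rfl⟩ := (EA.mem_sup_of_le_normalizer' hAF).1 hy
  have : ⁅f * a, g * b⁆ = f * (a * g * a⁻¹) * (b * f⁻¹ * b⁻¹) * g⁻¹ := by
    have h : b * a⁻¹ = a⁻¹ * b := hA b hb _ (A.inv_mem ha)
    calc ⁅f * a, g * b⁆ = f * a * g * (b * a⁻¹) * f⁻¹ * b⁻¹ * g⁻¹ := by
          rw [commutatorElement_def]; group
      _ = _ := by rw [h]; group
  rw [this]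
  exact F.mul_mem (F.mul_mem (F.mul_mem hf (Offender.conj_mem hAF ha hg))
    (Offender.conj_mem hAF hb (F.inv_mem hf))) (F.inv_mem hg)

theorem sup_conj_le {R A : Subgroup G} {x : G} (hx : x ∈ R) :
    A ⊔ MulAut.conj x • A ≤ ⁅R, A⁆ ⊔ A := by
  refine sup_le le_sup_right ?_
  rintro _ ⟨a, ha, rfl⟩
  have : x * a * x⁻¹ = ⁅x, a⁆ * a := by rw [commutatorElement_def]; group
  change x * a * x⁻¹ ∈ _
  rw [this]
  exact Subgroup.mul_mem_sup (Subgroup.commutator_mem_commutator hx ha) ha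

theorem commutatorElement_mem_sup_conj {A : Subgroup G} (x : G) {a : G} (ha : a ∈ A) :
    ⁅x, a⁆ ∈ A ⊔ MulAut.conj x • A :=
  Subgroup.mul_mem _ (Subgroup.mem_sup_right (conj_mem_conj_smul x ha))
    (Subgroup.mem_sup_left (A.inv_mem ha))

theorem conj_smul_eq_of_mem_centralizer {A : Subgroup G} {x : G}
    (hx : x ∈ Subgroup.centralizer (A : Set G)) : MulAut.conj x • A = A :=
  mem_normalizer_iff_conj_smul_eq.1 (Subgroup.centralizer_le_normalizer _ hx)

theorem le_normalizer_commutator_sup (F A : Subgroup G) :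
    F ≤ Subgroup.normalizer ((⁅F, A⁆ ⊔ A : Subgroup G) : Set G) := by
  rw [Subgroup.le_normalizer_iff]
  intro x hx
  have : MulAut.conj x • (⁅F, A⁆ ⊔ A) ≤ ⁅F, A⁆ ⊔ A := by
    rw [Subgroup.smul_sup, mem_normalizer_iff_conj_smul_eq.1
      (Subgroup.normalizer_commutator_ge_left F A hx)]
    exact sup_le le_sup_left (le_sup_right.trans (sup_conj_le hx))
  exact fun y hy => this (conj_mem_conj_smul x hy)

/-- The subgroup generated by the elements of order `p` normalizing `W`. -/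
def pGenNorm (p : ℕ) (W : Subgroup G) : Subgroup G :=
  Subgroup.closure {g | g ∈ Subgroup.normalizer (W : Set G) ∧ g ^ p = 1}

theorem le_pGenNorm {W A : Subgroup G} (hA : IsElementaryAbelian p A)
    (h : A ≤ Subgroup.normalizer (W : Set G)) : A ≤ pGenNorm p W :=
  fun a ha => Subgroup.subset_closure ⟨h ha, hA.2 a ha⟩

theorem commutator_le_pGenNorm {W F A : Subgroup G} (hA : IsElementaryAbelian p A)
    (h : ∀ x ∈ F, MulAut.conj x • A ≤ Subgroup.normalizer (W : Set G)) :
    ⁅F, A⁆ ≤ pGenNorm p W := by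
  rw [Subgroup.commutator_le]
  intro x hx a ha
  have h1 := h 1 F.one_mem
  rw [map_one, one_smul] at h1
  exact sup_le (le_pGenNorm hA h1) (le_pGenNorm (EA.map hA _) (h x hx))
    (commutatorElement_mem_sup_conj x ha)

theorem card_dvd_of_le_pGenNorm [Finite G] [Fact p.Prime] {W K : Subgroup G}
    (hW : IsElementaryAbelian p W) (hc : Nat.card W = p ^ 2) (hK : K ≤ pGenNorm p W)
    (hf : K ⊓ Subgroup.centralizer (W : Set G) = ⊥) : Nat.card K ∣ p * ((p - 1) * (p + 1)) := by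
  obtain ⟨φ, hφ⟩ := Plane.exists_hom_SL2 hW hc
    (s := {g | g ∈ Subgroup.normalizer (W : Set G) ∧ g ^ p = 1})
    ((Subgroup.closure_le _).2 fun _ h => h.1) fun g hg => ⟨1, by rw [pow_one]; exact hg.2⟩
  rw [← card_SL2]
  refine Subgroup.card_dvd_of_injective (φ.comp (Subgroup.inclusion hK))
    ((injective_iff_map_eq_one _).2 fun g hg => ?_)
  have : (g : G) ∈ K ⊓ Subgroup.centralizer (W : Set G) := ⟨g.2, (hφ _).1 hg⟩
  rw [hf, Subgroup.mem_bot] at this
  exact Subtype.ext this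

theorem not_dvd_relIndex_of_card [Finite G] {r : ℕ} [hr : Fact r.Prime] {P K : Subgroup G}
    (hPK : P ≤ K) (hP : Nat.card P = r ^ (Nat.card K).factorization r) : ¬ r ∣ P.relIndex K := by
  intro h
  refine Nat.pow_succ_factorization_not_dvd (Nat.card_pos (α := K)).ne' hr.out ?_
  nth_rewrite 2 [← EA.card_mul_relIndex hPK]
  rw [pow_succ, hP]
  exact Nat.mul_dvd_mul_left _ h

namespace Hyp

variable [Finite G] [hp : Fact p.Prime] {V H F A : Subgroup G}

theorem tv_inf_eq_bot (h : Hyp p V H F) (hA : TV p V A) : A ⊓ F = ⊥ :=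
  inf_eq_bot_of_isPGroup (EA.isPGroup hA.ea) h.cop

theorem exists_not_mem_centralizer (h : Hyp p V H F) (hAH : A ≤ H) (hA : TV p V A) :
    ∃ x ∈ F, x ∉ Subgroup.centralizer (A : Set G) := by
  by_contra! hcon
  exact hA.ne_bot (h.eq_bot_of_le_centralizer hAH (EA.isPGroup hA.ea)
    (Subgroup.le_centralizer_iff.1 hcon))

omit [Finite G] hp in
theorem conj_le (h : Hyp p V H F) (hAH : A ≤ H) {x : G} (hx : x ∈ F) : MulAut.conj x • A ≤ H :=
  conj_smul_le_of_mem_normalizer hAH (Subgroup.le_normalizer (h.le hx))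

omit [Finite G] hp in
theorem commutator_le (h : Hyp p V H F) (hAH : A ≤ H) : ⁅F, A⁆ ≤ F :=
  Offender.commutator_le (hAH.trans h.normF) le_rfl

theorem sl2Data_conj (h : Hyp p V H F) (hAH : A ≤ H) (hA : TV p V A) {x : G} (hx : x ∈ F)
    (hxA : x ∉ Subgroup.centralizer (A : Set G)) : SL2Data p V (A ⊔ MulAut.conj x • A) := by
  have hB := hA.conj (h.norm (h.le hx))
  have hE : A ⊔ MulAut.conj x • A ≤ H := sup_le hAH (h.conj_le hAH hx)
  have hcop : (Nat.card (F ⊓ (A ⊔ MulAut.conj x • A) : Subgroup G)).Coprime p :=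
    h.cop.coprime_dvd_left (Subgroup.card_dvd_of_le inf_le_left)
  have hne : ⁅V, F ⊓ (A ⊔ MulAut.conj x • A)⁆ ≠ ⊥ := fun k => hxA (by
    rw [Subgroup.mem_centralizer_iff]
    intro a ha
    have : ⁅x, a⁆ ∈ F ⊓ (A ⊔ MulAut.conj x • A) :=
      ⟨Offender.commutatorElement_mem (hAH.trans h.normF) hx ha,
        commutatorElement_mem_sup_conj x ha⟩
    rw [h.eq_bot_of_commutator (inf_le_right.trans hE) k, Subgroup.mem_bot] at this
    exact (commutatorElement_eq_one_iff_mul_comm.1 this).symm)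
  exact sl2Data_of_pair h.ea hA hB (h.inf_faithful hE)
    (not_le_centralizer_of_coprime h.ea hA hB inf_le_right hcop hne)
    (not_le_centralizer_of_coprime h.ea hB hA (inf_le_right.trans (sup_comm _ _).le) hcop hne)

theorem inf_le_of_le_sup (h : Hyp p V H F) (hA : TV p V A) {R E : Subgroup G} (hR : R ≤ F)
    (hAR : A ≤ Subgroup.normalizer (R : Set G)) (hE : E ≤ R ⊔ A) : E ⊓ F ≤ R := by
  rintro x ⟨hx, hxF⟩
  obtain ⟨r, hr, a, ha, rfl⟩ := (EA.mem_sup_of_le_normalizer' hAR).1 (hE hx)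
  have : a ∈ A ⊓ F := ⟨ha, (Subgroup.mul_mem_cancel_left _ (hR hr)).1 hxF⟩
  rw [h.tv_inf_eq_bot hA, Subgroup.mem_bot] at this
  rwa [this, mul_one]

theorem card_inf (h : Hyp p V H F) (hAH : A ≤ H) (hA : TV p V A) {E : Subgroup G} (hAE : A ≤ E)
    (hE : E ≤ F ⊔ A) (d : SL2Data p V E) : Nat.card (E ⊓ F : Subgroup G) = (p - 1) * (p + 1) := by
  have hAF := hAH.trans h.normF
  have h1 : A ⊔ (E ⊓ F) = E := by
    refine le_antisymm (sup_le hAE inf_le_left) fun x hx => ?_
    obtain ⟨r, hr, a, ha, rfl⟩ := (EA.mem_sup_of_le_normalizer' hAF).1 (hE hx)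
    exact Subgroup.mul_mem _
      (Subgroup.mem_sup_right ⟨(Subgroup.mul_mem_cancel_right _ (hAE ha)).1 hx, hr⟩)
      (Subgroup.mem_sup_left ha)
  have h2 := d.card
  rw [← h1, EA.card_sup_of_disjoint (EA.le_normalizer_inf (hAE.trans Subgroup.le_normalizer) hAF)
    (le_bot_iff.1 (h.tv_inf_eq_bot hA ▸ inf_le_inf_left _ inf_le_right)), hA.card] at h2
  exact Nat.eq_of_mul_eq_mul_left hp.out.pos h2

theorem card_conj_inf (h : Hyp p V H F) (hAH : A ≤ H) (hA : TV p V A) {x : G} (hx : x ∈ F)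
    (hxA : x ∉ Subgroup.centralizer (A : Set G)) :
    Nat.card ((A ⊔ MulAut.conj x • A) ⊓ F : Subgroup G) = (p - 1) * (p + 1) :=
  h.card_inf hAH hA le_sup_left ((sup_conj_le hx).trans (sup_le_sup_right (h.commutator_le hAH) _))
    (h.sl2Data_conj hAH hA hx hxA)

theorem two_or_three (h : Hyp p V H F) (hAH : A ≤ H) (hA : TV p V A) : p = 2 ∨ p = 3 := by
  obtain ⟨x, hx, hxA⟩ := h.exists_not_mem_centralizer hAH hA
  refine (h.sl2Data_conj hAH hA hx hxA).eq_two_or_three fun k => hA.ne_bot ?_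
  have hE := (sup_conj_le (A := A) hx).trans (sup_le_sup_right (h.commutator_le hAH) _)
  rw [← h.tv_inf_eq_bot hA, eq_comm, inf_eq_left]
  exact le_sup_left.trans (k.trans ((Subgroup.commutator_mono hE hE).trans
    (commutator_sup_sup_le (EA.iff.1 hA.ea).1 (hAH.trans h.normF))))

theorem isPGroup_commutator (h : Hyp p V H F) (hAH : A ≤ H) (hA : TV p V A) {r k : ℕ}
    [hr : Fact r.Prime] (hk : (p - 1) * (p + 1) = r ^ (k + 1)) :
    IsPGroup r (⁅F, A⁆ : Subgroup G) := by
  have hAF := hAH.trans h.normF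
  have hAp := EA.isPGroup hA.ea
  have hS := fun (s : ℕ) [Fact s.Prime] => coprime_exists_invariant_sylow hAF
    (coprime_card_of_isPGroup hAp h.cop) (Or.inl (isSolvable_of_isPGroup hAp)) s
  obtain ⟨R, hRF, hR, hAR⟩ := hS r
  have hcop : (R.relIndex F).Coprime ((F ⊓ Subgroup.centralizer (A : Set G)).relIndex F) := by
    refine Nat.coprime_of_dvd fun s hs h1 h2 => ?_
    have := Fact.mk hs
    obtain ⟨S, hSF, hS', hAS⟩ := hS s
    by_cases hc : S ≤ Subgroup.centralizer (A : Set G)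
    · exact not_dvd_relIndex_of_card hSF hS'
        (h2.trans (Subgroup.relIndex_dvd_of_le_left _ (le_inf hSF hc)))
    obtain ⟨x, hx, hxA⟩ := SetLike.not_le_iff_exists.1 hc
    have h3 := Subgroup.card_dvd_of_le (h.inf_le_of_le_sup hA hSF hAS
      ((sup_conj_le hx).trans (sup_le_sup_right (Offender.commutator_le hAS le_rfl) _)))
    rw [h.card_conj_inf hAH hA (hSF hx) hxA, hk, hS'] at h3
    have h4 := (Nat.prime_dvd_prime_iff_eq hr.out hs).1
      (hr.out.dvd_of_dvd_pow ((dvd_pow_self r k.succ_ne_zero).trans h3))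
    subst h4
    exact not_dvd_relIndex_of_card hRF hR h1
  have hprod := IsProd.of_coprime_relIndex hRF inf_le_left hcop
  refine (IsPGroup.of_card hR).to_le ?_
  rw [Subgroup.commutator_le]
  intro x hx a ha
  obtain ⟨y, hy, c, hc, rfl⟩ := hprod.2.2 x hx
  have : ⁅y * c, a⁆ = ⁅y, a⁆ := by
    rw [commutatorElement_mul_left_eq_conj_mul, commutatorElement_eq_one_iff_mul_comm.2
      (Subgroup.mem_centralizer_iff.1 hc.2 a ha).symm, mul_one, mul_inv_cancel, one_mul]
  rw [this]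
  exact Offender.commutatorElement_mem hAR hy ha

theorem isNilpotent_commutator (h : Hyp p V H F) (hAH : A ≤ H) (hA : TV p V A) :
    Group.IsNilpotent (⁅F, A⁆ : Subgroup G) := by
  rcases h.two_or_three hAH hA with rfl | rfl
  · exact (h.isPGroup_commutator hAH hA (r := 3) (k := 0) rfl).isNilpotent
  · exact (h.isPGroup_commutator hAH hA (r := 2) (k := 2) rfl).isNilpotent

theorem commutator_conj_eq (h : Hyp p V H F) (hAH : A ≤ H) (hA : TV p V A) {x y : G}
    (hx : x ∈ F) (hxA : x ∉ Subgroup.centralizer (A : Set G))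
    (hy : y ∈ F) (hyA : y ∉ Subgroup.centralizer (A : Set G)) :
    ⁅V, A ⊔ MulAut.conj x • A⁆ = ⁅V, A ⊔ MulAut.conj y • A⁆ := by
  have := h.isNilpotent_commutator hAH hA
  have key : ∀ x ∈ F, x ∉ Subgroup.centralizer (A : Set G) → ∃ Q ≤ ⁅F, A⁆, IrrData p V Q ∧
      ⁅V, Q⁆ = ⁅V, A ⊔ MulAut.conj x • A⁆ := by
    intro x hx hxA
    have d := h.sl2Data_conj hAH hA hx hxA
    have hn : A ⊔ MulAut.conj x • A ≤
        Subgroup.normalizer (((A ⊔ MulAut.conj x • A) ⊓ F : Subgroup G) : Set G) :=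
      EA.le_normalizer_inf Subgroup.le_normalizer ((sup_le hAH (h.conj_le hAH hx)).trans h.normF)
    have d' := d.irrData_of_normal h.ea inf_le_left hn (h.card_conj_inf hAH hA hx hxA)
    exact ⟨_, h.inf_le_of_le_sup hA (h.commutator_le hAH)
      (Subgroup.normalizer_commutator_ge_right _ _) (sup_conj_le hx), d',
      d.commutator_eq_of_normal inf_le_left hn d'.ne_bot⟩
  obtain ⟨Q₁, h₁, d₁, e₁⟩ := key x hx hxA
  obtain ⟨Q₂, h₂, d₂, e₂⟩ := key y hy hyA
  have c₁ := (h.sl2Data_conj hAH hA hx hxA).card_comm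
  have c₂ := (h.sl2Data_conj hAH hA hy hyA).card_comm
  by_contra hne
  have := (irr_pair h.ea ⁅F, A⁆ (((h.commutator_le hAH).trans h.le).trans h.norm) h₁ h₂
    (isSubnormal_of_isNilpotent _) (isSubnormal_of_isNilpotent _) d₁ d₂
    (by rw [e₁, e₂]; exact fun k => hne (Subgroup.eq_of_le_of_card_ge k (by rw [c₁, c₂])))
    (by rw [e₁, e₂]; exact fun k => hne (Subgroup.eq_of_le_of_card_ge k (by rw [c₁, c₂])).symm)).1
  rw [e₁, e₂] at this
  exact hA.commutator_ne_bot h.ea (le_bot_iff.1 (this ▸ le_inf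
    (Subgroup.commutator_mono le_rfl le_sup_left) (Subgroup.commutator_mono le_rfl le_sup_left)))

theorem inf_centralizer_eq_bot (h : Hyp p V H F) {Q W : Subgroup G} (hQ : Q ≤ F)
    (hW : ⁅V, Q⁆ ≤ W) : Q ⊓ Subgroup.centralizer (W : Set G) = ⊥ := by
  have hH : Q ⊓ Subgroup.centralizer (W : Set G) ≤ H := inf_le_left.trans (hQ.trans h.le)
  refine h.eq_bot_of_commutator hH (coprime_commutator_eq_bot (hH.trans h.norm)
    (coprime_card_of_isPGroup (EA.isPGroup h.ea) (h.cop.coprime_dvd_left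
      (Subgroup.card_dvd_of_le (inf_le_left.trans hQ)))).symm
    (Or.inr (isSolvable_of_isPGroup (EA.isPGroup h.ea))) ?_)
  rw [Subgroup.commutator_eq_bot_iff_le_centralizer, Subgroup.le_centralizer_iff]
  exact inf_le_right.trans (EA.centralizer_anti
    ((Subgroup.commutator_mono le_rfl inf_le_left).trans hW))

theorem card_le_of_le_pGenNorm (h : Hyp p V H F) {Q W : Subgroup G} (hQ : Q ≤ F)
    (hW : ⁅V, Q⁆ ≤ W) (hWV : W ≤ V) (hc : Nat.card W = p ^ 2) (hQW : Q ≤ pGenNorm p W) :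
    Nat.card Q ≤ (p - 1) * (p + 1) := by
  have h2 := hp.out.two_le
  refine Nat.le_of_dvd (Nat.mul_pos (by omega) (by omega)) ?_
  exact (h.cop.coprime_dvd_left (Subgroup.card_dvd_of_le hQ)).dvd_of_dvd_mul_left
    (card_dvd_of_le_pGenNorm (EA.mono h.ea hWV) hc hQW (h.inf_centralizer_eq_bot hQ hW))

theorem commutator_eq_inf (h : Hyp p V H F) (hAH : A ≤ H) (hA : TV p V A) {x : G}
    (hx : x ∈ F) (hxA : x ∉ Subgroup.centralizer (A : Set G)) :
    (A ⊔ MulAut.conj x • A) ⊓ F = ⁅F, A⁆ := by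
  have d := h.sl2Data_conj hAH hA hx hxA
  have key : ∀ y ∈ F, ⁅V, A ⊔ MulAut.conj y • A⁆ ≤ ⁅V, A ⊔ MulAut.conj x • A⁆ := by
    intro y hy
    by_cases hyA : y ∈ Subgroup.centralizer (A : Set G)
    · rw [conj_smul_eq_of_mem_centralizer hyA, sup_idem]
      exact Subgroup.commutator_mono le_rfl le_sup_left
    · exact (h.commutator_conj_eq hAH hA hy hyA hx hxA).le
  refine Subgroup.eq_of_le_of_card_ge (h.inf_le_of_le_sup hA (h.commutator_le hAH)
      (Subgroup.normalizer_commutator_ge_right _ _) (sup_conj_le hx)) ?_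
  rw [h.card_conj_inf hAH hA hx hxA]
  refine h.card_le_of_le_pGenNorm (h.commutator_le hAH) ?_ d.comm_le d.card_comm
    (commutator_le_pGenNorm hA.ea fun y hy => Offender.le_normalizer_of_commutator_le
      ((Subgroup.commutator_mono le_rfl le_sup_right).trans (key y hy)) d.comm_le)
  rw [Subgroup.commutator_def F A]
  refine Offender.commutator_closure_right_le d.comm_le
    (Subgroup.normalizer_commutator_ge_left _ _) ?_ ?_
  · rintro _ ⟨y, hy, a, ha, rfl⟩
    exact h.norm (h.le (h.commutator_le hAH (Subgroup.commutator_mem_commutator hy ha)))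
  · rintro v hv _ ⟨y, hy, a, ha, rfl⟩
    exact key y hy (Subgroup.commutator_mem_commutator hv (commutatorElement_mem_sup_conj y ha))

theorem sup_conj_eq (h : Hyp p V H F) (hAH : A ≤ H) (hA : TV p V A) {x : G}
    (hx : x ∈ F) (hxA : x ∉ Subgroup.centralizer (A : Set G)) :
    A ⊔ MulAut.conj x • A = ⁅F, A⁆ ⊔ A :=
  le_antisymm (sup_conj_le hx)
    (sup_le (h.commutator_eq_inf hAH hA hx hxA ▸ inf_le_left) le_sup_left)

theorem sl2Data (h : Hyp p V H F) (hAH : A ≤ H) (hA : TV p V A) : SL2Data p V (⁅F, A⁆ ⊔ A) := by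
  obtain ⟨x, hx, hxA⟩ := h.exists_not_mem_centralizer hAH hA
  exact h.sup_conj_eq hAH hA hx hxA ▸ h.sl2Data_conj hAH hA hx hxA

theorem card_commutator (h : Hyp p V H F) (hAH : A ≤ H) (hA : TV p V A) :
    Nat.card (⁅F, A⁆ : Subgroup G) = (p - 1) * (p + 1) := by
  obtain ⟨x, hx, hxA⟩ := h.exists_not_mem_centralizer hAH hA
  rw [← h.commutator_eq_inf hAH hA hx hxA, h.card_conj_inf hAH hA hx hxA]

end Hyp

/-- The `SL(2, p)` factors `[F, A] A`, together with their normal `p`-complements `[F, A]`. -/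
structure IsFactor (p : ℕ) [Fact p.Prime] (V H F E Q : Subgroup G) : Prop where
  le : E ≤ H
  data : SL2Data p V E
  normF : F ≤ Subgroup.normalizer (E : Set G)
  coreLe : Q ≤ E
  coreLeF : Q ≤ F
  normQ : E ≤ Subgroup.normalizer (Q : Set G)
  card : Nat.card Q = (p - 1) * (p + 1)
  gen : ∀ W : Subgroup G, E ≤ Subgroup.normalizer (W : Set G) → E ≤ pGenNorm p W

section
variable [Finite G] [hp : Fact p.Prime] {V H F E Q E' Q' A : Subgroup G}

theorem Hyp.isFactor (h : Hyp p V H F) (hAH : A ≤ H) (hA : TV p V A) :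
    IsFactor p V H F (⁅F, A⁆ ⊔ A) ⁅F, A⁆ := by
  refine ⟨sup_le ((h.commutator_le hAH).trans h.le) hAH, h.sl2Data hAH hA,
    le_normalizer_commutator_sup F A, le_sup_left, h.commutator_le hAH,
    sup_le Subgroup.le_normalizer (Subgroup.normalizer_commutator_ge_right _ _),
    h.card_commutator hAH hA, fun W hW => sup_le (commutator_le_pGenNorm hA.ea fun x hx => ?_)
      (le_pGenNorm hA.ea (le_sup_right.trans hW))⟩
  exact (le_sup_right.trans (sup_conj_le hx)).trans hW

theorem IsFactor.irrData (d : IsFactor p V H F E Q) (hV : IsElementaryAbelian p V) :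
    IrrData p V Q := d.data.irrData_of_normal hV d.coreLe d.normQ d.card

theorem IsFactor.commutator_core (d : IsFactor p V H F E Q) (hV : IsElementaryAbelian p V) :
    ⁅V, Q⁆ = ⁅V, E⁆ := d.data.commutator_eq_of_normal d.coreLe d.normQ (d.irrData hV).ne_bot

theorem IsFactor.centralizer_core (d : IsFactor p V H F E Q) (hV : IsElementaryAbelian p V) :
    V ⊓ Subgroup.centralizer (Q : Set G) = V ⊓ Subgroup.centralizer (E : Set G) :=
  d.data.centralizer_eq_of_normal hV d.coreLe d.normQ (d.irrData hV).ne_bot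

theorem IsFactor.eq_of_commutator_eq (h : Hyp p V H F) (d : IsFactor p V H F E Q)
    (d' : IsFactor p V H F E' Q') (e : ⁅V, E⁆ = ⁅V, E'⁆) : E = E' := by
  have g : E ≤ pGenNorm p ⁅V, E⁆ := d.gen _ (Subgroup.normalizer_commutator_ge_right _ _)
  have g' : E' ≤ pGenNorm p ⁅V, E⁆ := d'.gen _ (e ▸ Subgroup.normalizer_commutator_ge_right _ _)
  have hQ : Nat.card (Q ⊔ Q' : Subgroup G) ≤ (p - 1) * (p + 1) := by
    refine h.card_le_of_le_pGenNorm (sup_le d.coreLeF d'.coreLeF) ?_ d.data.comm_le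
      d.data.card_comm (sup_le (d.coreLe.trans g) (d'.coreLe.trans g'))
    rw [Offender.commutator_sup_right (d.coreLe.trans d.data.norm) (d'.coreLe.trans d'.data.norm),
      d.commutator_core h.ea, d'.commutator_core h.ea, ← e, sup_idem]
  have hQQ : Q = Q' :=
    (Subgroup.eq_of_le_of_card_ge le_sup_left (d.card ▸ hQ)).trans
      (Subgroup.eq_of_le_of_card_ge le_sup_right (d'.card ▸ hQ)).symm
  have hC : V ⊓ Subgroup.centralizer (E : Set G) = V ⊓ Subgroup.centralizer (E' : Set G) := by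
    rw [← d.centralizer_core h.ea, ← d'.centralizer_core h.ea, hQQ]
  have hL : Nat.card (E ⊔ E' : Subgroup G) ≤ p * ((p - 1) * (p + 1)) := by
    refine Nat.le_of_dvd (d.data.card ▸ Nat.card_pos) (card_dvd_of_le_pGenNorm
      (EA.mono h.ea d.data.comm_le) d.data.card_comm (sup_le g g') ?_)
    refine h.eq_bot (inf_le_left.trans (sup_le d.le d'.le)) ?_
    nth_rewrite 2 [← d.data.sup_eq]
    rw [EA.centralizer_sup]
    refine le_inf inf_le_right (inf_le_left.trans (sup_le ?_ ?_))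
    · exact Subgroup.le_centralizer_iff.1 inf_le_right
    · rw [hC]
      exact Subgroup.le_centralizer_iff.1 inf_le_right
  exact (Subgroup.eq_of_le_of_card_ge le_sup_left (d.data.card ▸ hL)).trans
    (Subgroup.eq_of_le_of_card_ge le_sup_right (d'.data.card ▸ hL)).symm

theorem IsFactor.commutator_le_centralizer (h : Hyp p V H F) (d : IsFactor p V H F E Q)
    (d' : IsFactor p V H F E' Q') (hne : E ≠ E') :
    ⁅V, E⁆ ≤ Subgroup.centralizer (E' : Set G) := by
  have n : F ≤ Subgroup.normalizer ((⁅V, E⁆ : Subgroup G) : Set G) :=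
    EA.le_normalizer_commutator (h.le.trans h.norm) d.normF
  have n' : F ≤ Subgroup.normalizer ((⁅V, E'⁆ : Subgroup G) : Set G) :=
    EA.le_normalizer_commutator (h.le.trans h.norm) d'.normF
  have h0 : ⁅V, E⁆ ⊓ ⁅V, E'⁆ = ⊥ := by
    have := (d.irrData h.ea).irr (⁅V, E⁆ ⊓ ⁅V, E'⁆) (d.commutator_core h.ea ▸ inf_le_left)
      (d.coreLeF.trans (EA.le_normalizer_inf n n'))
    refine this.resolve_right fun k => hne (d.eq_of_commutator_eq h d' ?_)
    rw [d.commutator_core h.ea] at k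
    exact Subgroup.eq_of_le_of_card_ge (inf_eq_left.1 k)
      (by rw [d.data.card_comm, d'.data.card_comm])
  have h1 : ⁅V, E⁆ ≤ V ⊓ Subgroup.centralizer (Q' : Set G) := by
    refine le_inf d.data.comm_le ?_
    rw [← Subgroup.commutator_eq_bot_iff_le_centralizer, eq_bot_iff, ← h0]
    exact le_inf (Offender.commutator_le (d'.coreLeF.trans n) le_rfl)
      (Subgroup.commutator_mono d.data.comm_le d'.coreLe)
  rw [d'.centralizer_core h.ea] at h1
  exact h1.trans inf_le_right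

theorem IsFactor.le_centralizer (h : Hyp p V H F) (d : IsFactor p V H F E Q)
    (d' : IsFactor p V H F E' Q') (hne : E ≠ E') : E ≤ Subgroup.centralizer (E' : Set G) := by
  rw [← Subgroup.commutator_eq_bot_iff_le_centralizer]
  refine h.eq_bot ((Subgroup.commutator_mono d.le d'.le).trans (Subgroup.commutator_le_self H))
    (commutator_le_centralizer_of_cross ?_ ?_)
  · exact Subgroup.commutator_eq_bot_iff_le_centralizer.2 (d.commutator_le_centralizer h d' hne)
  · exact Subgroup.commutator_eq_bot_iff_le_centralizer.2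
      (d'.commutator_le_centralizer h d hne.symm)

end

end CL.FF
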