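import Cfsg.Agent.Base
import Cfsg.Agent.PLocal.FFStruct

/-!
Structure theorem for failure of factorization: the direct decomposition.
-/

set_option autoImplicit false

namespace CL.FF

open Cfsg
open scoped Pointwise commutatorElement MatrixGroups

variable {G : Type*} [Group G] {p : ℕ}

/-- `E = [F, A] A` for a transvection subgroup `A` of `H`. -/
def Factor (p : ℕ) (V H F E : Subgroup G) : Prop :=
  ∃ A ≤ H, TV p V A ∧ E = ⁅F, A⁆ ⊔ A

theorem Factor.conj {V H F E : Subgroup G} (d : Factor p V H F E) {g : G}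
    (hV : g ∈ Subgroup.normalizer (V : Set G)) (hH : g ∈ Subgroup.normalizer (H : Set G))
    (hF : g ∈ Subgroup.normalizer (F : Set G)) : Factor p V H F (MulAut.conj g • E) := by
  obtain ⟨A, hAH, hA, rfl⟩ := d
  refine ⟨_, conj_smul_le_of_mem_normalizer hAH hH, hA.conj hV, ?_⟩
  rw [Subgroup.smul_sup, conj_smul_commutator, mem_normalizer_iff_conj_smul_eq.1 hF]

/-- The hypotheses of the structure theorem. -/
structure GHyp (p : ℕ) (V H F : Subgroup G) : Prop extends Hyp p V H F where
  gen : ∀ K : Subgroup G, (∀ A ≤ H, IsBestOffenderOn p V A → A ≤ K) → H ≤ K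

theorem ghyp_of_pPrimeCore [Finite G] {V H : Subgroup G} (hV : IsElementaryAbelian p V)
    (hHV : H ≤ Subgroup.normalizer (V : Set G)) (hf : H ⊓ Subgroup.centralizer (V : Set G) = ⊥)
    (hS1 : Subgroup.centralizer (pPrimeCore p H : Set H) ≤ pPrimeCore p H)
    (hS3 : H = ⨆ A : {A : Subgroup G // A ≤ H ∧ IsBestOffenderOn p V A}, (A : Subgroup G)) :
    GHyp p V H ((pPrimeCore p H).map H.subtype) :=
  ⟨hyp_of_pPrimeCore hV hHV hf hS1, fun _ hK =>
    hS3.le.trans (iSup_le fun A => hK A.1 A.2.1 A.2.2)⟩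

variable [Finite G] [hp : Fact p.Prime] {V H F E E' : Subgroup G}

namespace Hyp

theorem exists_isFactor (h : Hyp p V H F) (d : Factor p V H F E) :
    ∃ Q, IsFactor p V H F E Q := by
  obtain ⟨A, hAH, hA, rfl⟩ := d
  exact ⟨_, h.isFactor hAH hA⟩

theorem factor_le (h : Hyp p V H F) (d : Factor p V H F E) : E ≤ H :=
  (h.exists_isFactor d).elim fun _ k => k.le

theorem factor_data (h : Hyp p V H F) (d : Factor p V H F E) : SL2Data p V E :=
  (h.exists_isFactor d).elim fun _ k => k.data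

theorem factor_commutator_le (h : Hyp p V H F) (d : Factor p V H F E) (d' : Factor p V H F E')
    (hne : E ≠ E') : ⁅V, E⁆ ≤ Subgroup.centralizer (E' : Set G) := by
  obtain ⟨Q, k⟩ := h.exists_isFactor d
  obtain ⟨Q', k'⟩ := h.exists_isFactor d'
  exact k.commutator_le_centralizer h k' hne

theorem factor_le_centralizer (h : Hyp p V H F) (d : Factor p V H F E) (d' : Factor p V H F E')
    (hne : E ≠ E') : E ≤ Subgroup.centralizer (E' : Set G) := by
  obtain ⟨Q, k⟩ := h.exists_isFactor d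
  obtain ⟨Q', k'⟩ := h.exists_isFactor d'
  exact k.le_centralizer h k' hne

theorem factor_iff (h : Hyp p V H F) : (∃ A : Subgroup G, A ≤ H ∧ IsBestOffenderOn p V A ∧
    ⁅V, A⁆ ≠ ⊥ ∧ (∀ B : Subgroup G, B ≤ A → IsBestOffenderOn p V B → ⁅V, B⁆ ≠ ⊥ → B = A) ∧
      E = ⁅F, A⁆ ⊔ A) ↔ Factor p V H F E := by
  constructor
  · rintro ⟨A, hAH, h1, h2, h3, h4⟩
    exact ⟨A, hAH, h.tv_of_min hAH h1 h2 h3, h4⟩
  · rintro ⟨A, hAH, hA, h4⟩
    obtain ⟨h1, h2, h3⟩ := (h.min_iff_tv hAH).2 hA
    exact ⟨A, hAH, h1, h2, h3, h4⟩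

theorem factor_two_or_three (h : Hyp p V H F) (d : Factor p V H F E) : p = 2 ∨ p = 3 := by
  obtain ⟨A, hAH, hA, -⟩ := d
  exact h.two_or_three hAH hA

end Hyp

namespace GHyp

theorem le_of_forall_factor (h : GHyp p V H F) {K : Subgroup G}
    (hK : ∀ E, Factor p V H F E → E ≤ K) : H ≤ K :=
  h.gen K fun _ hAH hA => h.toHyp.le_of_forall_tv hAH hA fun B hB hB' =>
    le_sup_right.trans (hK _ ⟨B, hB.trans hAH, hB', rfl⟩)

theorem exists_factor (h : GHyp p V H F) (hH : H ≠ ⊥) : ∃ E, Factor p V H F E := by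
  by_contra! hcon
  exact hH (le_bot_iff.1 (h.le_of_forall_factor fun E hE => (hcon E hE).elim))

theorem le_normalizer_factor (h : GHyp p V H F) (d : Factor p V H F E) :
    H ≤ Subgroup.normalizer (E : Set G) := by
  refine h.le_of_forall_factor fun E' d' => ?_
  by_cases hne : E' = E
  · rw [hne]
    exact Subgroup.le_normalizer
  · exact EA.le_normalizer_of_le_centralizer (h.toHyp.factor_le_centralizer d' d hne)

theorem le_normalizer_commutator (h : GHyp p V H F) (d : Factor p V H F E) :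
    H ≤ Subgroup.normalizer ((⁅V, E⁆ : Subgroup G) : Set G) :=
  EA.le_normalizer_commutator h.norm (h.le_normalizer_factor d)

theorem sup_inf_centralizer (h : GHyp p V H F) (d : Factor p V H F E) :
    E ⊔ (H ⊓ Subgroup.centralizer ((⁅V, E⁆ : Subgroup G) : Set G)) = H := by
  refine le_antisymm (sup_le (h.toHyp.factor_le d) inf_le_left)
    (h.le_of_forall_factor fun E' d' => ?_)
  by_cases hne : E = E'
  · rw [hne]
    exact le_sup_left
  · exact le_sup_of_le_right (le_inf (h.toHyp.factor_le d')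
      (Subgroup.le_centralizer_iff.1 (h.toHyp.factor_commutator_le d d' hne)))

theorem commutator_inf_centralizer (h : GHyp p V H F) (d : Factor p V H F E) :
    ⁅E, H ⊓ Subgroup.centralizer ((⁅V, E⁆ : Subgroup G) : Set G)⁆ = ⊥ := by
  refine (h.toHyp.factor_data d).eq_bot
    (Offender.commutator_le (inf_le_left.trans (h.le_normalizer_factor d)) le_rfl) ?_
  rw [Subgroup.commutator_comm]
  exact Offender.commutator_le (EA.le_normalizer_centralizer
    (Subgroup.normalizer_commutator_ge_right _ _)) inf_le_right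

theorem commutator_inf_centralizer_le (h : GHyp p V H F) (d : Factor p V H F E) :
    ⁅V, H ⊓ Subgroup.centralizer ((⁅V, E⁆ : Subgroup G) : Set G)⁆ ≤
      V ⊓ Subgroup.centralizer (E : Set G) := by
  have k := h.toHyp.factor_data d
  nth_rewrite 1 [← k.sup_eq]
  rw [Offender.commutator_sup_left (EA.iff.1 h.ea).1 (inf_le_left.trans h.norm) k.comm_le
    inf_le_left, Subgroup.commutator_eq_bot_iff_le_centralizer.2
      (Subgroup.le_centralizer_iff.1 inf_le_right), bot_sup_eq]
  exact Offender.commutator_le (inf_le_left.trans (EA.le_normalizer_inf h.norm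
    (EA.le_normalizer_centralizer (h.le_normalizer_factor d)))) le_rfl

/-- `V = C_V(H) × [V, H]`, and `[V, H]` is generated by the planes `[V, E]`. -/
theorem decomposition (h : GHyp p V H F) {W : Subgroup G}
    (hW : ∀ K : Subgroup G, W ≤ K ↔ ∀ E, Factor p V H F E → ⁅V, E⁆ ≤ K) :
    (V ⊓ Subgroup.centralizer (H : Set G)) ⊓ W = ⊥ ∧
      (V ⊓ Subgroup.centralizer (H : Set G)) ⊔ W = V := by
  have := h.ea.1
  choose Q hQ using fun E : {E // Factor p V H F E} => h.toHyp.exists_isFactor E.2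
  have hQF : ⨆ E, Q E ≤ F := iSup_le fun E => (hQ E).coreLeF
  have hQV : ⨆ E, Q E ≤ Subgroup.normalizer (V : Set G) := (hQF.trans h.le).trans h.norm
  have hcop : (Nat.card (⨆ E, Q E : Subgroup G)).Coprime (Nat.card V) :=
    (coprime_card_of_isPGroup (EA.isPGroup h.ea)
      (h.cop.coprime_dvd_left (Subgroup.card_dvd_of_le hQF))).symm
  have h1 : ⁅V, ⨆ E, Q E⁆ = W := by
    rw [Offender.commutator_iSup_right fun E => (le_iSup Q E).trans hQV]
    refine le_antisymm (iSup_le fun E => ?_) ((hW _).2 fun E hE => ?_)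
    · rw [(hQ E).commutator_core h.ea]
      exact (hW W).1 le_rfl _ E.2
    · refine le_iSup_of_le ⟨E, hE⟩ ?_
      rw [(hQ ⟨E, hE⟩).commutator_core h.ea]
  have h2 : V ⊓ Subgroup.centralizer ((⨆ E, Q E : Subgroup G) : Set G) =
      V ⊓ Subgroup.centralizer (H : Set G) := by
    refine le_antisymm (le_inf inf_le_left ?_)
      (inf_le_inf_left _ (EA.centralizer_anti (hQF.trans h.le)))
    rw [Subgroup.le_centralizer_iff]
    refine h.le_of_forall_factor fun E hE => Subgroup.le_centralizer_iff.1 ?_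
    refine (inf_le_inf_left _ (EA.centralizer_anti (le_iSup Q ⟨E, hE⟩))).trans ?_
    rw [(hQ ⟨E, hE⟩).centralizer_core h.ea]
    exact inf_le_right
  rw [← h1, ← h2]
  exact ⟨coprime_centralizer_inf_commutator hQV hcop, coprime_centralizer_sup_commutator hQV hcop⟩

end GHyp

end CL.FF
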