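import Cfsg.Agent.Base
import Cfsg.Agent.PLocal.FFMain

/-!
Coprime action on a faithful group with failure of factorization.
-/

set_option autoImplicit false

namespace CL.FF

open Cfsg
open scoped Pointwise commutatorElement MatrixGroups

variable {G : Type*} [Group G] {p : ℕ}

open scoped IsMulCommutative in
/-- The norm map of `X` on an abelian `X`-invariant subgroup `B`. -/
theorem exists_norm [Finite G] {X B : Subgroup G} [IsMulCommutative B]
    (hXB : X ≤ Subgroup.normalizer (B : Set G)) :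
    ∃ ν : B →* G, (∀ b, ν b ∈ B ⊓ Subgroup.centralizer (X : Set G)) ∧
      (∀ g ∈ Subgroup.centralizer (X : Set G), g ∈ Subgroup.normalizer (B : Set G) →
        ∀ b b' : B, (b' : G) = g * b * g⁻¹ → ν b' = g * ν b * g⁻¹) ∧
      ∀ (b : B) (Y C : Subgroup G), (∀ x ∈ X, x ∈ Y → x * b * x⁻¹ = b) →
        (∀ x ∈ X, x ∉ Y → x * b * x⁻¹ ∈ C) →
        ∃ c ∈ C, ν b = (b : G) ^ Nat.card (Y ⊓ X : Subgroup G) * c := by
  classical
  have := Fintype.ofFinite X
  let φ : B →* B := ∏ a : X, conjOn hXB a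
  have hφ : ∀ v, φ v = ∏ a : X, conjOn hXB a v := fun v => MonoidHom.finsetProd_apply _ _ _
  refine ⟨B.subtype.comp φ, fun b => ⟨(φ b).2, ?_⟩, fun g hg hgB b b' hb => ?_,
    fun b Y C hY hC => ?_⟩
  · change (φ b : G) ∈ Subgroup.centralizer (X : Set G)
    rw [Subgroup.mem_centralizer_iff]
    intro x hx
    have h1 : conjOn hXB ⟨x, hx⟩ (φ b) = φ b := by
      rw [hφ, map_prod]
      simp only [← conjOn_mul]
      exact Fintype.prod_equiv (Equiv.mulLeft (⟨x, hx⟩ : X)) _ _ (fun _ => rfl)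
    exact mul_inv_eq_iff_eq_mul.1 (congrArg Subtype.val h1)
  · have h1 : φ b' = conjOn (le_rfl : Subgroup.normalizer (B : Set G) ≤ _) ⟨g, hgB⟩ (φ b) := by
      rw [hφ, hφ, map_prod]
      refine Finset.prod_congr rfl fun x _ => Subtype.ext ?_
      have h2 : (x : G) * g = g * x := Subgroup.mem_centralizer_iff.1 hg x x.2
      rw [coe_conjOn, coe_conjOn, coe_conjOn, hb]
      calc (x : G) * (g * b * g⁻¹) * (x : G)⁻¹ = (x * g) * b * (x * g)⁻¹ := by group
        _ = _ := by rw [h2]; group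
    exact congrArg Subtype.val h1
  · refine ⟨(∏ a ∈ Finset.univ.filter (fun a : X => ¬ (a : G) ∈ Y), conjOn hXB a b : B), ?_, ?_⟩
    · change _ ∈ C.subgroupOf B
      exact Subgroup.prod_mem _ fun a ha => hC a a.2 (Finset.mem_filter.1 ha).2
    · have h1 : φ b = b ^ Nat.card (Y ⊓ X : Subgroup G) *
          ∏ a ∈ Finset.univ.filter (fun a : X => ¬ (a : G) ∈ Y), conjOn hXB a b := by
        rw [hφ, ← Finset.prod_filter_mul_prod_filter_not Finset.univ (fun a : X => (a : G) ∈ Y),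
          Finset.prod_congr rfl (g := fun _ => b)
            fun (a : X) ha => Subtype.ext (hY a a.2 (Finset.mem_filter.1 ha).2), Finset.prod_const,
          ← EA.card_subgroupOf, Nat.card_eq_fintype_card, Fintype.card_subtype]
        rfl
      exact congrArg Subtype.val h1

theorem normalizer_le_normalizer_map_subtype (H : Subgroup G) (K : Subgroup H)
    [hK : K.Characteristic] : Subgroup.normalizer (H : Set G) ≤
      Subgroup.normalizer ((K.map H.subtype : Subgroup G) : Set G) := by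
  rw [Subgroup.le_normalizer_iff]
  rintro g hg _ ⟨k, hk, rfl⟩
  exact ⟨H.normalizerMonoidHom ⟨g, hg⟩ k,
    (Subgroup.characteristic_iff_map_le.1 hK _) ⟨k, hk, rfl⟩, rfl⟩

/-- `X` acts coprimely on the configuration. -/
structure CopAct (V H F X : Subgroup G) : Prop where
  normV : X ≤ Subgroup.normalizer (V : Set G)
  normH : X ≤ Subgroup.normalizer (H : Set G)
  normF : X ≤ Subgroup.normalizer (F : Set G)
  cop : (Nat.card X).Coprime (Nat.card H)

namespace GHyp

variable [Finite G] [hp : Fact p.Prime] {V H F E X : Subgroup G}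

theorem exists_hom (h : GHyp p V H F) (d : Factor p V H F E) :
    ∃ φ : H →* SL(2, ZMod p), Function.Surjective φ ∧
      ∀ g, φ g = 1 ↔ (g : G) ∈ Subgroup.centralizer ((⁅V, E⁆ : Subgroup G) : Set G) := by
  have k := h.toHyp.factor_data d
  have hH : H ≤ pGenNorm p ⁅V, E⁆ := h.le_of_forall_factor fun E' d' =>
    (h.toHyp.exists_isFactor d').elim fun _ k' =>
      k'.gen _ (k'.le.trans (h.le_normalizer_commutator d))
  obtain ⟨φ, hφ⟩ := Plane.exists_hom_SL2 (EA.mono h.ea k.comm_le) k.card_comm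
    (s := {g | g ∈ Subgroup.normalizer ((⁅V, E⁆ : Subgroup G) : Set G) ∧ g ^ p = 1})
    ((Subgroup.closure_le _).2 fun _ h => h.1) fun g hg => ⟨1, by rw [pow_one]; exact hg.2⟩
  refine ⟨φ.comp (Subgroup.inclusion hH), ?_, fun g => hφ _⟩
  have hinj : Function.Injective
      ((φ.comp (Subgroup.inclusion hH)).comp (Subgroup.inclusion (h.toHyp.factor_le d))) := by
    rw [injective_iff_map_eq_one]
    intro g hg
    have : (g : G) ∈ E ⊓ Subgroup.centralizer ((⁅V, E⁆ : Subgroup G) : Set G) :=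
      ⟨g.2, (hφ _).1 hg⟩
    rw [k.faithful, Subgroup.mem_bot] at this
    exact Subtype.ext this
  exact Function.Surjective.of_comp
    (hinj.bijective_of_nat_card_le (by rw [k.card, card_SL2])).2

theorem inf_centralizer_le (h : GHyp p V H F) (d : Factor p V H F E) :
    H ⊓ Subgroup.centralizer ((⁅V, E⁆ : Subgroup G) : Set G) ≤
      Subgroup.centralizer (E : Set G) :=
  Subgroup.le_centralizer_iff.1
    (Subgroup.commutator_eq_bot_iff_le_centralizer.1 (h.commutator_inf_centralizer d))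

theorem coprime_factor (h : GHyp p V H F) (d : Factor p V H F E) (a : CopAct V H F X)
    {Y : Subgroup G} (hY : Y ≤ X) : (Nat.card Y).Coprime (Nat.card E) :=
  coprime_card_of_le hY (h.toHyp.factor_le d) a.cop

theorem stab_le_centralizer (h : GHyp p V H F) (d : Factor p V H F E) (a : CopAct V H F X) :
    Subgroup.normalizer (E : Set G) ⊓ X ≤
      Subgroup.centralizer ((⁅V, E⁆ : Subgroup G) : Set G) := by
  have k := h.toHyp.factor_data d
  refine Plane.le_centralizer_of_coprime (EA.mono h.ea k.comm_le) k.card_comm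
    (EA.le_normalizer_commutator (inf_le_right.trans a.normV) inf_le_left) ?_
  have h1 := h.coprime_factor d a (inf_le_right : Subgroup.normalizer (E : Set G) ⊓ X ≤ X)
  rw [k.card] at h1
  refine (h1.mul_right h1).coprime_dvd_right ?_
  obtain ⟨m, hm⟩ : ∃ m, p = m + 1 := ⟨p - 1, (Nat.sub_add_cancel hp.out.one_le).symm⟩
  have e1 : p ^ 2 - 1 = (p - 1) * (p + 1) := by
    rw [hm, Nat.add_sub_cancel]
    exact Nat.sub_eq_of_eq_add (by ring)
  have e2 : p ^ 2 - p = p * (p - 1) := by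
    rw [hm, Nat.add_sub_cancel]
    exact Nat.sub_eq_of_eq_add (by ring)
  rw [e1, e2]
  exact ⟨p * (p + 1), by ring⟩

theorem stab_le_centralizer' (h : GHyp p V H F) (d : Factor p V H F E) (a : CopAct V H F X) :
    Subgroup.normalizer (E : Set G) ⊓ X ≤ Subgroup.centralizer (E : Set G) := by
  rw [Subgroup.le_centralizer_iff, ← Subgroup.commutator_eq_bot_iff_le_centralizer]
  refine (h.toHyp.factor_data d).eq_bot (Offender.commutator_le inf_le_left le_rfl) ?_
  rw [Subgroup.commutator_comm]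
  exact Offender.commutator_le (EA.le_normalizer_centralizer
    (Subgroup.normalizer_commutator_ge_right _ _)) (h.stab_le_centralizer d a)

omit [Finite G] hp in
theorem factor_conj (d : Factor p V H F E) (a : CopAct V H F X) {x : G} (hx : x ∈ X) :
    Factor p V H F (MulAut.conj x • E) := d.conj (a.normV hx) (a.normH hx) (a.normF hx)

theorem exists_fixed (h : GHyp p V H F) (d : Factor p V H F E) (a : CopAct V H F X) {g : G}
    (hg : g ∈ H) : ∃ y ∈ H ⊓ Subgroup.centralizer (X : Set G),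
      ∃ c ∈ H ⊓ Subgroup.centralizer ((⁅V, E⁆ : Subgroup G) : Set G), g = y * c := by
  obtain ⟨e, he, c₀, hc₀, rfl⟩ := (EA.mem_sup_of_le_normalizer'
    (inf_le_left.trans (h.le_normalizer_factor d))).1 ((h.sup_inf_centralizer d).ge hg)
  obtain ⟨⟨e₁, he₁⟩, hpow⟩ := (powCoprime (h.coprime_factor d a
    (inf_le_right : Subgroup.normalizer (E : Set G) ⊓ X ≤ X)).symm).surjective ⟨e, he⟩
  have hpow' : e₁ ^ Nat.card (Subgroup.normalizer (E : Set G) ⊓ X : Subgroup G) = e :=
    congrArg Subtype.val hpow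
  have hfix : ∀ x ∈ X, x ∈ Subgroup.normalizer (E : Set G) → x * e₁ * x⁻¹ = e₁ := fun x hx hxE =>
    mul_inv_eq_iff_eq_mul.2
      (Subgroup.mem_centralizer_iff.1 (h.stab_le_centralizer' d a ⟨hxE, hx⟩) e₁ he₁).symm
  have hout : ∀ x ∈ X, x ∉ Subgroup.normalizer (E : Set G) →
      x * e₁ * x⁻¹ ∈ H ⊓ Subgroup.centralizer ((⁅V, E⁆ : Subgroup G) : Set G) := fun x hx hxE =>
    le_inf (h.toHyp.factor_le (factor_conj d a hx)) (Subgroup.le_centralizer_iff.1
      (h.toHyp.factor_commutator_le d (factor_conj d a hx)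
        fun k => hxE (mem_normalizer_iff_conj_smul_eq.2 k.symm))) (conj_mem_conj_smul x he₁)
  have hcomm : ∀ x ∈ X, e₁ * (x * e₁ * x⁻¹) = (x * e₁ * x⁻¹) * e₁ := fun x hx => by
    by_cases hxE : x ∈ Subgroup.normalizer (E : Set G)
    · rw [hfix x hx hxE]
    · exact Subgroup.mem_centralizer_iff.1 (h.inf_centralizer_le d (hout x hx hxE)) e₁ he₁
  set B := Subgroup.closure {z | ∃ x ∈ X, x * e₁ * x⁻¹ = z} with hB
  have : IsMulCommutative B := by
    refine Subgroup.isMulCommutative_closure ?_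
    rintro _ ⟨x, hx, rfl⟩ _ ⟨y, hy, rfl⟩
    have := hcomm (x⁻¹ * y) (X.mul_mem (X.inv_mem hx) hy)
    calc x * e₁ * x⁻¹ * (y * e₁ * y⁻¹) = x * (e₁ * (x⁻¹ * y * e₁ * (x⁻¹ * y)⁻¹)) * x⁻¹ := by group
      _ = _ := by rw [this]; group
  have hXB : X ≤ Subgroup.normalizer (B : Set G) := by
    rw [Subgroup.le_normalizer_iff]
    intro x hx
    change B ≤ B.comap (MulAut.conj x).toMonoidHom
    rw [hB, Subgroup.closure_le]
    rintro _ ⟨y, hy, rfl⟩
    exact Subgroup.subset_closure ⟨x * y, X.mul_mem hx hy, by simp [mul_assoc]⟩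
  have hBH : B ≤ H := by
    rw [hB, Subgroup.closure_le]
    rintro _ ⟨y, hy, rfl⟩
    exact Offender.conj_mem a.normH hy (h.toHyp.factor_le d he₁)
  obtain ⟨ν, h1, -, h3⟩ := exists_norm hXB
  obtain ⟨c, hc, hν⟩ := h3 ⟨e₁, Subgroup.subset_closure ⟨1, X.one_mem, by simp⟩⟩ _ _ hfix hout
  have h4 := h1 ⟨e₁, Subgroup.subset_closure ⟨1, X.one_mem, by simp⟩⟩
  refine ⟨_, ⟨hBH h4.1, h4.2⟩, c⁻¹ * c₀, Subgroup.mul_mem _ (Subgroup.inv_mem _ hc) hc₀, ?_⟩
  rw [hν, hpow', mul_assoc, mul_inv_cancel_left]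

theorem exists_plane (h : GHyp p V H F) (d : Factor p V H F E) (a : CopAct V H F X) :
    ∃ W ≤ V ⊓ Subgroup.centralizer (X : Set G), Nat.card W = p ^ 2 ∧
      H ⊓ Subgroup.centralizer (X : Set G) ≤ Subgroup.normalizer (W : Set G) ∧
      ∀ y ∈ H ⊓ Subgroup.centralizer (X : Set G), y ∈ Subgroup.centralizer (W : Set G) ↔
        y ∈ Subgroup.centralizer ((⁅V, E⁆ : Subgroup G) : Set G) := by
  have k := h.toHyp.factor_data d
  have := h.ea.1
  obtain ⟨ν, h1, h2, h3⟩ := exists_norm a.normV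
  set f := ν.comp (Subgroup.inclusion k.comm_le) with hf
  have hinj : Function.Injective f := by
    rw [injective_iff_map_eq_one]
    intro w hw
    obtain ⟨c, hc, hν⟩ := h3 (Subgroup.inclusion k.comm_le w) (Subgroup.normalizer (E : Set G))
      (Subgroup.centralizer (E : Set G))
      (fun x hx hxE => mul_inv_eq_iff_eq_mul.2
        (Subgroup.mem_centralizer_iff.1 (h.stab_le_centralizer d a ⟨hxE, hx⟩) w w.2).symm)
      fun x hx hxE => h.toHyp.factor_commutator_le (factor_conj d a hx) d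
        (fun k => hxE (mem_normalizer_iff_conj_smul_eq.2 k)) (by
          have := conj_mem_conj_smul x w.2
          rwa [conj_smul_commutator, mem_normalizer_iff_conj_smul_eq.1 (a.normV hx)] at this)
    have h4 : (w : G) ^ Nat.card (Subgroup.normalizer (E : Set G) ⊓ X : Subgroup G) ∈
        ⁅V, E⁆ ⊓ Subgroup.centralizer (E : Set G) := by
      refine ⟨Subgroup.pow_mem _ w.2 _, ?_⟩
      have h5 : (w : G) ^ Nat.card (Subgroup.normalizer (E : Set G) ⊓ X : Subgroup G) * c = 1 :=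
        hν.symm.trans hw
      rw [eq_inv_of_mul_eq_one_left h5]
      exact Subgroup.inv_mem _ hc
    rw [k.inf_eq, Subgroup.mem_bot] at h4
    have h6 := h.coprime_factor d a (inf_le_right : Subgroup.normalizer (E : Set G) ⊓ X ≤ X)
    rw [k.card] at h6
    refine Subtype.ext (orderOf_eq_one_iff.1 (Nat.eq_one_of_dvd_coprimes
      (Nat.Coprime.coprime_mul_right_right h6) (orderOf_dvd_of_pow_eq_one h4)
      (orderOf_dvd_of_pow_eq_one (h.ea.2 _ (k.comm_le w.2)))))
  have hconj : ∀ y ∈ H ⊓ Subgroup.centralizer (X : Set G), ∀ w : (⁅V, E⁆ : Subgroup G),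
      ∃ w' : (⁅V, E⁆ : Subgroup G), (w' : G) = y * w * y⁻¹ ∧ f w' = y * f w * y⁻¹ :=
    fun y hy w => ⟨⟨_, Offender.conj_mem (h.le_normalizer_commutator d) hy.1 w.2⟩, rfl,
      h2 y hy.2 (h.norm hy.1) _ _ rfl⟩
  refine ⟨f.range, ?_, ?_, ?_, fun y hy => ?_⟩
  · rintro _ ⟨w, rfl⟩
    exact h1 _
  · rw [← Nat.card_congr (MonoidHom.ofInjective hinj).toEquiv, k.card_comm]
  · rw [Subgroup.le_normalizer_iff]
    rintro y hy _ ⟨w, rfl⟩
    obtain ⟨w', -, e⟩ := hconj y hy w
    exact ⟨w', e⟩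
  · rw [Subgroup.mem_centralizer_iff, Subgroup.mem_centralizer_iff]
    constructor
    · intro hc w hw
      obtain ⟨w', e1, e2⟩ := hconj y hy ⟨w, hw⟩
      rw [← hc _ ⟨⟨w, hw⟩, rfl⟩, mul_inv_cancel_right] at e2
      rw [hinj e2] at e1
      exact (eq_mul_inv_iff_mul_eq.1 e1)
    · rintro hc _ ⟨w, rfl⟩
      obtain ⟨w', e1, e2⟩ := hconj y hy w
      rw [← hc w w.2, mul_inv_cancel_right] at e1
      rw [Subtype.ext e1] at e2
      exact eq_mul_inv_iff_mul_eq.1 e2

theorem exists_plane_hom (h : GHyp p V H F) (hH : H ≠ ⊥) (a : CopAct V H F X) :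
    ∃ W ≤ V ⊓ Subgroup.centralizer (X : Set G), Nat.card W = p ^ 2 ∧
      H ⊓ Subgroup.centralizer (X : Set G) ≤ Subgroup.normalizer (W : Set G) ∧
      ∃ φ : (H ⊓ Subgroup.centralizer (X : Set G) : Subgroup G) →* SL(2, ZMod p),
        Function.Surjective φ ∧ ∀ g, φ g = 1 ↔ (g : G) ∈ Subgroup.centralizer (W : Set G) := by
  obtain ⟨E, d⟩ := h.exists_factor hH
  obtain ⟨W, h1, h2, h3, h4⟩ := h.exists_plane d a
  obtain ⟨φ, hφ, hker⟩ := h.exists_hom d
  refine ⟨W, h1, h2, h3, φ.comp (Subgroup.inclusion inf_le_left), fun s => ?_,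
    fun g => (hker _).trans (h4 g g.2).symm⟩
  obtain ⟨g, rfl⟩ := hφ s
  obtain ⟨y, hy, c, hc, e⟩ := h.exists_fixed d a g.2
  refine ⟨⟨y, hy⟩, ?_⟩
  have : g = ⟨y, hy.1⟩ * ⟨c, hc.1⟩ := Subtype.ext e
  rw [this, map_mul, (hker ⟨c, hc.1⟩).2 hc.2, mul_one]
  rfl

theorem le_of_fixed_le (h : GHyp p V H F) (a : CopAct V H F X) {M : Subgroup G}
    (h1 : H ⊓ Subgroup.centralizer (X : Set G) ≤ M)
    (h2 : ∀ A ≤ H, Nat.card A = p → ∃ g ∈ H, MulAut.conj g • A ≤ M) : H ≤ M := by
  refine h.le_of_forall_factor fun E d => ?_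
  have hn := h.le_normalizer_factor d
  obtain ⟨A, hAH, hA, hE⟩ := id d
  obtain ⟨g, hg, hgA⟩ := h2 A hAH hA.card
  have hB := hA.conj (h.norm hg)
  have hBH : MulAut.conj g • A ≤ H := conj_smul_le_of_mem_normalizer hAH (Subgroup.le_normalizer hg)
  have hE' : E = ⁅F, MulAut.conj g • A⁆ ⊔ MulAut.conj g • A := by
    rw [← mem_normalizer_iff_conj_smul_eq.1 (hn hg), hE, Subgroup.smul_sup, conj_smul_commutator,
      mem_normalizer_iff_conj_smul_eq.1 (h.normF hg)]
  obtain ⟨x, hx, hxA⟩ := h.toHyp.exists_not_mem_centralizer hBH hB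
  obtain ⟨y, hy, c, hc, rfl⟩ := h.exists_fixed d a (h.le hx)
  have hcB : c ∈ Subgroup.centralizer ((MulAut.conj g • A : Subgroup G) : Set G) :=
    EA.centralizer_anti (hE' ▸ le_sup_right) (h.inf_centralizer_le d hc)
  rw [hE', ← h.toHyp.sup_conj_eq hBH hB hx hxA, ← conj_smul_conj_smul,
    conj_smul_eq_of_mem_centralizer hcB]
  exact sup_le hgA (conj_smul_le_of_mem_normalizer hgA (Subgroup.le_normalizer (h1 hy)))

end GHyp

end CL.FF
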