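import Cfsg.Agent.Base
import Cfsg.Agent.PLocal.FFCoprime
import Cfsg.Agent.PLocal.PSolv

/-!
Transfer of failure of factorization to the faithful setting: the action of `G` on a normal
subgroup `V` is realised faithfully inside the holomorph of `V`.
-/

set_option autoImplicit false

namespace CL.FF

open Cfsg
open scoped Pointwise commutatorElement MatrixGroups

variable {G : Type*} [Group G] {p : ℕ}

/-- In a `p`-solvable group with `O_p(G) = 1` the `p'`-core is self-centralizing. -/
theorem centralizer_pPrimeCore_le_of_isPSolvable [Finite G] [Fact p.Prime] (h : IsPSolvable p G)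
    (hO : pCore p G = ⊥) : Subgroup.centralizer (pPrimeCore p G : Set G) ≤ pPrimeCore p G := by
  set F := pPrimeCore p G with hF
  set C := Subgroup.centralizer (F : Set G) with hC
  by_contra hne
  have hsurj := QuotientGroup.mk'_surjective F
  have : (C.map (QuotientGroup.mk' F)).Normal := Subgroup.Normal.map inferInstance _ hsurj
  obtain ⟨M, hM, hMC, hM1, hM2⟩ := PL.IsPSolvable.exists_normal_le (PL.isPSolvable_quotient h F)
    (C.map (QuotientGroup.mk' F)) (by
      rw [Ne, Subgroup.map_eq_bot_iff, QuotientGroup.ker_mk']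
      exact hne)
  rcases hM2 with hp | hp
  swap
  · exact hM1 (le_bot_iff.1 (pPrimeCore_quotient_eq_bot (p := p) (G := G) ▸ le_pPrimeCore hp))
  set N := M.comap (QuotientGroup.mk' F) ⊓ C with hN
  have hnil : Group.IsNilpotent N := by
    have := hp.isNilpotent
    refine Subgroup.isNilpotent_of_ker_le_center
      (((QuotientGroup.mk' F).comp N.subtype).codRestrict M fun x => x.2.1) fun x hx => ?_
    have h1 : (x : G) ∈ F := (QuotientGroup.eq_one_iff _).1 (congrArg Subtype.val hx)
    rw [Subgroup.mem_center_iff]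
    intro y
    exact Subtype.ext (Subgroup.mem_centralizer_iff.1 y.2.2 x h1).symm
  have hNF : N ≤ F := (le_fitting hnil).trans (fitting_le_pPrimeCore hO)
  refine hM1 (eq_bot_iff.2 fun y hy => ?_)
  obtain ⟨c, hc, rfl⟩ := hMC hy
  exact (QuotientGroup.eq_one_iff _).2 (hNF ⟨hy, hc⟩)

section Conj

variable {V : Type*} [Group V]

theorem mem_centralizer_map_iff {j : V →* G} (hj : Function.Injective j) {g : G} {φ : MulAut V}
    (h : ∀ v, j (φ v) = g * j v * g⁻¹) (U : Subgroup V) :
    g ∈ Subgroup.centralizer ((U.map j : Subgroup G) : Set G) ↔ ∀ u ∈ U, φ u = u := by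
  rw [Subgroup.mem_centralizer_iff]
  constructor
  · intro k u hu
    apply hj
    rw [h, ← k _ (Subgroup.mem_map_of_mem j hu), mul_inv_cancel_right]
  · rintro k _ ⟨u, hu, rfl⟩
    have := h u
    rw [k u hu] at this
    exact eq_mul_inv_iff_mul_eq.1 this

theorem mem_normalizer_map_iff {j : V →* G} (hj : Function.Injective j) {g : G} {φ : MulAut V}
    (h : ∀ v, j (φ v) = g * j v * g⁻¹) (U : Subgroup V) :
    g ∈ Subgroup.normalizer ((U.map j : Subgroup G) : Set G) ↔ U.map (φ : V →* V) = U := by
  have : MulAut.conj g • U.map j = (U.map (φ : V →* V)).map j := by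
    rw [conj_smul_eq_map, Subgroup.map_map, Subgroup.map_map]
    congr 1
    ext v
    exact (h v).symm
  rw [mem_normalizer_iff_conj_smul_eq, this, (Subgroup.map_injective hj).eq_iff]

end Conj

/-- An embedding of `V` in `G` with normal image, with the induced action. -/
structure Act (V G : Type*) [Group V] [Group G] where
  /-- the embedding -/
  j : V →* G
  /-- the action -/
  α : G →* MulAut V
  inj : Function.Injective j
  conj : ∀ g v, j (α g v) = g * j v * g⁻¹

/-- The holomorph. -/
abbrev Hol (V : Type*) [Group V] := V ⋊[MonoidHom.id (MulAut V)] MulAut V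

instance holFinite (V : Type*) [Group V] [Finite V] : Finite (Hol V) :=
  Finite.of_equiv _ SemidirectProduct.equivProd.symm

/-- The embedding of `V` in its holomorph. -/
abbrev holι (V : Type*) [Group V] : V →* Hol V := SemidirectProduct.inl

theorem holι_injective (V : Type*) [Group V] : Function.Injective (holι V) :=
  SemidirectProduct.inl_injective

theorem holι_range_normal (V : Type*) [Group V] : (holι V).range.Normal := by
  rw [holι, SemidirectProduct.range_inl_eq_ker_rightHom]
  infer_instance

namespace Act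

variable {V : Type*} [Group V]

/-- The action attached to an embedding with normal image. -/
noncomputable def ofNormal (j : V →* G) (hj : Function.Injective j) [j.range.Normal] : Act V G where
  j := j
  α := (MulAut.congr (MonoidHom.ofInjective hj).symm).toMonoidHom.comp MulAut.conjNormal
  inj := hj
  conj g v := by
    change j ((MonoidHom.ofInjective hj).symm (MulAut.conjNormal g
      (MonoidHom.ofInjective hj v))) = _
    rw [MonoidHom.apply_ofInjective_symm, MulAut.conjNormal_apply]
    rfl

/-- The action on a normal subgroup. -/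
def ofSubgroup (V : Subgroup G) [V.Normal] : Act V G where
  j := V.subtype
  α := MulAut.conjNormal
  inj := V.subtype_injective
  conj _ _ := rfl

/-- Restriction to an intermediate group. -/
def restrict (A : Act V G) {K : Type*} [Group K] (i : K →* G) (hi : Function.Injective i)
    (j : V →* K) (h : ∀ v, i (j v) = A.j v) : Act V K where
  j := j
  α := A.α.comp i
  inj := fun a b e => A.inj (by rw [← h, ← h, e])
  conj g v := hi (by rw [h, map_mul, map_mul, map_inv, h]; exact A.conj _ _)

variable (A : Act V G)

/-- The induced map to the holomorph. -/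
def ρ : G →* Hol V := SemidirectProduct.inr.comp A.α

theorem ρ_conj (g : G) (v : V) : holι V (A.α g v) = A.ρ g * holι V v * (A.ρ g)⁻¹ := by
  have := SemidirectProduct.inl_aut (φ := MonoidHom.id (MulAut V)) (A.α g) v
  rw [map_inv] at this
  exact this

theorem ρ_mem_centralizer_iff (U : Subgroup V) (g : G) :
    A.ρ g ∈ Subgroup.centralizer ((U.map (holι V) : Subgroup (Hol V)) : Set (Hol V)) ↔
      g ∈ Subgroup.centralizer ((U.map A.j : Subgroup G) : Set G) := by
  rw [mem_centralizer_map_iff (holι_injective V) (A.ρ_conj g),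
    mem_centralizer_map_iff A.inj (A.conj g)]

theorem ρ_mem_normalizer_iff (U : Subgroup V) (g : G) :
    A.ρ g ∈ Subgroup.normalizer ((U.map (holι V) : Subgroup (Hol V)) : Set (Hol V)) ↔
      g ∈ Subgroup.normalizer ((U.map A.j : Subgroup G) : Set G) := by
  rw [mem_normalizer_map_iff (holι_injective V) (A.ρ_conj g),
    mem_normalizer_map_iff A.inj (A.conj g)]

theorem ker_ρ : A.ρ.ker = Subgroup.centralizer (A.j.range : Set G) := by
  ext g
  rw [MonoidHom.range_eq_map, mem_centralizer_map_iff A.inj (A.conj g), MonoidHom.mem_ker]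
  change SemidirectProduct.inr (A.α g) = 1 ↔ _
  rw [map_eq_one_iff _ SemidirectProduct.inr_injective]
  exact ⟨fun h u _ => by rw [h]; rfl, fun h => MulEquiv.ext fun u => h u trivial⟩

theorem ρ_mem_centralizer_range_iff (g : G) :
    A.ρ g ∈ Subgroup.centralizer ((holι V).range : Set (Hol V)) ↔ A.ρ g = 1 := by
  rw [MonoidHom.range_eq_map, ρ_mem_centralizer_iff, ← MonoidHom.range_eq_map, ← ker_ρ,
    MonoidHom.mem_ker]

theorem map_ρ_faithful (B : Subgroup G) :
    B.map A.ρ ⊓ Subgroup.centralizer ((holι V).range : Set (Hol V)) = ⊥ := by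
  rw [eq_bot_iff]
  rintro _ ⟨⟨g, -, rfl⟩, hg⟩
  exact (A.ρ_mem_centralizer_range_iff g).1 hg

theorem comap_centralizer_map_ρ (B : Subgroup G) :
    (Subgroup.centralizer ((B.map A.ρ : Subgroup (Hol V)) : Set (Hol V))).comap (holι V) =
      (Subgroup.centralizer (B : Set G)).comap A.j := by
  have key : ∀ U : Subgroup V, U ≤ (Subgroup.centralizer
      ((B.map A.ρ : Subgroup (Hol V)) : Set (Hol V))).comap (holι V) ↔
        U ≤ (Subgroup.centralizer (B : Set G)).comap A.j := by
    intro U
    rw [← Subgroup.map_le_iff_le_comap, ← Subgroup.map_le_iff_le_comap,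
      Subgroup.le_centralizer_iff, Subgroup.le_centralizer_iff (H := U.map A.j),
      Subgroup.map_le_iff_le_comap]
    exact forall₂_congr fun g _ => A.ρ_mem_centralizer_iff U g
  exact le_antisymm ((key _).1 le_rfl) ((key _).2 le_rfl)

theorem meas_map (B : Subgroup G) :
    Offender.meas (holι V).range (B.map A.ρ) * Nat.card (A.ρ.ker ⊓ B : Subgroup G) =
      Offender.meas A.j.range B := by
  unfold Offender.meas
  rw [← Subgroup.map_comap_eq, ← Subgroup.map_comap_eq, comap_centralizer_map_ρ,
    Subgroup.card_map_of_injective (holι_injective V), Subgroup.card_map_of_injective A.inj,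
    ← Subgroup.relIndex_ker, ← EA.card_inf_mul_relIndex A.ρ.ker B]
  ring

theorem isBestOffenderOn_map [Finite G] {B : Subgroup G} (hB : IsBestOffenderOn p A.j.range B) :
    IsBestOffenderOn p (holι V).range (B.map A.ρ) := by
  refine ⟨fun C hC => ?_, ?_, ?_⟩
  · have h1 : (B ⊓ C.comap A.ρ).map A.ρ = C := by
      refine le_antisymm (Subgroup.map_le_iff_le_comap.2 inf_le_right) fun c hc => ?_
      obtain ⟨b, hb, rfl⟩ := hC hc
      exact ⟨b, ⟨hb, hc⟩, rfl⟩
    have h2 : A.ρ.ker ⊓ (B ⊓ C.comap A.ρ) = A.ρ.ker ⊓ B := by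
      rw [inf_comm B, ← inf_assoc, inf_eq_left.2 (Subgroup.ker_le_comap A.ρ C)]
    have h3 := hB.1 (B ⊓ C.comap A.ρ) inf_le_left
    change Offender.meas _ _ ≤ Offender.meas _ _ at h3
    rw [← meas_map, ← meas_map, h1, h2] at h3
    exact Nat.le_of_mul_le_mul_right h3 Nat.card_pos
  · rw [← Subgroup.map_commutator, (Subgroup.map_eq_bot_iff _).2 (A.ker_ρ ▸ hB.2.1)]
    exact bot_le
  · rintro _ ⟨b, hb, rfl⟩
    rw [← map_pow, MonoidHom.mem_ker.1 (A.ker_ρ.ge (hB.2.2 b hb))]
    exact Subgroup.one_mem _

theorem ea_range (hV : IsElementaryAbelian p A.j.range) :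
    IsElementaryAbelian p (holι V).range := by
  rw [MonoidHom.range_eq_map] at hV ⊢
  exact EA.map (EA.of_map_of_injective A.inj hV) _

/-- The image of `J(G)` in the holomorph satisfies the hypotheses of the structure theorem. -/
theorem ghyp [Finite G] [Fact p.Prime] (hV : IsElementaryAbelian p A.j.range)
    (hs : IsPSolvable p G) {C : Subgroup G} [C.Normal]
    (hC : C = Subgroup.centralizer (A.j.range : Set G)) (hO : pCore p (G ⧸ C) = ⊥) :
    GHyp p (holι V).range ((thompsonSubgroup p G).map A.ρ)
      ((pPrimeCore p ((thompsonSubgroup p G).map A.ρ)).map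
        ((thompsonSubgroup p G).map A.ρ).subtype) := by
  have : Finite V := Finite.of_injective _ A.inj
  have := holι_range_normal V
  have := Thompson.thompson_normal (p := p) (G := G)
  set H := (thompsonSubgroup p G).map A.ρ with hH
  have h1 : pCore p A.ρ.range = ⊥ := pCore_eq_bot_of_equiv
    ((QuotientGroup.quotientMulEquivOfEq (hC.trans A.ker_ρ.symm)).trans
      (QuotientGroup.quotientKerEquivRange A.ρ)) hO
  have h2 : (H.subgroupOf A.ρ.range).Normal := by
    refine Subgroup.normal_subgroupOf_of_le_normalizer ?_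
    have := Subgroup.le_normalizer_map (H := thompsonSubgroup p G) A.ρ
    rwa [Subgroup.normalizer_eq_top, ← MonoidHom.range_eq_map] at this
  have h3 : pCore p H = ⊥ := pCore_eq_bot_of_equiv
    (Subgroup.subgroupOfEquivOfLe (Subgroup.map_le_range _ _)) (pCore_eq_bot_of_normal _ h1)
  refine ⟨hyp_of_pPrimeCore (A.ea_range hV) Subgroup.le_normalizer_of_normal (A.map_ρ_faithful _)
    (centralizer_pPrimeCore_le_of_isPSolvable
      (PL.isPSolvable_map (PL.isPSolvable_subgroup hs _) _) h3), fun K hK => ?_⟩
  rw [hH, Subgroup.map_le_iff_le_comap, Thompson.thompson_le_iff]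
  intro B hB
  rw [← Subgroup.map_le_iff_le_comap]
  exact hK _ (Subgroup.map_mono (Thompson.le_thompson hB)) (A.isBestOffenderOn_map
    (Offender.isBestOffenderOn_of_mem_maxIn le_top hV (Thompson.maxIn_top (p := p) (G := G) ▸ hB)))

end Act

theorem normal_map_of_characteristic {K : Type*} [Group K] (i : K →* G)
    (hi : Function.Injective i) [i.range.Normal] (U : Subgroup K) [hU : U.Characteristic] :
    (U.map i).Normal := by
  rw [← Subgroup.normalizer_eq_top_iff, eq_top_iff]
  intro g _
  exact (mem_normalizer_map_iff hi ((Act.ofNormal i hi).conj g) U).2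
    (Subgroup.characteristic_iff_map_eq.1 hU _)

end CL.FF
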