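import Cfsg.Agent.Base
import Cfsg.Agent.PLocal.FFModel

/-!
Failure of Thompson factorization in `p`-solvable groups (Glauberman), with a coprime operator
group.
-/

set_option autoImplicit false

namespace CL.FF

open Cfsg
open scoped Pointwise commutatorElement MatrixGroups

variable {G : Type*} [Group G] {p : ℕ}

theorem exists_quotient_equiv {S : Type*} [Group S] {D C : Subgroup G} (φ : D →* S)
    (hφ : Function.Surjective φ) (h : ∀ d, φ d = 1 ↔ (d : G) ∈ C) :
    ∃ _ : (C.subgroupOf D).Normal, Nonempty ((D ⧸ C.subgroupOf D) ≃* S) := by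
  have e : C.subgroupOf D = φ.ker := Subgroup.ext fun d => (h d).symm
  have hn : (C.subgroupOf D).Normal := e ▸ inferInstance
  exact ⟨hn, ⟨(QuotientGroup.quotientMulEquivOfEq e).trans
    (QuotientGroup.quotientKerEquivOfSurjective φ hφ)⟩⟩

/-- If `J(G)` does not centralize `V` then `J(G) C / C` has a normal `SL(2, p)`, `p ≤ 3`. -/
theorem exists_normal_SL2 [Finite G] [Fact p.Prime] (hs : IsPSolvable p G) (V : Subgroup G)
    [V.Normal] (hV : IsElementaryAbelian p V)
    (hO : pCore p (G ⧸ Subgroup.centralizer (V : Set G)) = ⊥)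
    (hJ : ¬ thompsonSubgroup p G ≤ Subgroup.centralizer (V : Set G)) :
    (p = 2 ∨ p = 3) ∧ ∃ E : Subgroup G, Subgroup.centralizer (V : Set G) ≤ E ∧
      E ≤ thompsonSubgroup p G ⊔ Subgroup.centralizer (V : Set G) ∧
      thompsonSubgroup p G ⊔ Subgroup.centralizer (V : Set G) ≤ Subgroup.normalizer (E : Set G) ∧
      ∃ φ : E →* SL(2, ZMod p), Function.Surjective φ ∧
        ∀ g, φ g = 1 ↔ (g : G) ∈ Subgroup.centralizer (V : Set G) := by
  set A := Act.ofSubgroup V with hA
  have hr : A.j.range = V := V.range_subtype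
  have hk : A.ρ.ker = Subgroup.centralizer (V : Set G) := by rw [A.ker_ρ, hr]
  have h := A.ghyp (hr.symm ▸ hV) hs (by rw [hr]) hO
  obtain ⟨E, d⟩ := h.exists_factor (by rwa [Ne, Subgroup.map_eq_bot_iff, hk])
  have hE := h.toHyp.factor_le d
  obtain ⟨e⟩ := (h.toHyp.factor_data d).iso
  rw [← hk, ← Subgroup.comap_map_eq]
  refine ⟨h.toHyp.factor_two_or_three d, E.comap A.ρ, Subgroup.ker_le_comap _ _,
    Subgroup.comap_mono hE, (Subgroup.comap_mono (h.le_normalizer_factor d)).trans
      (Subgroup.le_normalizer_comap _), e.toMonoidHom.comp (A.ρ.subgroupComap E),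
      e.surjective.comp fun y => ?_, fun g => ?_⟩
  · obtain ⟨g, -, hg⟩ := hE y.2
    exact ⟨⟨g, by rw [Subgroup.mem_comap, hg]; exact y.2⟩, Subtype.ext hg⟩
  · change e _ = 1 ↔ _
    rw [map_eq_one_iff _ e.injective, Subtype.ext_iff]
    rfl

/-- For `A ∈ 𝒜(G)` also `C_A(V) V ∈ 𝒜(G)`. -/
theorem inf_centralizer_sup_mem_maxIn [Finite G] [Fact p.Prime] (hs : IsPSolvable p G)
    (V : Subgroup G) [V.Normal] (hV : IsElementaryAbelian p V)
    (hO : pCore p (G ⧸ Subgroup.centralizer (V : Set G)) = ⊥) {B : Subgroup G}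
    (hB : B ∈ Thompson.maxIn p (⊤ : Subgroup G)) :
    (Subgroup.centralizer (V : Set G) ⊓ B) ⊔ V ∈ Thompson.maxIn p (⊤ : Subgroup G) := by
  set A := Act.ofSubgroup V with hA
  have hr : A.j.range = V := V.range_subtype
  have hk : A.ρ.ker = Subgroup.centralizer (V : Set G) := by rw [A.ker_ρ, hr]
  have h := A.ghyp (hr.symm ▸ hV) hs (by rw [hr]) hO
  have h1 := h.toHyp.meas_eq_card
    (Subgroup.map_mono (Thompson.le_thompson (Thompson.maxIn_top (p := p) (G := G) ▸ hB)))
    (A.isBestOffenderOn_map (Offender.isBestOffenderOn_of_mem_maxIn le_top (hr.symm ▸ hV) hB))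
  have h2 := A.meas_map B
  have h3 : V ⊓ Subgroup.centralizer ((Subgroup.centralizer (V : Set G) ⊓ B : Subgroup G) : Set G)
      = V := inf_eq_left.2 (Subgroup.le_centralizer_iff.1 inf_le_left)
  rw [h1, hk, hr, ← Nat.card_congr (MonoidHom.ofInjective (holι_injective V)).toEquiv] at h2
  have h4 := Offender.sup_mem_maxIn_of_meas le_top hV hB
    (inf_le_right : Subgroup.centralizer (V : Set G) ⊓ B ≤ B)
    (by rw [← h2, Offender.meas, h3, mul_comm])
  rwa [h3] at h4

theorem commutator_omegaOne_centerThompsonOf_le [Finite G] [Fact p.Prime] (hs : IsPSolvable p G)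
    (V : Subgroup G) [V.Normal] (hV : IsElementaryAbelian p V)
    (hO : pCore p (G ⧸ Subgroup.centralizer (V : Set G)) = ⊥) :
    ⁅omegaOne p (centerThompsonOf p (Subgroup.centralizer (V : Set G))),
      thompsonSubgroup p G⁆ ≤ V := by
  set Z := omegaOne p (centerThompsonOf p (Subgroup.centralizer (V : Set G)))
  have key : ∀ B : Subgroup G, ⁅Z, B⁆ ≤ V ↔ B ≤ (Subgroup.centralizer
      ((Z.map (QuotientGroup.mk' V) : Subgroup (G ⧸ V)) : Set (G ⧸ V))).comap
        (QuotientGroup.mk' V) := by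
    intro B
    rw [← Subgroup.map_le_iff_le_comap, ← Subgroup.le_centralizer_iff,
      ← Subgroup.commutator_eq_bot_iff_le_centralizer, ← Subgroup.map_commutator,
      Subgroup.map_eq_bot_iff, QuotientGroup.ker_mk']
  rw [key, Thompson.thompson_le_iff]
  intro B hB
  rw [← Thompson.maxIn_top] at hB
  have h1 : Z ≤ (Subgroup.centralizer (V : Set G) ⊓ B) ⊔ V :=
    Thompson.omegaOne_centerThompsonOf_le (Thompson.mem_maxIn_of_le
      (inf_centralizer_sup_mem_maxIn hs V hV hO hB)
      (sup_le inf_le_left (EA.le_centralizer hV)) le_top)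
  rw [← key, Subgroup.commutator_le]
  intro z hz b hb
  obtain ⟨c, hc, v, hv, rfl⟩ := (EA.mem_sup_of_le_normalizer Subgroup.le_normalizer_of_normal).1
    (h1 hz)
  rw [commutatorElement_mul_left_eq_conj_mul,
    commutatorElement_eq_one_iff_mul_comm.2 (EA.comm hB.2.1 hc.2 hb), mul_one]
  exact Subgroup.Normal.conj_mem inferInstance _
    (Offender.commutatorElement_mem (Subgroup.le_normalizer_of_normal (K := B)) hv hb) c

section Operator

variable [Finite G] [Fact p.Prime] {K : Type*} [Group K] {i : K →* G} {X : Subgroup G}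

theorem exists_model (hi : Function.Injective i) [i.range.Normal] (hs : IsPSolvable p K)
    (hO : pPrimeCore p K = ⊥) (hcop : (Nat.card X).Coprime (Nat.card K))
    (hX : Group.IsSolvable X) :
    ∃ (A : Act (omegaZClosure p K) G) (F : Subgroup (Hol (omegaZClosure p K))),
      A.j = i.comp (omegaZClosure p K).subtype ∧
      (A.ρ.comp i).ker = Subgroup.centralizer (omegaZClosure p K : Set K) ∧
      GHyp p (holι _).range (((thompsonSubgroup p K).map i).map A.ρ) F ∧
      CopAct (holι _).range (((thompsonSubgroup p K).map i).map A.ρ) F (X.map A.ρ) ∧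
      ((thompsonSubgroup p K).map i ⊓ Subgroup.centralizer (X : Set G)).map A.ρ =
        ((thompsonSubgroup p K).map i).map A.ρ ⊓
          Subgroup.centralizer ((X.map A.ρ : Subgroup (Hol _)) : Set (Hol _)) := by
  have : Finite K := Finite.of_injective i hi
  have := omegaZClosure_characteristic (p := p) (G := K)
  have := Thompson.thompson_characteristic (p := p) (G := K)
  have := normal_map_of_characteristic i hi (thompsonSubgroup p K)
  have := holι_range_normal (omegaZClosure p K)
  have : (i.comp (omegaZClosure p K).subtype).range.Normal := by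
    rw [MonoidHom.range_comp, Subgroup.range_subtype]
    exact normal_map_of_characteristic i hi _
  set A := Act.ofNormal (i.comp (omegaZClosure p K).subtype)
    (hi.comp (Subgroup.subtype_injective _)) with hA
  set A₀ := A.restrict i hi (omegaZClosure p K).subtype fun _ => rfl with hA₀
  have hr : A₀.j.range = omegaZClosure p K := Subgroup.range_subtype _
  have h := A₀.ghyp (hr.symm ▸ omegaZClosure_isElementaryAbelian
    (PL.centralizer_pCore_le_of_isPSolvable hs hO)) hs (by rw [hr]) pCore_quotient_omegaZClosure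
  have e : (thompsonSubgroup p K).map A₀.ρ = ((thompsonSubgroup p K).map i).map A.ρ := by
    rw [Subgroup.map_map]
    rfl
  rw [e] at h
  have hc : (Nat.card X).Coprime (Nat.card ((thompsonSubgroup p K).map i)) :=
    hcop.coprime_dvd_right ((Subgroup.card_map_dvd _ _).trans (Subgroup.card_subgroup_dvd_card _))
  have hn : X.map A.ρ ≤ Subgroup.normalizer
      ((((thompsonSubgroup p K).map i).map A.ρ : Subgroup (Hol _)) : Set (Hol _)) :=
    (Subgroup.map_mono Subgroup.le_normalizer_of_normal).trans (Subgroup.le_normalizer_map _)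
  have := pPrimeCore_characteristic (p := p) (G := ((thompsonSubgroup p K).map i).map A.ρ)
  refine ⟨A, _, rfl, A₀.ker_ρ.trans (by rw [hr]), h, ⟨Subgroup.le_normalizer_of_normal, hn,
    hn.trans (normalizer_le_normalizer_map_subtype _ _),
    (hc.coprime_dvd_left (Subgroup.card_map_dvd _ _)).coprime_dvd_right
      (Subgroup.card_map_dvd _ _)⟩, ?_⟩
  exact map_inf_centralizer_of_coprime A.ρ Subgroup.le_normalizer_of_normal
    (coprime_card_of_le le_rfl inf_le_left hc) (Or.inl hX)

theorem exists_fixed_plane (hi : Function.Injective i) [i.range.Normal] (hs : IsPSolvable p K)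
    (hO : pPrimeCore p K = ⊥) (hcop : (Nat.card X).Coprime (Nat.card K))
    (hX : Group.IsSolvable X) (hnf : ¬ IsThompsonFactorizable p K) :
    (p = 2 ∨ p = 3) ∧ ∃ W D : Subgroup G, W ≤ i.range ⊓ Subgroup.centralizer (X : Set G) ∧
      D ≤ i.range ⊓ Subgroup.centralizer (X : Set G) ∧ IsElementaryAbelian p W ∧
      Nat.card W = p ^ 2 ∧ D ≤ Subgroup.normalizer (W : Set G) ∧
      ∃ φ : D →* SL(2, ZMod p), Function.Surjective φ ∧
        ∀ g, φ g = 1 ↔ (g : G) ∈ Subgroup.centralizer (W : Set G) := by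
  have : Finite K := Finite.of_injective i hi
  obtain ⟨A, F, hj, hk, h, a, hl⟩ := exists_model hi hs hO hcop hX
  have hH : ((thompsonSubgroup p K).map i).map A.ρ ≠ ⊥ := by
    rw [Ne, Subgroup.map_map, Subgroup.map_eq_bot_iff, hk]
    exact fun k => hnf (isThompsonFactorizable_of_le k)
  obtain ⟨W, h1, h2, h3, φ, hφ, hker⟩ := h.exists_plane_hom hH a
  obtain ⟨E, d⟩ := h.exists_factor hH
  obtain ⟨U, rfl⟩ : ∃ U : Subgroup (omegaZClosure p K), U.map (holι _) = W :=
    ⟨_, Subgroup.map_comap_eq_self (h1.trans inf_le_left)⟩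
  rw [Subgroup.card_map_of_injective (holι_injective _)] at h2
  refine ⟨h.toHyp.factor_two_or_three d, U.map A.j,
    (thompsonSubgroup p K).map i ⊓ Subgroup.centralizer (X : Set G), le_inf ?_ ?_,
    inf_le_inf_right _ (Subgroup.map_le_range _ _), EA.map (EA.of_map_of_injective
      (holι_injective _) (EA.mono h.ea (h1.trans inf_le_left))) _,
    by rw [Subgroup.card_map_of_injective A.inj, h2],
    fun g hg => (A.ρ_mem_normalizer_iff U g).1 (h3 (hl.le (Subgroup.mem_map_of_mem _ hg))),
    φ.comp ((A.ρ.comp (Subgroup.subtype _)).codRestrict _ fun g =>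
      hl.le (Subgroup.mem_map_of_mem _ g.2)), hφ.comp fun y => ?_,
    fun g => (hker _).trans (A.ρ_mem_centralizer_iff U g)⟩
  · rw [hj, ← Subgroup.map_map]
    exact Subgroup.map_le_range _ _
  · rw [Subgroup.le_centralizer_iff]
    exact fun x hx => (A.ρ_mem_centralizer_iff U x).1
      (Subgroup.le_centralizer_iff.1 (h1.trans inf_le_right) (Subgroup.mem_map_of_mem _ hx))
  · obtain ⟨g, hg, e⟩ := hl.ge y.2
    exact ⟨⟨g, hg⟩, Subtype.ext e⟩

theorem sup_fixed_eq_top (hi : Function.Injective i) [i.range.Normal] (hs : IsPSolvable p K)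
    (hO : pPrimeCore p K = ⊥) (hcop : (Nat.card X).Coprime (Nat.card K))
    (hX : Group.IsSolvable X) (S : Sylow p K) :
    Subgroup.normalizer (thompsonSubgroupOf p (S : Subgroup K) : Set K) ⊔
      Subgroup.centralizer (omegaZ p (S : Subgroup K) : Set K) ⊔
      (Subgroup.centralizer (X : Set G)).comap i = ⊤ := by
  have : Finite K := Finite.of_injective i hi
  obtain ⟨A, F, -, hk, h, a, hl⟩ := exists_model hi hs hO hcop hX
  have := Thompson.thompson_normal (p := p) (G := K)
  set M := Subgroup.normalizer (thompsonSubgroupOf p (S : Subgroup K) : Set K) ⊔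
      Subgroup.centralizer (omegaZ p (S : Subgroup K) : Set K) ⊔
      (Subgroup.centralizer (X : Set G)).comap i with hM
  have hN : Subgroup.normalizer (thompsonSubgroupOf p (S : Subgroup K) : Set K) ≤ M :=
    le_sup_left.trans le_sup_left
  have hSM : (S : Subgroup K) ≤ M :=
    (Subgroup.le_normalizer.trans (Thompson.normalizer_le_normalizer_thompsonOf _)).trans hN
  have hC : (A.ρ.comp i).ker ≤ M :=
    hk.le.trans ((EA.centralizer_anti (omegaZ_le_closure S)).trans (le_sup_right.trans le_sup_left))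
  have hF := exists_mul_normalizer_thompsonOf S _ (Thompson.thompsonOf_sylow_le S)
  have hJ : thompsonSubgroup p K ≤ M := by
    have h1 := h.le_of_fixed_le a (M := M.map (A.ρ.comp i)) ?_ ?_
    · rw [Subgroup.map_map, Subgroup.map_le_map_iff] at h1
      exact h1.trans (sup_le le_rfl hC)
    · rw [← hl]
      rintro _ ⟨_, ⟨⟨k, -, rfl⟩, hc⟩, rfl⟩
      exact ⟨k, Subgroup.mem_sup_right hc, rfl⟩
    · intro B hB hBp
      obtain ⟨b, -, hb, rfl⟩ := exists_zpowers_of_card_prime hBp
      obtain ⟨_, ⟨k, hk, rfl⟩, rfl⟩ := hB (Subgroup.mem_zpowers b)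
      obtain ⟨P, -, hP, hdec⟩ := Offender.exists_pgroup_supplement (p := p)
        (A := Subgroup.zpowers k) (C := (A.ρ.comp i).ker) Subgroup.le_normalizer_of_normal (by
          rintro _ ⟨n, rfl⟩
          refine ⟨1, ?_⟩
          rw [MonoidHom.mem_ker, pow_one, map_pow, map_zpow, ← zpow_natCast, ← zpow_mul, mul_comm,
            zpow_mul, zpow_natCast]
          exact (congrArg (· ^ n) hb).trans (one_zpow n))
      obtain ⟨x, hx, c, hc, e⟩ := hdec k (Subgroup.mem_zpowers k)
      obtain ⟨T, hT⟩ := hP.exists_le_sylow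
      obtain ⟨g, rfl⟩ := MulAction.exists_smul_eq K S T
      obtain ⟨j, hj, n, hn, rfl⟩ := hF g
      refine ⟨A.ρ (i j⁻¹), ⟨_, ⟨_, Subgroup.inv_mem _ hj, rfl⟩, rfl⟩, ?_⟩
      rw [conj_smul_eq_map, MonoidHom.map_zpowers, Subgroup.zpowers_le]
      obtain ⟨s, hs, e'⟩ := hT hx
      refine ⟨n * s * n⁻¹, M.mul_mem (M.mul_mem (hN hn) (hSM hs)) (M.inv_mem (hN hn)), ?_⟩
      have e1 : (A.ρ.comp i) k = (A.ρ.comp i) x := by
        rw [e, map_mul, MonoidHom.mem_ker.1 hc, mul_one]
      have e2 : n * s * n⁻¹ = j⁻¹ * x * j⁻¹⁻¹ := by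
        rw [← e']
        change _ = j⁻¹ * (j * n * s * (j * n)⁻¹) * j⁻¹⁻¹
        group
      rw [e2, map_mul, map_mul, ← e1, map_inv _ j⁻¹]
      rfl
  rw [eq_top_iff]
  intro g _
  obtain ⟨j, hj, n, hn, rfl⟩ := hF g
  exact M.mul_mem (hJ hj) (hN hn)

end Operator

end CL.FF
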