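import Cfsg.Agent.Base
import Cfsg.Agent.BG.A2_Extra

/-!
# The representation-theoretic core of Theorem B of Hall and Higman

A class two group `K` (modulo scalars `Z`) extended by an element `g` of order `p ^ m` acting
semiregularly on `K / Z`, represented irreducibly in characteristic `p`.
-/

set_option autoImplicit false
set_option linter.unusedSectionVars false

namespace CL.PL

open Module Subgroup Finset CL.BG CL.BG.ExtraRep

/-- In characteristic `p` the norm element of a cyclic `p`-group is a power of `a - 1`. -/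
theorem sum_pow_eq_sub_one_pow (F : Type*) {A : Type*} [Field F] [Ring A] [Algebra F A] (p : ℕ)
    [Fact p.Prime] [CharP F p] (m : ℕ) (a : A) :
    ∑ k ∈ range (p ^ m), a ^ k = (a - 1) ^ (p ^ m - 1) := by
  have h : ∑ k ∈ range (p ^ m), (Polynomial.X : Polynomial F) ^ k =
      (Polynomial.X - 1) ^ (p ^ m - 1) := by
    have h1 : (Polynomial.X - 1 : Polynomial F) ≠ 0 := Polynomial.X_sub_C_ne_zero 1
    apply mul_right_cancel₀ h1
    rw [geom_sum_mul, ← pow_succ, Nat.sub_add_cancel (Nat.one_le_pow _ _ (Fact.out : p.Prime).pos),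
      sub_pow_char_pow, one_pow]
  simpa using congr(Polynomial.aeval a $h)

theorem sub_one_pow_char_pow (F : Type*) {A : Type*} [Field F] [Ring A] [Algebra F A] (p : ℕ)
    [Fact p.Prime] [CharP F p] (m : ℕ) (a : A) : (a - 1) ^ p ^ m = a ^ p ^ m - 1 := by
  have h : (Polynomial.X - 1 : Polynomial F) ^ p ^ m = Polynomial.X ^ p ^ m - 1 := by
    rw [sub_pow_char_pow, one_pow]
  simpa using congr(Polynomial.aeval a $h)

/-- If every endomorphism commuting with the nilpotent map `N` induces a scalar on `W / N W`, then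
`W` is a cyclic module. -/
theorem exists_cyclic_of_comm_scalar {F W : Type*} [Field F] [AddCommGroup W] [Module F W]
    (N : End F W) (r : ℕ) (h0 : N ^ (r + 1) = 0) (h1 : N ^ r ≠ 0)
    (h : ∀ c : End F W, N * c = c * N → ∃ a : F, ∀ w, c w - a • w ∈ LinearMap.range N) :
    ∃ v : W, Submodule.span F (Set.range fun i : Fin (r + 1) => (N ^ (i : ℕ)) v) = ⊤ := by
  obtain ⟨v, hv⟩ : ∃ v, (N ^ r) v ≠ 0 := by
    by_contra hc
    push Not at hc
    exact h1 (LinearMap.ext hc)
  obtain ⟨φ, hφ⟩ : ∃ φ : Module.Dual F W, φ ((N ^ r) v) = 1 := by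
    obtain ⟨φ, hφ⟩ := not_forall.1 ((Module.forall_dual_apply_eq_zero_iff F _).not.2 hv)
    exact ⟨(φ ((N ^ r) v))⁻¹ • φ, by simpa using inv_mul_cancel₀ hφ⟩
  let a : End F W := φ.smulRight v
  let c : End F W := ∑ i ∈ range (r + 1), N ^ i * a * N ^ (r - i)
  have hc : N * c = c * N := by
    have e1 : N * c = ∑ i ∈ range (r + 1), N ^ (i + 1) * a * N ^ (r + 1 - (i + 1)) := by
      simp only [c, mul_sum, pow_succ', mul_assoc, Nat.add_sub_add_right]
    have e2 : c * N = ∑ i ∈ range (r + 1), N ^ i * a * N ^ (r + 1 - i) := by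
      simp only [c, sum_mul]
      refine sum_congr rfl fun i hi => ?_
      rw [mul_assoc, ← pow_succ, Nat.sub_add_comm (Nat.lt_succ_iff.1 (mem_range.1 hi))]
    have e3 := sum_range_succ (fun i => N ^ i * a * N ^ (r + 1 - i)) (r + 1)
    rw [sum_range_succ'] at e3
    simp only [h0, mul_zero, zero_mul, add_zero, Nat.sub_zero] at e3
    rw [e1, e2, e3]
  have hcw : ∀ w, c w - φ ((N ^ r) w) • v ∈ LinearMap.range N := by
    intro w
    simp only [c, sum_range_succ', LinearMap.add_apply, LinearMap.sum_apply, pow_zero, one_mul,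
      Nat.sub_zero, End.mul_apply, a, LinearMap.smulRight_apply, add_sub_cancel_right]
    exact Submodule.sum_mem _ fun i _ => ⟨_, by rw [pow_succ', End.mul_apply]⟩
  obtain ⟨l, hl⟩ := h c hc
  have hl1 : l = 1 := by
    have h2 := Submodule.sub_mem _ (hcw v) (hl v)
    rw [hφ, sub_sub_sub_cancel_left, ← sub_smul] at h2
    obtain ⟨u, hu⟩ := h2
    have h3 := congr((N ^ r) $hu)
    rw [← End.mul_apply, ← pow_succ, h0, LinearMap.zero_apply, map_smul, eq_comm,
      smul_eq_zero] at h3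
    exact sub_eq_zero.1 (h3.resolve_right hv)
  have hw : ∀ w, ∃ (s : F) (u : W), w = s • v + N u := by
    intro w
    have h2 := Submodule.sub_mem _ (hcw w) (hl w)
    rw [hl1, one_smul, sub_sub_sub_cancel_left] at h2
    obtain ⟨u, hu⟩ := h2
    exact ⟨_, u, by rw [hu, add_sub_cancel]⟩
  refine ⟨v, eq_top_iff.2 fun w _ => ?_⟩
  set S := Submodule.span F (Set.range fun i : Fin (r + 1) => (N ^ (i : ℕ)) v)
  have key : ∀ j ≤ r + 1, ∃ u, w - (N ^ j) u ∈ S := by
    intro j
    induction j with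
    | zero => exact fun _ => ⟨w, by simp⟩
    | succ j ih =>
      intro hj
      obtain ⟨u, hu⟩ := ih (by omega)
      obtain ⟨s, u', rfl⟩ := hw u
      refine ⟨u', ?_⟩
      have h2 : s • (N ^ j) v ∈ S := S.smul_mem s (Submodule.subset_span ⟨⟨j, hj⟩, rfl⟩)
      have h3 := S.add_mem hu h2
      rwa [map_add, map_smul, ← End.mul_apply, ← pow_succ, sub_add_eq_sub_sub_swap,
        sub_add_cancel] at h3
  obtain ⟨u, hu⟩ := key (r + 1) le_rfl
  simpa [h0] using hu

/-- Hypotheses for the representation-theoretic core of Theorem B of Hall and Higman. -/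
structure HHRep {F W L : Type*} [Field F] [AddCommGroup W] [Module F W] [Group L]
    (ρ : L →* End F W) (K Z : Subgroup L) (g : L) : Prop where
  cardK : (Nat.card K : F) ≠ 0
  norm : ∀ a ∈ zpowers g, ∀ x ∈ K, a * x * a⁻¹ ∈ K
  le : Z ≤ K
  scalar : ∀ z ∈ Z, ∃ c : F, ρ z = c • (1 : End F W)
  normZ : zpowers g ≤ normalizer (Z : Set L)
  comm : ∀ x ∈ K, ∀ y ∈ K, y * x * y⁻¹ * x⁻¹ ∈ Z
  nondeg : ∀ x ∈ K, (∀ y ∈ K, ρ (y * x * y⁻¹ * x⁻¹) = 1) → x ∈ Z
  fpf : ∀ a ∈ zpowers g, a ≠ 1 → ∀ x ∈ K, a * x * a⁻¹ * x⁻¹ ∈ Z → x ∈ Z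
  irr : ∀ U : Submodule F W, (∀ x ∈ K, ∀ w ∈ U, ρ x w ∈ U) → (∀ w ∈ U, ρ g w ∈ U) →
    U = ⊥ ∨ U = ⊤

namespace HHRep

variable {F W L : Type*} [Field F] [AddCommGroup W] [Module F W] [Group L] [Finite L]
  {ρ : L →* End F W} {K Z : Subgroup L} {g : L}

theorem schur [IsAlgClosed F] [FiniteDimensional F W] [Nontrivial W] (h : HHRep ρ K Z g)
    (X : End F W) (hK : ∀ x ∈ K, ρ x * X = X * ρ x) (hg : ρ g * X = X * ρ g) :
    ∃ c : F, X = c • (1 : End F W) := by
  refine lin_schur (insert (ρ g) (ρ '' K)) (fun U hU => h.irr U (fun x hx => hU _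
    (Set.mem_insert_of_mem _ ⟨x, hx, rfl⟩)) (hU _ (Set.mem_insert _ _))) X ?_
  rintro f (rfl | ⟨x, hx, rfl⟩)
  exacts [hg, hK x hx]

theorem conj_eq (h : HHRep ρ K Z g) {z : L} (hz : z ∈ Z) (y : L) : ρ y * ρ z * ρ y⁻¹ = ρ z := by
  obtain ⟨c, hc⟩ := h.scalar z hz
  rw [hc, mul_smul_comm, mul_one, smul_mul_assoc, ← map_mul, mul_inv_cancel, map_one]

theorem avg_mem (h : HHRep ρ K Z g) {z : L} (hz : z ∈ Z) :
    avg ρ K (ρ z) = (Nat.card K : F) • ρ z := by
  let _ := Fintype.ofFinite K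
  rw [avg_apply, Finset.sum_congr rfl (g := fun _ => ρ z) fun (y : K) _ => h.conj_eq hz (y : L)]
  simp [Nat.cast_smul_eq_nsmul]

theorem avg_notMem (h : HHRep ρ K Z g) {x : L} (hx : x ∈ K) (hxZ : x ∉ Z) :
    avg ρ K (ρ x) = 0 := by
  obtain ⟨y, hy, hne⟩ : ∃ y ∈ K, ρ (y * x * y⁻¹ * x⁻¹) ≠ 1 := by
    by_contra hc
    push Not at hc
    exact hxZ (h.nondeg x hx hc)
  obtain ⟨c, hc⟩ := h.scalar _ (h.comm x hx y hy)
  have hc1 : c ≠ 1 := fun e => hne (by rw [hc, e, one_smul])
  have e := avg_conj (ρ := ρ) (ρ x) hy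
  have e2 : ρ y * ρ x * ρ y⁻¹ = c • ρ x := by
    rw [← map_mul, ← map_mul, ← inv_mul_cancel_right (y * x * y⁻¹) x, map_mul _ _ x, hc,
      smul_mul_assoc, one_mul]
  rw [e2, map_smul] at e
  have : (c - 1) • avg ρ K (ρ x) = 0 := by rw [sub_smul, e, one_smul, sub_self]
  exact (smul_eq_zero.1 this).resolve_left (sub_ne_zero.2 hc1)

theorem cardZ (h : HHRep ρ K Z g) : (Nat.card Z : F) ≠ 0 := fun e => h.cardK (by
  obtain ⟨m, hm⟩ := Subgroup.card_dvd_of_le h.le
  rw [hm, Nat.cast_mul, e, zero_mul])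

theorem sum_avg [Fintype K] (h : HHRep ρ K Z g) (φ : K → L) (hφ : ∀ x, φ x ∈ K)
    (h1 : ∀ x : K, (x : L) ∈ Z → ρ (φ x) = 1) (h2 : ∀ x : K, φ x ∈ Z → (x : L) ∈ Z) :
    ∑ x : K, avg ρ K (ρ (φ x)) = ((Nat.card Z : F) * Nat.card K) • 1 := by
  classical
  have : ∀ x : K, avg ρ K (ρ (φ x)) = if (x : L) ∈ Z then (Nat.card K : F) • 1 else 0 := by
    intro x
    split_ifs with hx
    · rw [h1 x hx, ← map_one ρ, h.avg_mem Z.one_mem]
    · exact h.avg_notMem (hφ x) fun e => hx (h2 x e)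
  rw [Finset.sum_congr rfl fun x _ => this x, ← Finset.sum_filter, Finset.sum_const,
    ← Nat.cast_smul_eq_nsmul F, smul_smul]
  congr 3
  rw [← Nat.card_congr (subgroupOfEquivOfLe h.le).toEquiv, Nat.card_eq_fintype_card,
    Fintype.card_subtype]
  rfl

variable [IsAlgClosed F] [FiniteDimensional F W] [Nontrivial W]

theorem mem_span_g (h : HHRep ρ K Z g) : ρ g ∈ Submodule.span F (ρ '' K) := by
  by_cases hg1 : g = 1
  · exact Submodule.subset_span ⟨1, K.one_mem, by rw [hg1]⟩
  let _ := Fintype.ofFinite K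
  have hn := h.norm g (mem_zpowers g)
  have hn' := h.norm g⁻¹ (inv_mem (mem_zpowers g))
  let S : End F W := ∑ x : K, ρ (g * x * g⁻¹ * (x : L)⁻¹)
  have hS : S ∈ Submodule.span F (ρ '' K) :=
    Submodule.sum_mem _ fun x _ =>
      Submodule.subset_span ⟨_, K.mul_mem (hn x x.2) (K.inv_mem x.2), rfl⟩
  have hSK : ∀ y ∈ K, ρ (g * y * g⁻¹) * S = S * ρ y := by
    intro y hy
    simp only [S, mul_sum, sum_mul, ← map_mul]
    refine Fintype.sum_equiv (Equiv.mulLeft (⟨y, hy⟩ : K)) _ _ fun x => ?_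
    congr 1
    simp [mul_assoc]
  let α : K ≃ K :=
    { toFun := fun x => ⟨g * x * g⁻¹, hn x x.2⟩
      invFun := fun x => ⟨g⁻¹ * x * g⁻¹⁻¹, hn' x x.2⟩
      left_inv := fun x => by ext; simp [mul_assoc]
      right_inv := fun x => by ext; simp [mul_assoc] }
  have hSg : ρ g * S = S * ρ g := by
    simp only [S, mul_sum, sum_mul, ← map_mul]
    refine Fintype.sum_equiv α _ _ fun x => ?_
    congr 1
    simp [α, mul_assoc]
  obtain ⟨c, hc⟩ := h.schur (ρ g⁻¹ * S) (fun y hy => by
    rw [mul_assoc, ← hSK y hy, ← mul_assoc, ← mul_assoc, ← map_mul, ← map_mul]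
    congr 2
    group) (by
    rw [mul_assoc, ← hSg, ← mul_assoc, ← mul_assoc, ← map_mul, ← map_mul]
    congr 2
    group)
  have hSc : S = c • ρ g := by
    have := congr(ρ g * $hc)
    rwa [← mul_assoc, ← map_mul, mul_inv_cancel, map_one, one_mul, mul_smul_comm, mul_one] at this
  have hc0 : c ≠ 0 := by
    rintro rfl
    have e := h.sum_avg (fun x : K => g * x * g⁻¹ * (x : L)⁻¹)
      (fun x => K.mul_mem (hn x x.2) (K.inv_mem x.2))
      (fun x hx => by
        rw [map_mul, map_mul, map_mul, h.conj_eq hx, ← map_mul, mul_inv_cancel, map_one])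
      (fun x hx => h.fpf g (mem_zpowers g) hg1 x x.2 hx)
    rw [← map_sum] at e
    change avg ρ K S = _ at e
    rw [hSc, zero_smul, map_zero, eq_comm, smul_eq_zero] at e
    exact e.elim (mul_ne_zero h.cardZ h.cardK) one_ne_zero
  have : ρ g = c⁻¹ • S := by rw [hSc, smul_smul, inv_mul_cancel₀ hc0, one_smul]
  rw [this]
  exact Submodule.smul_mem _ _ hS

theorem schurK (h : HHRep ρ K Z g) (X : End F W) (hK : ∀ x ∈ K, ρ x * X = X * ρ x) :
    ∃ c : F, X = c • (1 : End F W) := by
  refine h.schur X hK ?_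
  have : ∀ Y ∈ Submodule.span F (ρ '' K), Y * X = X * Y := by
    intro Y hY
    induction hY using Submodule.span_induction with
    | mem Y hY => obtain ⟨x, hx, rfl⟩ := hY; exact hK x hx
    | zero => simp
    | add _ _ _ _ h1 h2 => rw [add_mul, mul_add, h1, h2]
    | smul c _ _ h1 => rw [smul_mul_assoc, mul_smul_comm, h1]
  exact this _ h.mem_span_g

/-- Burnside: `ρ K` spans the endomorphism algebra. -/
theorem mem_span (h : HHRep ρ K Z g) (X : End F W) : X ∈ Submodule.span F (ρ '' K) := by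
  classical
  let _ := Fintype.ofFinite K
  have hc : ∀ x : K, ∃ c : F, avg ρ K (X * ρ (x : L)⁻¹) = c • (1 : End F W) := fun x =>
    h.schurK _ fun y hy => avg_comm _ hy
  choose c hc using hc
  have key : ∑ x : K, c x • ρ x = ((Nat.card Z : F) * Nat.card K) • X := by
    have e1 : ∀ x : K, c x • ρ x = ∑ y : K, ρ y * X * (ρ (x : L)⁻¹ * ρ (y : L)⁻¹ * ρ x) := by
      intro x
      conv_lhs => rw [← one_mul (ρ x), ← smul_mul_assoc, ← hc, avg_apply, sum_mul]
      simp only [mul_assoc]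
    have e2 : ∀ y : K, ∑ x : K, ρ (x : L)⁻¹ * ρ (y : L)⁻¹ * ρ x = avg ρ K (ρ (y : L)⁻¹) := by
      intro y
      rw [avg_apply]
      exact Fintype.sum_equiv (Equiv.inv K) _ _ fun x => by simp
    rw [Finset.sum_congr rfl fun x _ => e1 x, Finset.sum_comm]
    simp only [← mul_sum, e2]
    have e3 : ∀ y : K, ρ y * X * avg ρ K (ρ (y : L)⁻¹) =
        if (y : L) ∈ Z then (Nat.card K : F) • X else 0 := by
      intro y
      split_ifs with hy
      · obtain ⟨d, hd⟩ := h.scalar _ hy
        rw [h.avg_mem (Z.inv_mem hy), mul_smul_comm]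
        congr 1
        have : ρ y * X = X * ρ y := by rw [hd]; simp
        rw [this, mul_assoc, ← map_mul, mul_inv_cancel, map_one, mul_one]
      · rw [h.avg_notMem (K.inv_mem y.2) (fun e => hy (by simpa using e)), mul_zero]
    rw [Finset.sum_congr rfl fun y _ => e3 y, ← Finset.sum_filter, Finset.sum_const,
      ← Nat.cast_smul_eq_nsmul F, smul_smul]
    congr 3
    rw [← Nat.card_congr (subgroupOfEquivOfLe h.le).toEquiv, Nat.card_eq_fintype_card,
      Fintype.card_subtype]
    rfl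
  have : X = ((Nat.card Z : F) * Nat.card K)⁻¹ • ∑ x : K, c x • ρ x := by
    rw [key, smul_smul, inv_mul_cancel₀ (mul_ne_zero h.cardZ h.cardK), one_smul]
  rw [this]
  exact Submodule.smul_mem _ _ (Submodule.sum_mem _ fun x _ =>
    Submodule.smul_mem _ _ (Submodule.subset_span ⟨x, x.2, rfl⟩))

theorem relIndex_le (h : HHRep ρ K Z g) : Z.relIndex K ≤ finrank F W ^ 2 := by
  classical
  let _ := Fintype.ofFinite (K ⧸ Z.subgroupOf K)
  have hli : LinearIndependent F (fun q : K ⧸ Z.subgroupOf K => ρ (q.out : K)) := by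
    rw [Fintype.linearIndependent_iff]
    intro c hc q
    have := congr(avg ρ K ($hc * ρ ((q.out : K) : L)⁻¹))
    rw [zero_mul, map_zero, sum_mul, map_sum, Finset.sum_eq_single q] at this
    · rw [smul_mul_assoc, ← map_mul, mul_inv_cancel, map_smul, h.avg_mem Z.one_mem, map_one,
        smul_smul, smul_eq_zero] at this
      exact (mul_eq_zero.1 (this.resolve_right one_ne_zero)).resolve_right h.cardK
    · intro q' _ hq'
      rw [smul_mul_assoc, ← map_mul, map_smul,
        h.avg_notMem (K.mul_mem q'.out.2 (K.inv_mem q.out.2)), smul_zero]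
      intro hZ
      apply hq'
      rw [← QuotientGroup.out_eq' q', ← QuotientGroup.out_eq' q, eq_comm, QuotientGroup.eq,
        mem_subgroupOf]
      have e := Z.mul_mem (h.comm _ (h.le hZ) _ (K.inv_mem q.out.2)) hZ
      rw [Subgroup.coe_mul, Subgroup.coe_inv]
      convert e using 1
      group
    · simp
  have := hli.fintype_card_le_finrank
  rw [Module.finrank_linearMap, ← sq, ← Nat.card_eq_fintype_card] at this
  exact this

/-- representatives for the orbits of `Z ⋊ ⟨g⟩` on `K \ Z` -/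
theorem exists_reps (h : HHRep ρ K Z g) : ∃ (t : ℕ) (y : Fin t → L),
    Z.relIndex K = 1 + orderOf g * t ∧
    ∀ x ∈ K, x ∉ Z → ∃ z ∈ Z, ∃ k < orderOf g, ∃ j : Fin t,
      x = z * (g ^ k * y j * (g ^ k)⁻¹) := by
  let Γ := Z ⋊[(Z.normalizerMonoidHom).comp (inclusion h.normZ)] zpowers g
  let X := {x : L // x ∈ K ∧ x ∉ Z}
  let _ : MulAction Γ X :=
    { smul := fun za x => ⟨za.left * (za.right * x * (za.right : L)⁻¹),
        K.mul_mem (h.le za.left.2) (h.norm _ za.right.2 _ x.2.1), fun hZ => x.2.2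
          ((mem_normalizer_iff.1 (h.normZ za.right.2) x).2
            ((Z.mul_mem_cancel_left za.left.2).1 hZ))⟩
      one_smul := fun x => Subtype.ext (by
        change ((1 : Z) : L) * (((1 : zpowers g) : L) * x * ((1 : zpowers g) : L)⁻¹) = x
        simp)
      mul_smul := fun za zb x => Subtype.ext (by
        change (za.left : L) * (za.right * zb.left * (za.right : L)⁻¹) *
          (((za.right * zb.right : zpowers g) : L) * x *
          ((za.right * zb.right : zpowers g) : L)⁻¹) =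
          za.left * (za.right * (zb.left * (zb.right * x * (zb.right : L)⁻¹)) * (za.right : L)⁻¹)
        simp [mul_assoc]) }
  have hfree : ∀ x : X, MulAction.stabilizer Γ x = ⊥ := by
    intro x
    rw [eq_bot_iff]
    rintro ⟨z, a⟩ hx
    have e : (z : L) * (a * x * (a : L)⁻¹) = x := congr(($(MulAction.mem_stabilizer_iff.1 hx) : L))
    have ha : (a : L) = 1 := by
      by_contra ha
      refine x.2.2 (h.fpf a a.2 ha x x.2.1 ?_)
      have : (a : L) * x * (a : L)⁻¹ * (x : L)⁻¹ = (z : L)⁻¹ := by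
        rw [eq_inv_iff_mul_eq_one, ← mul_left_inj (z : L)⁻¹, mul_inv_cancel_right, one_mul,
          ← mul_right_inj (z : L), ← mul_assoc, e]
        simp
      rw [this]
      exact Z.inv_mem z.2
    rw [ha] at e
    simp only [one_mul, inv_one, mul_one, mul_eq_right] at e
    exact mem_bot.2 (SemidirectProduct.ext (Subtype.ext e) (Subtype.ext ha))
  let Q := Quotient (MulAction.orbitRel Γ X)
  let e : Q ≃ Fin (Nat.card Q) := Finite.equivFin Q
  refine ⟨Nat.card Q, fun j => ((e.symm j).out : X), ?_, fun x hx hxZ => ?_⟩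
  · have h1 := Nat.card_congr (MulAction.selfEquivOrbitsQuotientProd hfree)
    rw [Nat.card_prod, SemidirectProduct.card, Nat.card_zpowers] at h1
    have h2 : Nat.card K = Nat.card Z + Nat.card X := by
      rw [← Nat.card_sum]
      classical
      refine Nat.card_congr (((Equiv.sumCompl (fun x : K => (x : L) ∈ Z)).symm).trans
        (Equiv.sumCongr ?_ ?_))
      · exact (subgroupOfEquivOfLe h.le).toEquiv
      · exact Equiv.subtypeSubtypeEquivSubtypeInter (fun x : L => x ∈ K) (fun x => x ∉ Z)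
    have h3 : Nat.card Z * Z.relIndex K = Nat.card K := by
      rw [← relIndex_bot_left, ← relIndex_bot_left, relIndex_mul_relIndex _ _ _ bot_le h.le]
    apply Nat.eq_of_mul_eq_mul_left (Nat.card_pos (α := Z))
    rw [h3, h2, h1]
    change _ + Nat.card Q * _ = _
    ring
  · let x' : X := ⟨x, hx, hxZ⟩
    have : x' ∈ MulAction.orbit Γ (Quotient.mk'' x' : Q).out :=
      (MulAction.orbitRel _ _).symm (Quotient.exact (Quotient.out_eq (Quotient.mk'' x' : Q)))
    obtain ⟨⟨z, a⟩, hza⟩ := this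
    obtain ⟨k, hk⟩ := (mem_powers_iff_mem_zpowers.2 a.2 : (a : L) ∈ Submonoid.powers g)
    refine ⟨z, z.2, k % orderOf g, Nat.mod_lt _ (orderOf_pos g), e (Quotient.mk'' x'), ?_⟩
    simp only [Equiv.symm_apply_apply, pow_mod_orderOf] at hk ⊢
    rw [hk]
    exact congr(($hza : L)).symm

/-- Every endomorphism commuting with `g` is a scalar plus a combination of norms. -/
theorem exists_norms (h : HHRep ρ K Z g) : ∃ (t : ℕ) (y : Fin t → End F W),
    finrank F W ^ 2 = Z.relIndex K ∧ Z.relIndex K = 1 + orderOf g * t ∧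
    ∀ c : End F W, ρ g * c = c * ρ g → ∃ (a : F) (s : Fin t → F),
      c = a • 1 + ∑ j, s j • ∑ k ∈ range (orderOf g), ρ (g ^ k) * y j * ρ (g ^ k)⁻¹ := by
  classical
  obtain ⟨t, y, ht, hy⟩ := h.exists_reps
  have : NeZero (orderOf g) := ⟨(orderOf_pos g).ne'⟩
  let b : Option (Fin t × ZMod (orderOf g)) → End F W := fun i =>
    i.elim 1 fun jk => ρ (g ^ jk.2.val) * ρ (y jk.1) * ρ (g ^ jk.2.val)⁻¹
  have hsp : ⊤ ≤ Submodule.span F (Set.range b) := by
    intro X _
    refine Submodule.span_le.2 ?_ (h.mem_span X)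
    rintro _ ⟨x, hx, rfl⟩
    by_cases hxZ : x ∈ Z
    · obtain ⟨c, hc⟩ := h.scalar x hxZ
      rw [hc]
      exact Submodule.smul_mem _ _ (Submodule.subset_span ⟨none, rfl⟩)
    · obtain ⟨z, hz, k, hk, j, rfl⟩ := hy x hx hxZ
      obtain ⟨c, hc⟩ := h.scalar z hz
      rw [map_mul, hc, smul_mul_assoc, one_mul, map_mul, map_mul]
      refine Submodule.smul_mem _ _ (Submodule.subset_span ⟨some (j, (k : ZMod _)), ?_⟩)
      simp only [b, Option.elim, ZMod.val_natCast_of_lt hk]
  have hcard : Fintype.card (Option (Fin t × ZMod (orderOf g))) = Z.relIndex K := by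
    rw [Fintype.card_option, Fintype.card_prod, Fintype.card_fin, ZMod.card, ht]
    ring
  have hD : finrank F W ^ 2 = Z.relIndex K := by
    refine le_antisymm ?_ h.relIndex_le
    have := finrank_range_le_card (R := F) b
    rwa [Set.finrank, top_le_iff.1 hsp, finrank_top, Module.finrank_linearMap, ← sq, hcard] at this
  let B := basisOfTopLeSpanOfCardEqFinrank b hsp
    (by rw [hcard, Module.finrank_linearMap, ← sq, hD])
  have hB : ∀ i, B i = b i := fun i => by simp [B]
  refine ⟨t, fun j => ρ (y j), hD, ht, fun c hc => ?_⟩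
  let σ : Equiv.Perm (Option (Fin t × ZMod (orderOf g))) :=
    Equiv.optionCongr (Equiv.prodCongr (Equiv.refl _) (Equiv.addRight 1))
  have hT : ∀ i, ρ g * b i * ρ g⁻¹ = b (σ i) := by
    rintro (_ | ⟨j, k⟩)
    · simp [b, σ, ← map_mul]
    · have e : g ^ (k + 1).val = g * g ^ k.val := by
        rw [← pow_succ', pow_eq_pow_iff_modEq, ← ZMod.natCast_eq_natCast_iff]
        simp
      change _ = ρ (g ^ (k + 1).val) * ρ (y j) * ρ (g ^ (k + 1).val)⁻¹
      rw [e]
      simp [b, mul_assoc]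
  have hinv : ∀ i, B.repr c (σ i) = B.repr c i := by
    have e1 : ρ g * c * ρ g⁻¹ = c := by rw [hc, mul_assoc, ← map_mul, mul_inv_cancel, map_one, mul_one]
    have e2 : c = ∑ i, B.repr c (σ.symm i) • B i := by
      conv_lhs => rw [← e1, ← B.sum_repr c]
      rw [mul_sum, sum_mul]
      refine Fintype.sum_equiv σ _ _ fun i => ?_
      rw [mul_smul_comm, smul_mul_assoc, hB, hB, hT, Equiv.symm_apply_apply]
    intro i
    have e3 := congrFun (B.repr_sum_self fun i => B.repr c (σ.symm i)) (σ i)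
    rwa [← e2, Equiv.symm_apply_apply] at e3
  have hconst : ∀ j (k : ZMod (orderOf g)), B.repr c (some (j, k)) = B.repr c (some (j, 0)) := by
    intro j k
    rw [← ZMod.natCast_zmod_val k]
    induction k.val with
    | zero => simp
    | succ n ih => rw [← ih, ← hinv (some (j, (n : ZMod _)))]; simp [σ]
  refine ⟨B.repr c none, fun j => B.repr c (some (j, 0)), ?_⟩
  conv_lhs => rw [← B.sum_repr c]
  rw [Fintype.sum_option, Fintype.sum_prod_type, hB]
  congr 1
  refine sum_congr rfl fun j _ => ?_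
  rw [smul_sum]
  simp only [hconst j, hB, b, Option.elim]
  refine Finset.sum_bij (fun k _ => k.val) (fun k _ => mem_range.2 k.val_lt)
    (fun _ _ _ _ e => ZMod.val_injective _ e)
    (fun k hk => ⟨(k : ZMod _), mem_univ _, ZMod.val_natCast_of_lt (mem_range.1 hk)⟩) fun _ _ => rfl

/-- The core of Theorem B of Hall and Higman. -/
theorem main {p m : ℕ} [Fact p.Prime] [CharP F p] (h : HHRep ρ K Z g) (hg : orderOf g = p ^ m)
    (hZ : Z.relIndex K ≠ 1) (h0 : (ρ g - 1) ^ (p ^ m - 1) = 0) :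
    (p ^ m - 1) ^ 2 = Z.relIndex K ∧ (ρ g - 1) ^ (p ^ m - 2) ≠ 0 := by
  classical
  obtain ⟨t, y, hD, ht, hc⟩ := h.exists_norms
  set N := ρ g - 1 with hN
  have hcomm : ∀ c : End F W, N * c = c * N → ρ g * c = c * ρ g := fun c e => by
    rwa [hN, sub_mul, mul_sub, one_mul, mul_one, sub_left_inj] at e
  have hex : ∃ r, N ^ r = 0 := ⟨_, h0⟩
  have hr0 : Nat.find hex ≠ 0 := fun e => by
    have := Nat.find_spec hex
    rw [e, pow_zero] at this
    exact one_ne_zero this
  obtain ⟨r, hr⟩ := Nat.exists_eq_succ_of_ne_zero hr0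
  have hr1 : N ^ (r + 1) = 0 := by rw [← Nat.succ_eq_add_one, ← hr]; exact Nat.find_spec hex
  have hr2 : N ^ r ≠ 0 := Nat.find_min hex (by omega)
  have hr3 : r + 1 ≤ p ^ m - 1 := by rw [← Nat.succ_eq_add_one, ← hr]; exact Nat.find_min' hex h0
  have hmod : ∀ (k : ℕ) (u : W), ρ (g ^ k) u - u ∈ LinearMap.range N := by
    intro k u
    refine ⟨(∑ i ∈ range k, ρ g ^ i) u, ?_⟩
    rw [← End.mul_apply, hN, mul_geom_sum, map_pow]
    rfl
  have hinv : ∑ k ∈ range (orderOf g), ρ (g ^ k)⁻¹ = 0 := by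
    simp only [← inv_pow, map_pow]
    rw [hg, sum_pow_eq_sub_one_pow F p m]
    have e : ρ g⁻¹ - 1 = -ρ g⁻¹ * N := by
      rw [hN, mul_sub, neg_mul, ← map_mul, inv_mul_cancel, map_one, mul_one]
      abel
    have e2 : Commute (-ρ g⁻¹) N :=
      (Commute.sub_right ((Commute.refl g).inv_left.map ρ) (Commute.one_right _)).neg_left
    rw [e, e2.mul_pow, h0, mul_zero]
  obtain ⟨v, hv⟩ := exists_cyclic_of_comm_scalar N r hr1 hr2 fun c e => by
    obtain ⟨a, s, rfl⟩ := hc c (hcomm c e)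
    refine ⟨a, fun w => ?_⟩
    simp only [LinearMap.add_apply, LinearMap.smul_apply, End.one_apply, add_sub_cancel_left,
      LinearMap.sum_apply]
    refine Submodule.sum_mem _ fun j _ => Submodule.smul_mem _ _ ?_
    have e1 : ∑ k ∈ range (orderOf g), y j (ρ (g ^ k)⁻¹ w) = 0 := by
      rw [← map_sum, ← LinearMap.sum_apply, hinv, LinearMap.zero_apply, map_zero]
    rw [← sub_zero (∑ k ∈ _, _), ← e1, ← sum_sub_distrib]
    exact Submodule.sum_mem _ fun k _ => hmod k _
  have hD1 : finrank F W ≤ r + 1 := by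
    have := finrank_range_le_card (R := F) fun i : Fin (r + 1) => (N ^ (i : ℕ)) v
    rwa [Set.finrank, hv, finrank_top, Fintype.card_fin] at this
  have hD2 : finrank F W ≤ t + 1 := by
    let f : Option (Fin t) → W := fun i =>
      i.elim v fun j => (∑ k ∈ range (orderOf g), ρ (g ^ k) * y j * ρ (g ^ k)⁻¹) v
    have h1 : ⊤ ≤ Submodule.span F (Set.range f) := by
      rw [← hv, Submodule.span_le]
      rintro _ ⟨i, rfl⟩
      obtain ⟨a, s, e⟩ := hc (N ^ (i : ℕ)) (hcomm _ ((Commute.refl N).pow_right i).eq)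
      simp only [e, LinearMap.add_apply, LinearMap.smul_apply, End.one_apply]
      rw [LinearMap.sum_apply]
      exact Submodule.add_mem _ (Submodule.smul_mem _ _ (Submodule.subset_span ⟨none, rfl⟩))
        (Submodule.sum_mem _ fun j _ => Submodule.smul_mem _ _
          (Submodule.subset_span ⟨some j, rfl⟩))
    have := finrank_range_le_card (R := F) f
    rwa [Set.finrank, top_le_iff.1 h1, finrank_top, Fintype.card_option, Fintype.card_fin] at this
  rw [← hD] at hZ ⊢
  rw [← hD, hg] at ht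
  have hpos : 0 < finrank F W := finrank_pos
  generalize finrank F W = D at *
  generalize p ^ m = P at *
  obtain ⟨D, rfl⟩ : ∃ D', D = D' + 1 := ⟨D - 1, by omega⟩
  have hD0 : 0 < D := Nat.pos_of_ne_zero fun e => hZ (by simp [e])
  have h3 : P ≤ D + 2 := by
    have h4 : P * D ≤ (D + 2) * D := by nlinarith [Nat.mul_le_mul_left P (by omega : D ≤ t)]
    exact Nat.le_of_mul_le_mul_right h4 hD0
  refine ⟨by rw [show P - 1 = D + 1 by omega], ?_⟩
  rwa [show P - 2 = r by omega]

end HHRep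

end CL.PL
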