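import Cfsg.Agent.Base
import Cfsg.Agent.PLocal.HHRep
import Cfsg.Agent.PLocal.PSolv
import Cfsg.Agent.BG.A3_MinAct
import Cfsg.Agent.BG.Elem
import Cfsg.Agent.BG.PAmb

/-!
# Theorem B of Hall and Higman: Clifford theory and the group-theoretic reduction
-/

set_option autoImplicit false
set_option linter.unusedSectionVars false

namespace CL.PL

open Module Subgroup Finset CL.BG Cfsg

section Clifford

variable {F V G : Type*} [Field F] [AddCommGroup V] [Module F V] [Group G] [Finite G]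
  {ρ : G →* End F V} {Q : Subgroup G} {W W' : Submodule F V}

/-- The stabilizer of a subspace. -/
def hhStab (ρ : G →* End F V) (W : Submodule F V) : Subgroup G where
  carrier := {h | ∀ w ∈ W, ρ h w ∈ W}
  one_mem' := fun w hw => by simpa using hw
  mul_mem' := fun {a b} ha hb w hw => by
    rw [map_mul, End.mul_apply]; exact ha _ (hb w hw)
  inv_mem' := fun {a} ha w hw => by
    have h1 : a⁻¹ = a ^ (orderOf a - 1) := by
      rw [eq_comm, eq_inv_iff_mul_eq_one, ← pow_succ, Nat.sub_add_cancel (orderOf_pos a),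
        pow_orderOf_eq_one]
    rw [h1]
    generalize orderOf a - 1 = k
    induction k with
    | zero => simpa using hw
    | succ k ih => rw [pow_succ', map_mul, End.mul_apply]; exact ha _ ih

theorem rho_inv_apply (ρ : G →* End F V) (a : G) (v : V) : ρ a⁻¹ (ρ a v) = v := by
  rw [← End.mul_apply, ← map_mul, inv_mul_cancel, map_one, End.one_apply]

theorem rho_apply_inv (ρ : G →* End F V) (a : G) (v : V) : ρ a (ρ a⁻¹ v) = v := by
  rw [← End.mul_apply, ← map_mul, mul_inv_cancel, map_one, End.one_apply]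

theorem conj_scalar {a k : G} {c : F} (ha : a ∈ hhStab ρ W) (hk : ∀ w ∈ W, ρ k w = c • w) :
    ∀ w ∈ W, ρ (a * k * a⁻¹) w = c • w := fun w hw => by
  rw [map_mul, map_mul, End.mul_apply, End.mul_apply, hk _ (inv_mem ha w hw), map_smul,
    rho_apply_inv]

theorem comm_trivial {a k : G} {c : F} (ha : a ∈ hhStab ρ W) (hkW : k ∈ hhStab ρ W)
    (hk : ∀ w ∈ W, ρ k w = c • w) : ∀ w ∈ W, ρ (a * k * a⁻¹ * k⁻¹) w = w := fun w hw => by
  have h1 := inv_mem hkW w hw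
  rw [map_mul, End.mul_apply, conj_scalar ha hk _ h1, ← hk _ h1, rho_apply_inv]

/-- The elements of `Q` acting as scalars on `W`. -/
def hhScal (ρ : G →* End F V) (Q : Subgroup G) (W : Submodule F V) : Subgroup G where
  carrier := {k | k ∈ Q ∧ ∃ c : F, ∀ w ∈ W, ρ k w = c • w}
  one_mem' := ⟨Q.one_mem, 1, fun w _ => by simp⟩
  mul_mem' := fun {a b} ⟨ha, c, hc⟩ ⟨hb, d, hd⟩ => ⟨Q.mul_mem ha hb, d * c, fun w hw => by
    rw [map_mul, End.mul_apply, hd w hw, map_smul, hc w hw, smul_smul]⟩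
  inv_mem' := fun {a} ⟨ha, c, hc⟩ => ⟨Q.inv_mem ha, c⁻¹, fun w hw => by
    have h1 := rho_inv_apply ρ a w
    rw [hc w hw, map_smul] at h1
    by_cases h0 : c = 0
    · rw [h0, zero_smul] at h1
      simp [← h1]
    · rw [eq_inv_smul_iff₀ h0, h1]⟩

/-- `W` is a homogeneous component for the class two group `Q`. -/
structure HHTyp (ρ : G →* End F V) (Q : Subgroup G) (W : Submodule F V) : Prop where
  ne : W ≠ ⊥
  inv : Q ≤ hhStab ρ W
  dich : ∀ k ∈ Q, (∃ c : F, ∀ w ∈ W, ρ k w = c • w) ∨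
    ∃ y ∈ Q, ∃ c : F, c ≠ 1 ∧ ∀ w ∈ W, ρ (y * k * y⁻¹ * k⁻¹) w = c • w
  max : ∀ v : V, (∀ k ∈ Q, ∀ c : F, (∀ w ∈ W, ρ k w = c • w) → ρ k v = c • v) → v ∈ W

theorem HHTyp.map (h : HHTyp ρ Q W) {a : G} (ha : a ∈ 𝐍(Q)) : HHTyp ρ Q (W.map (ρ a)) := by
  have key : ∀ (k : G) (c : F), (∀ w ∈ W.map (ρ a), ρ (a * k * a⁻¹) w = c • w) ↔
      ∀ w ∈ W, ρ k w = c • w := by
    intro k c
    refine ⟨fun h1 w hw => ?_, ?_⟩
    · have h2 := congrArg (ρ a⁻¹) (h1 _ (Submodule.mem_map_of_mem hw))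
      rwa [map_mul, map_mul, End.mul_apply, End.mul_apply, rho_inv_apply, rho_inv_apply, map_smul,
        rho_inv_apply] at h2
    · rintro h1 _ ⟨w, hw, rfl⟩
      rw [map_mul, map_mul, End.mul_apply, End.mul_apply, rho_inv_apply, h1 w hw, map_smul]
  have hk : ∀ k : G, k = a * (a⁻¹ * k * a) * a⁻¹ := fun k => by group
  refine ⟨fun e => h.ne (eq_bot_iff.2 fun w hw => ?_), ?_, fun k hk' => ?_, fun v hv => ?_⟩
  · have h1 : ρ a w = 0 := (Submodule.eq_bot_iff _).1 e _ (Submodule.mem_map_of_mem hw)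
    rw [← rho_inv_apply ρ a w, h1, map_zero]
    exact Submodule.zero_mem _
  · rintro k hk' _ ⟨w, hw, rfl⟩
    refine ⟨_, h.inv (conj_mem_of_mem_norm' ha hk') w hw, ?_⟩
    rw [map_mul, map_mul, End.mul_apply, End.mul_apply, rho_apply_inv]
  · rcases h.dich _ (conj_mem_of_mem_norm' ha hk') with ⟨c, hc⟩ | ⟨y, hy, c, hc1, hc⟩
    · exact Or.inl ⟨c, hk k ▸ (key _ c).2 hc⟩
    · refine Or.inr ⟨a * y * a⁻¹, conj_mem_of_mem_norm ha hy, c, hc1, ?_⟩
      have := (key _ c).2 hc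
      convert this using 4
      group
  · refine ⟨ρ a⁻¹ v, h.max _ fun k hk' c hc => ?_, rho_apply_inv ρ a v⟩
    have h1 := congrArg (ρ a⁻¹) (hv _ (conj_mem_of_mem_norm ha hk') c ((key k c).2 hc))
    rwa [map_mul, map_mul, End.mul_apply, End.mul_apply, rho_inv_apply, map_smul] at h1

theorem HHTyp.le_of_mem (h : HHTyp ρ Q W) (h' : HHTyp ρ Q W') {v : V} (hv : v ∈ W) (hv' : v ∈ W')
    (h0 : v ≠ 0) : W' ≤ W := by
  refine fun w hw => h.max w fun k hk c hc => ?_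
  rcases h'.dich k hk with ⟨d, hd⟩ | ⟨y, hy, d, hd1, hd⟩
  · rw [hd w hw, smul_left_injective F h0 ((hd v hv').symm.trans (hc v hv))]
  · have h1 := (hd v hv').symm.trans (comm_trivial (h.inv hy) (h.inv hk) hc v hv)
    exact absurd (smul_left_injective F h0 (h1.trans (one_smul F v).symm)) hd1

theorem HHTyp.exists_proj (h : HHTyp ρ Q W) (hQ : (Nat.card Q : F) ≠ 0) :
    ∃ e : End F V, (∀ w ∈ W, e w = w) ∧
      ∀ W' : Submodule F V, HHTyp ρ Q W' → W' ≠ W → ∀ w ∈ W', e w = 0 := by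
  set R := hhScal ρ Q W
  let _ := Fintype.ofFinite R
  have hR : (Nat.card R : F) ≠ 0 := fun e => hQ (by
    obtain ⟨m, hm⟩ := Subgroup.card_dvd_of_le (show R ≤ Q from fun _ hk => hk.1)
    rw [hm, Nat.cast_mul, e, zero_mul])
  choose μ hμ using fun k : R => k.2.2
  obtain ⟨v, hv, hv0⟩ := Submodule.exists_mem_ne_zero_of_ne_bot h.ne
  have hmul : ∀ k l : R, μ (k * l) = μ k * μ l := fun k l => by
    apply smul_left_injective F hv0
    simp only
    rw [← hμ _ v hv, Subgroup.coe_mul, map_mul, End.mul_apply, hμ l v hv, map_smul, hμ k v hv,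
      smul_smul, mul_comm]
  have hone : μ 1 = 1 := by
    apply smul_left_injective F hv0
    simp only
    rw [← hμ _ v hv]
    simp
  let E : End F V := ∑ k : R, μ k⁻¹ • ρ k
  have hEW : ∀ u, E u ∈ W := fun u => h.max _ fun k hk c hc => by
    let k' : R := ⟨k, hk, c, hc⟩
    have h1 : μ k' = c := smul_left_injective F hv0 ((hμ k' v hv).symm.trans (hc v hv))
    simp only [E, LinearMap.sum_apply, LinearMap.smul_apply, map_sum, map_smul, smul_sum, smul_smul]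
    refine Fintype.sum_equiv (Equiv.mulLeft k') _ _ fun l => ?_
    rw [Equiv.coe_mulLeft, Subgroup.coe_mul, map_mul, End.mul_apply, ← h1, mul_comm, ← hmul]
    simp [k']
  refine ⟨(Nat.card R : F)⁻¹ • E, fun w hw => ?_, fun W' h' hne w hw => ?_⟩
  · simp only [E, LinearMap.sum_apply, LinearMap.smul_apply]
    rw [Finset.sum_congr rfl (g := fun _ => w) fun k _ => by
      rw [hμ k w hw, smul_smul, ← hmul, inv_mul_cancel, hone, one_smul]]
    rw [sum_const, card_univ, ← Nat.card_eq_fintype_card, ← Nat.cast_smul_eq_nsmul F, smul_smul,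
      inv_mul_cancel₀ hR, one_smul]
  · have h1 : E w ∈ W' := by
      simp only [E, LinearMap.sum_apply, LinearMap.smul_apply]
      exact Submodule.sum_mem _ fun k _ => Submodule.smul_mem _ _ (h'.inv k.2.1 w hw)
    have h2 : E w = 0 := by
      by_contra h0
      exact hne (le_antisymm (h.le_of_mem h' (hEW w) h1 h0) (h'.le_of_mem h h1 (hEW w) h0))
    rw [LinearMap.smul_apply, h2, smul_zero]

variable [IsAlgClosed F] [FiniteDimensional F V]

theorem exists_hhTyp (hQ : (Nat.card Q : F) ≠ 0) (hcl : ⁅Q, Q⁆ ≤ 𝐂(Q)) {k₀ : G} (hk₀ : k₀ ∈ Q)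
    (hne : ρ k₀ ≠ 1) : ∃ W : Submodule F V, HHTyp ρ Q W ∧ ¬ ∀ k ∈ Q, ∀ w ∈ W, ρ k w = w := by
  let _ := Fintype.ofFinite Q
  let E : End F V := ∑ k : Q, ρ k
  have hE : ∀ k ∈ Q, E * ρ k = E := fun k hk => by
    simp only [E, sum_mul, ← map_mul]
    exact Fintype.sum_equiv (Equiv.mulRight (⟨k, hk⟩ : Q)) _ _ fun _ => rfl
  obtain ⟨U, hU₀, hU, hinv, hmin⟩ := lin_exists_min_inv (fun U : Submodule F V => Q ≤ hhStab ρ U)
    (LinearMap.ker E) (fun e => hne (LinearMap.ext fun v => by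
      have h1 : ρ k₀ v - v ∈ LinearMap.ker E := by
        rw [LinearMap.mem_ker, map_sub, ← End.mul_apply, hE k₀ hk₀, sub_self]
      rw [e, Submodule.mem_bot, sub_eq_zero] at h1
      exact h1))
    (fun k hk w hw => by rw [LinearMap.mem_ker, ← End.mul_apply, hE k hk]; exact hw)
  have schur : ∀ k ∈ Q, (∀ y ∈ Q, ∀ u ∈ U, ρ (y * k * y⁻¹ * k⁻¹) u = u) →
      ∃ c : F, ∀ u ∈ U, ρ k u = c • u := by
    intro k hk hc
    obtain ⟨v, hv, hv0, hev⟩ := lin_exists_common_eigenvector {ρ k}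
      (by rintro _ rfl _ rfl; rfl) U hU (by rintro _ rfl; exact hinv hk)
    obtain ⟨c, hc'⟩ := hev _ rfl
    have h1 := (hmin (U ⊓ End.eigenspace (ρ k) c) inf_le_left fun y hy w hw => by
      refine ⟨hinv hy w hw.1, End.mem_eigenspace_iff.2 ?_⟩
      have h2 := hc y hy _ (hinv hk _ (hinv hy w hw.1))
      rw [← End.mul_apply, ← map_mul, ← End.mul_apply, ← map_mul, inv_mul_cancel_right,
        inv_mul_cancel_right, map_mul, End.mul_apply, End.mem_eigenspace_iff.1 hw.2, map_smul] at h2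
      exact h2.symm).resolve_left fun e =>
        hv0 ((Submodule.eq_bot_iff _).1 e v ⟨hv, End.mem_eigenspace_iff.2 hc'⟩)
    exact ⟨c, fun u hu => End.mem_eigenspace_iff.1 (h1.ge hu).2⟩
  let W : Submodule F V :=
    { carrier := {v | ∀ k ∈ Q, ∀ c : F, (∀ u ∈ U, ρ k u = c • u) → ρ k v = c • v}
      add_mem' := fun ha hb k hk c hc => by rw [map_add, ha k hk c hc, hb k hk c hc, smul_add]
      zero_mem' := fun k _ c _ => by simp
      smul_mem' := fun d v hv k hk c hc => by rw [map_smul, hv k hk c hc, smul_comm] }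
  have hUW : U ≤ W := fun u hu k _ c hc => hc u hu
  refine ⟨W, ⟨fun e => hU (eq_bot_iff.2 (e ▸ hUW)), fun y hy w hw k hk c hc => ?_, fun k hk => ?_,
    fun v hv k hk c hc => hv k hk c fun w hw => hw k hk c hc⟩, fun hf => ?_⟩
  · have h1 := hw _ (Q.mul_mem (Q.mul_mem (Q.inv_mem hy) hk) (Q.inv_mem (Q.inv_mem hy))) c
      (conj_scalar (hinv (Q.inv_mem hy)) hc)
    rw [inv_inv, map_mul, map_mul, End.mul_apply, End.mul_apply] at h1
    rw [← map_smul, ← h1, rho_apply_inv]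
  · by_cases hc : ∀ y ∈ Q, ∀ u ∈ U, ρ (y * k * y⁻¹ * k⁻¹) u = u
    · obtain ⟨c, hc'⟩ := schur k hk hc
      exact Or.inl ⟨c, fun w hw => hw k hk c hc'⟩
    · push Not at hc
      obtain ⟨y, hy, u, hu, hyu⟩ := hc
      have h1 : y * k * y⁻¹ * k⁻¹ ∈ Q := Q.mul_mem (Q.mul_mem (Q.mul_mem hy hk) (Q.inv_mem hy))
        (Q.inv_mem hk)
      obtain ⟨c, hc'⟩ := schur _ h1 fun z hz v _ => by
        rw [show z * (y * k * y⁻¹ * k⁻¹) = (y * k * y⁻¹ * k⁻¹) * z from
          hcl (commutator_mem_commutator hy hk) z hz]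
        simp
      exact Or.inr ⟨y, hy, c, fun e => hyu (by rw [hc' u hu, e, one_smul]),
        fun w hw => hw _ h1 c hc'⟩
  · obtain ⟨u, hu, hu0⟩ := Submodule.exists_mem_ne_zero_of_ne_bot hU
    have h1 : E u = 0 := hU₀ hu
    simp only [E, LinearMap.sum_apply] at h1
    rw [Finset.sum_congr rfl (g := fun _ => u) fun (k : Q) _ => hf k k.2 u (hUW hu), sum_const, card_univ,
      ← Nat.card_eq_fintype_card, ← Nat.cast_smul_eq_nsmul F, smul_eq_zero] at h1
    exact h1.elim hQ hu0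

/-- Theorem B of Hall and Higman for a class two group extended by a cyclic `p`-group. -/
theorem hallHigman_class_two {p n : ℕ} [hp : Fact p.Prime] [CharP F p] {x : G}
    (hx : orderOf x = p ^ n) (hQp : (Nat.card Q).Coprime p) (hxQ : zpowers x ≤ 𝐍(Q))
    (hcl : ⁅Q, Q⁆ ≤ 𝐂(Q)) (hgen : ∀ a ∈ zpowers x, a ≠ 1 → Q ≤ ⁅Q, zpowers a⁆)
    (hC : ∀ a ∈ zpowers x, a ≠ 1 → Q ⊓ 𝐂₁(a) ≤ 𝐂(Q)) {k₀ : G} (hk₀ : k₀ ∈ Q) (hne : ρ k₀ ≠ 1) :
    (ρ x - 1) ^ (p ^ n - 1) ≠ 0 ∨ ∃ m, 1 ≤ m ∧ m ≤ n ∧ (p ^ m - 1) ^ 2 ∣ Nat.card Q ∧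
      p ^ m - 1 ≠ 1 ∧ ¬ IsMulCommutative Q ∧ (ρ x - 1) ^ (p ^ (n - m) * (p ^ m - 1) - 1) ≠ 0 := by
  classical
  have hQ : (Nat.card Q : F) ≠ 0 := by
    rw [Ne, CharP.cast_eq_zero_iff F p]
    exact (Nat.Prime.coprime_iff_not_dvd hp.out).1 hQp.symm
  obtain ⟨W, hW, hnf⟩ := exists_hhTyp hQ hcl hk₀ hne
  obtain ⟨e, he1, he0⟩ := hW.exists_proj hQ
  have hex : ∃ s, x ^ p ^ s ∈ hhStab ρ W := ⟨n, by rw [← hx, pow_orderOf_eq_one]; exact one_mem _⟩
  set s := Nat.find hex with hs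
  have hg : x ^ p ^ s ∈ hhStab ρ W := Nat.find_spec hex
  have hsn : s ≤ n := Nat.find_min' hex (by rw [← hx, pow_orderOf_eq_one]; exact one_mem _)
  have hfree : ∀ i, 0 < i → i < p ^ s → x ^ i ∉ hhStab ρ W := by
    intro i hi0 hi h
    obtain ⟨j, -, hj⟩ := (Nat.dvd_prime_pow hp.out).1 (Nat.gcd_dvd_right i (p ^ s))
    have h1 : x ^ p ^ j ∈ hhStab ρ W := by
      rw [← hj, ← zpow_natCast, Nat.gcd_eq_gcd_ab, zpow_add, zpow_mul, zpow_mul, zpow_natCast,
        zpow_natCast]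
      exact mul_mem (zpow_mem h _) (zpow_mem hg _)
    have h2 : p ^ j ≤ i := hj ▸ Nat.gcd_le_left _ hi0
    exact Nat.find_min hex ((Nat.pow_lt_pow_iff_right hp.out.one_lt).1 (h2.trans_lt hi)) h1
  set g := x ^ p ^ s with hgdef
  have hind : ∀ j : ℕ, (∃ w ∈ W, ((ρ g - 1) ^ j) w ≠ 0) →
      (ρ x - 1) ^ (p ^ s * (j + 1) - 1) ≠ 0 := by
    rintro j ⟨w, hw, hw0⟩ h0
    have h1 : ∀ j : ℕ, ((ρ g - 1) ^ j) w ∈ W := fun j => by
      induction j with
      | zero => simpa using hw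
      | succ j ih => rw [pow_succ', End.mul_apply]; exact W.sub_mem (hg _ ih) ih
    have h2 : p ^ s * (j + 1) - 1 = (p ^ s - 1) + p ^ s * j := by
      have := Nat.one_le_pow s p hp.out.pos
      rw [mul_add]; omega
    rw [h2, pow_add, pow_mul, sub_one_pow_char_pow F, ← map_pow, ← sum_pow_eq_sub_one_pow F] at h0
    have h3 := congr(e ($h0 w))
    rw [End.mul_apply, LinearMap.sum_apply, map_sum, Finset.sum_eq_single 0] at h3
    · rw [pow_zero, End.one_apply, he1 _ (h1 j), LinearMap.zero_apply, map_zero] at h3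
      exact hw0 h3
    · intro i hi hi0
      rw [← map_pow]
      refine he0 _ (hW.map (hxQ (pow_mem (mem_zpowers x) i))) (fun e => ?_) _
        (Submodule.mem_map_of_mem (h1 j))
      exact hfree i (Nat.pos_of_ne_zero hi0) (mem_range.1 hi) fun u hu =>
        e.le (Submodule.mem_map_of_mem hu)
    · intro h
      exact absurd (mem_range.2 (Nat.pow_pos hp.out.pos)) h
  rcases hsn.eq_or_lt with hsn | hsn
  · obtain ⟨w, hw, hw0⟩ := Submodule.exists_mem_ne_zero_of_ne_bot hW.ne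
    have := hind 0 ⟨w, hw, by simpa using hw0⟩
    rw [zero_add, mul_one, hsn] at this
    exact Or.inl this
  obtain ⟨m, rfl⟩ := Nat.exists_eq_add_of_le hsn.le
  have hm : 1 ≤ m := by omega
  have hog : orderOf g = p ^ m := by
    rw [hgdef, orderOf_pow_of_dvd (Nat.pow_pos hp.out.pos).ne' (hx ▸ pow_dvd_pow p hsn.le), hx,
      pow_add, Nat.mul_div_cancel_left _ (Nat.pow_pos hp.out.pos)]
  have hgx : zpowers g ≤ zpowers x := zpowers_le.2 (pow_mem (mem_zpowers x) _)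
  have hgW : zpowers g ≤ hhStab ρ W := zpowers_le.2 hg
  have hg1 : g ≠ 1 := by
    rw [Ne, ← orderOf_eq_one_iff, hog]
    exact (Nat.one_lt_pow (by omega) hp.out.one_lt).ne'
  set R := hhScal ρ Q W with hR
  have hRQ : R ≤ Q := fun _ hk => hk.1
  obtain ⟨w₀, hw₀, hw₀0⟩ := Submodule.exists_mem_ne_zero_of_ne_bot hW.ne
  have hZR : ∀ k ∈ Q, k ∈ 𝐂(Q) → k ∈ R := fun k hk hc => by
    refine ⟨hk, (hW.dich k hk).resolve_right ?_⟩
    rintro ⟨y, hy, c, hc1, hc'⟩
    have h1 := hc' w₀ hw₀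
    rw [hc y hy, mul_inv_cancel_right, mul_inv_cancel, map_one, End.one_apply] at h1
    exact hc1 (smul_left_injective F hw₀0 (h1.symm.trans (one_smul F w₀).symm))
  have hQR : ¬ Q ≤ R := fun hle => by
    let T : Subgroup G :=
      { carrier := {k | ∀ w ∈ W, ρ k w = w}
        one_mem' := fun w _ => by simp
        mul_mem' := fun {a b} ha hb w hw => by rw [map_mul, End.mul_apply, hb w hw, ha w hw]
        inv_mem' := fun {a} ha w hw => by conv_lhs => rw [← ha w hw, rho_inv_apply] }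
    have h1 : ⁅zpowers g, Q⁆ ≤ T := commutator_le.2 fun a ha k hk => by
      obtain ⟨-, c, hc⟩ := hle hk
      exact comm_trivial (hgW ha) (hW.inv hk) hc
    rw [commutator_comm] at h1
    exact hnf ((hgen g (hgx (mem_zpowers g)) hg1).trans h1)
  have hgR : zpowers g ≤ 𝐍(R) := fun a ha => mem_norm_of_cj_le (cj_le_iff.2 fun k ⟨hk, c, hc⟩ =>
    ⟨conj_mem_of_mem_norm (hxQ (hgx ha)) hk, c, conj_scalar (hgW ha) hc⟩)
  have hder : ⁅Q, Q⁆ ≤ R := fun k hk => hZR k ((NormalIn.der Q).le hk) (hcl hk)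
  have hQnR : Q ≤ 𝐍(R) := (NormalIn.of_der_le hder hRQ).norm
  have hfpf : ∀ a ∈ zpowers g, a ≠ 1 → ∀ k ∈ Q, a * k * a⁻¹ * k⁻¹ ∈ R → k ∈ R := by
    intro a ha ha1 k hk h
    have hcop : (Nat.card ↥(R ⊓ Q)).Coprime (orderOf a) := by
      obtain ⟨i, -, hi⟩ := (Nat.dvd_prime_pow hp.out).1 (hog ▸ orderOf_dvd_of_mem_zpowers ha)
      rw [hi]
      exact (hQp.coprime_dvd_left (card_dvd_of_le inf_le_right)).pow_right i
    have h1 := quot_inf_cent1_of_coprime hQnR (hgR ha) (hxQ (hgx ha)) hcop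
    have h2 : quot R (zpowers k) ≤ quot R (Q ⊓ 𝐂₁(a)) := by
      rw [h1]
      refine le_inf (quot_mono _ (zpowers_le.2 hk)) ?_
      rw [quot_zpowers (hQnR hk), zpowers_le, mem_cent1, eq_comm,
        ← commutatorElement_eq_one_iff_mul_comm, ← coset_commutatorElement (hgR ha) (hQnR hk)]
      exact coset_eq_one h
    rw [quot_le_quot_iff (zpowers_le.2 (hQnR hk)) (inf_le_left.trans hQnR),
      sup_eq_right.2 fun z hz => hZR z hz.1 (hC a (hgx ha) ha1 hz)] at h2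
    exact h2 (mem_zpowers k)
  obtain ⟨U, hUW, hU, ⟨hUQ, hUg⟩, hmin⟩ := lin_exists_min_inv
    (fun U : Submodule F V => Q ≤ hhStab ρ U ∧ g ∈ hhStab ρ U) W hW.ne ⟨hW.inv, hg⟩
  let L := hhStab ρ U
  let ρ₀ : L →* End F U := Representation.subrepresentation (ρ.comp L.subtype) U fun h => h.2
  have hρ₀ : ∀ (h : L) (u : U), (ρ₀ h u : V) = ρ h u := fun _ _ => rfl
  have : Nontrivial U := Submodule.nontrivial_iff_ne_bot.2 hU
  let g₀ : L := ⟨g, hUg⟩
  have hg₀ : ∀ a ∈ zpowers g₀, (a : G) ∈ zpowers g := by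
    rintro _ ⟨k, rfl⟩
    exact ⟨k, rfl⟩
  have hrep : HHRep ρ₀ (Q.subgroupOf L) (R.subgroupOf L) g₀ := by
    refine ⟨?_, fun a ha k hk => mem_subgroupOf.2 (conj_mem_of_mem_norm (hxQ (hgx (hg₀ a ha))) hk),
      fun _ hk => hRQ hk, fun z ⟨_, c, hc⟩ => ⟨c, LinearMap.ext fun u => Subtype.ext (hc u (hUW u.2))⟩,
      fun a ha => mem_normalizer_iff.2 fun k => mem_normalizer_iff.1 (hgR (hg₀ a ha)) k,
      fun k hk y hy => hder (commutator_mem_commutator hy hk), fun k hk hc => ?_,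
      fun a ha ha1 k hk h => hfpf a (hg₀ a ha) (fun e => ha1 (Subtype.ext e)) k hk h,
      fun T hTQ hTg => ?_⟩
    · rwa [Nat.card_congr (subgroupOfEquivOfLe hUQ).toEquiv]
    · refine ⟨hk, (hW.dich k hk).resolve_right ?_⟩
      rintro ⟨y, hy, c, hc1, hc'⟩
      obtain ⟨u, hu, hu0⟩ := Submodule.exists_mem_ne_zero_of_ne_bot hU
      have h1 : ρ (y * k * y⁻¹ * (k : G)⁻¹) u = u := congr((($(hc ⟨y, hUQ hy⟩ hy) ⟨u, hu⟩ : U) : V))
      exact hc1 (smul_left_injective F hu0 (((hc' u (hUW hu)).symm.trans h1).trans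
        (one_smul F u).symm))
    · rcases hmin (T.map U.subtype) (Submodule.map_subtype_le U T) ⟨by
        rintro k hk _ ⟨u, hu, rfl⟩
        exact ⟨_, hTQ ⟨k, hUQ hk⟩ hk u hu, rfl⟩, by
        rintro _ ⟨u, hu, rfl⟩
        exact ⟨_, hTg u hu, rfl⟩⟩ with h | h
      · exact Or.inl (eq_bot_iff.2 fun u hu =>
          Subtype.ext ((Submodule.eq_bot_iff _).1 h _ (Submodule.mem_map_of_mem hu)))
      · refine Or.inr (eq_top_iff.2 fun u _ => ?_)
        obtain ⟨u', hu', e⟩ := h.ge u.2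
        rwa [← show u' = u from Subtype.ext e]
  have hpow : ∀ j : ℕ, (ρ₀ g₀ - 1) ^ j ≠ 0 → ∃ w ∈ W, ((ρ g - 1) ^ j) w ≠ 0 := by
    intro j hj
    have h1 : ∀ u : U, (((ρ₀ g₀ - 1) ^ j) u : V) = ((ρ g - 1) ^ j) u := fun u => by
      clear hj
      induction j with
      | zero => rfl
      | succ j ih => rw [pow_succ', pow_succ', End.mul_apply, End.mul_apply, ← ih]; rfl
    by_contra hc
    push Not at hc
    exact hj (LinearMap.ext fun u => Subtype.ext ((h1 u).trans (hc u (hUW u.2))))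
  have hpm : 1 < p ^ m := Nat.one_lt_pow (by omega) hp.out.one_lt
  by_cases h0 : (ρ₀ g₀ - 1) ^ (p ^ m - 1) = 0
  · have hi : R.relIndex Q ≠ 1 := fun e => hQR (relIndex_eq_one.1 e)
    obtain ⟨h1, h2⟩ := hrep.main (m := m) (by rw [← hog]; exact (orderOf_coe g₀).symm)
      (by rwa [relIndex_subgroupOf hUQ]) h0
    rw [relIndex_subgroupOf hUQ] at h1
    refine Or.inr ⟨m, hm, by omega, h1 ▸ relIndex_dvd_card _ _, fun e => hi (by rw [← h1, e, one_pow]),
      fun hc => hQR fun k hk => hZR k hk (le_cent_of_comm hc hk), ?_⟩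
    have := hind _ (hpow _ h2)
    rwa [Nat.add_sub_cancel, ← show p ^ m - 2 + 1 = p ^ m - 1 by omega]
  · have := hind _ (hpow _ h0)
    rw [Nat.sub_add_cancel hpm.le, ← pow_add] at this
    exact Or.inl this

end Clifford

section Reduction

variable {G : Type*} [Group G] [Finite G] {p : ℕ} [hp : Fact p.Prime]

theorem centralizer_pPrimeCore_le_of_isPSolvable (h : IsPSolvable p G) (hO : pCore p G = ⊥) :
    𝐂(pPrimeCore p G) ≤ pPrimeCore p G := by
  set K := pPrimeCore p G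
  by_contra hC
  let π := QuotientGroup.mk' K
  have hπ : Function.Surjective π := QuotientGroup.mk'_surjective K
  have : (𝐂(K).map π).Normal := Normal.map inferInstance π hπ
  obtain ⟨M, hMn, hM, hM1, hMp⟩ := IsPSolvable.exists_normal_le (isPSolvable_quotient h K)
    (𝐂(K).map π) (by rwa [Ne, Subgroup.map_eq_bot_iff, QuotientGroup.ker_mk'])
  have hMp : IsPGroup p M := hMp.resolve_right fun hc =>
    hM1 (le_bot_iff.1 ((le_pPrimeCore hMn hc).trans (pPrimeCore_quotient_pPrimeCore p G).le))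
  set D := 𝐂(K) ⊓ M.comap π
  have hDn : D ⊴ ⊤ := NormalIn.of_normal D
  obtain ⟨P, hP⟩ := sylow_exists p D
  have hKD : Hall {p}ᶜ (K ⊓ D) D := by
    refine Hall.mk' inf_le_right (((piGrp_compl_singleton_iff_coprime hp.out).2
      (pPrimeCore_coprime p G)).inf_left D) ?_
    rw [compl_compl, inf_relIndex_right, piNat_singleton_iff hp.out (relIndex_pos _ _).ne',
      relIndex_eq_pow_iff]
    intro x hx
    obtain ⟨k, hk⟩ := hMp ⟨π x, hx.2⟩
    refine ⟨k, ?_⟩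
    rw [← QuotientGroup.eq_one_iff]
    exact congrArg Subtype.val hk
  have hDP : D ≤ 𝐍(P) := by
    rw [← hP.hall.sup_eq hKD]
    refine sup_le (le_norm_self P) (le_norm_of_le_cent (cent_symm ?_))
    exact (hP.le.trans inf_le_left).trans (cent_anti inf_le_left)
  have hP1 : P = ⊥ := le_bot_iff.1
    ((le_pCore (hP.hall.normalIn_trans hDP hDn).normal_of_top hP.isPGroup).trans hO.le)
  apply hM1
  rw [eq_bot_iff]
  intro m hm
  obtain ⟨c, hc, rfl⟩ := hM hm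
  have h1 : c ∈ P ⊔ K ⊓ D := (hP.hall.sup_eq hKD).ge ⟨hc, hm⟩
  rw [hP1, bot_sup_eq] at h1
  exact (QuotientGroup.eq_one_iff c).2 h1.1

/-- The group-theoretic reduction in the proof of Theorem B of Hall and Higman. -/
theorem exists_hallHigman_subgroup (h : IsPSolvable p G) (hO : pCore p G = ⊥) {x : G} {n : ℕ}
    (hx : orderOf x = p ^ (n + 1)) : ∃ (q : ℕ) (Q : Subgroup G), q.Prime ∧ IsPGroup q Q ∧ Q ≠ ⊥ ∧
      (Nat.card Q).Coprime p ∧ zpowers x ≤ 𝐍(Q) ∧ ⁅Q, Q⁆ ≤ 𝐂(Q) ∧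
      (∀ a ∈ zpowers x, a ≠ 1 → Q ≤ ⁅Q, zpowers a⁆) ∧
      ∀ a ∈ zpowers x, a ≠ 1 → Q ⊓ 𝐂₁(a) ≤ 𝐂(Q) := by
  have hB : IsPGroup p (zpowers x) := IsPGroup.of_card (by rw [Nat.card_zpowers, hx])
  have hBc : IsCyclic (zpowers x) := inferInstance
  have hB1 : zpowers x ≠ ⊥ := by
    rw [Ne, zpowers_eq_bot, ← orderOf_eq_one_iff, hx]
    exact (Nat.one_lt_pow (by omega) hp.out.one_lt).ne'
  set A := omegaOne p (zpowers x)
  have hAB : A ≤ zpowers x := omegaOne_le _ _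
  have hA1 : A ≠ ⊥ := pg_omegaOne_ne_bot hB hB1
  have hAa : ∀ a ∈ zpowers x, a ≠ 1 → A ≤ zpowers a := fun a ha h1 =>
    cyc_omegaOne_le hBc hB (zpowers_le.2 ha) (by rwa [Ne, zpowers_eq_bot])
  have hK := pPrimeCore_coprime p G
  have hAK : ¬ A ≤ 𝐂(pPrimeCore p G) := fun hc => hA1 (by
    rw [← inf_eq_left.2 (hc.trans (centralizer_pPrimeCore_le_of_isPSolvable h hO))]
    exact inf_eq_bot_of_isPGroup_of_coprime (hB.to_le hAB) hK)
  obtain ⟨Q, hQK, ⟨hQB, hQA⟩, hmin⟩ := exists_minimal_le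
    (P := fun X => zpowers x ≤ 𝐍(X) ∧ ¬ A ≤ 𝐂(X)) (H := pPrimeCore p G)
    ⟨le_normalizer_of_normal, hAK⟩
  have hQp : (Nat.card Q).Coprime p := coprime_card_of_le hQK hK
  have hcop : (Nat.card Q).Coprime (Nat.card (zpowers x)) := by
    rw [Nat.card_zpowers, hx]; exact hQp.pow_right _
  have hm : MinAct Q A (zpowers x) :=
    ⟨hAB, (omegaOne_normalIn p _).norm, hQB, coprime_card_mono hcop le_rfl hAB, hQA,
      fun X hX hXB => by
        by_contra hc
        exact hX.ne (hmin X ⟨hXB, hc⟩ hX.le)⟩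
  obtain ⟨q, hq, hQq⟩ := hm.exists_pgroup fun q hq => by
    have := Fact.mk hq
    exact t1_5a_sylow q hQB hcop (Or.inr (solvable_of_isPGroup hB))
  have := Fact.mk hq
  have hsol := solvable_of_isPGroup hQq
  refine ⟨q, Q, hq, hQq, hm.ne_bot, hQp, hQB, (hm.der_le_center hsol).trans inf_le_right,
    fun a ha h1 => hm.comm.ge.trans (commutator_mono le_rfl (hAa a ha h1)), fun a ha h1 => ?_⟩
  have h2 : Q ⊓ 𝐂₁(a) ≤ Q ⊓ 𝐂(A) :=
    inf_le_inf_left _ ((cent_zpowers a).ge.trans (cent_anti (hAa a ha h1)))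
  by_cases hc : IsMulCommutative Q
  · exact inf_le_left.trans (le_cent_of_comm hc)
  · exact h2.trans ((hm.inf_cent_le hsol hc).trans inf_le_right)

end Reduction

end CL.PL
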