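import Cfsg.Agent.PLocal.StableQuot
import Cfsg.Agent.PLocal.Thompson

/-!
Stellmacher's characteristic subgroup `W(S) = Cfsg.stableNormalClosure p S`: basic properties and
the fact that no element of `S` acts quadratically and nontrivially on it.
-/

set_option autoImplicit false

open Cfsg Subgroup
open scoped commutatorElement

namespace CL.PL

open CL.Transfer

universe u

section General

variable {G : Type*} [Group G] {H : Type*} [Group H] {p : ℕ}

theorem map_inf_centralizer_of_injective (f : G →* H) (hf : Function.Injective f)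
    (A B : Subgroup G) :
    (A ⊓ centralizer (B : Set G)).map f = A.map f ⊓ centralizer (B.map f : Set H) := by
  refine le_antisymm (le_inf (map_mono inf_le_left)
    ((map_mono inf_le_right).trans (map_centralizer_le f B))) ?_
  rintro _ ⟨⟨a, ha, rfl⟩, h⟩
  exact ⟨a, ⟨ha, fun b hb => hf (by simpa using h (f b) ⟨b, hb, rfl⟩)⟩, rfl⟩

theorem map_omegaCenterThompson_of_injective (f : G →* H) (hf : Function.Injective f) :
    (omegaCenterThompson p G).map f = omegaOne p ((thompsonSubgroup p G).map f ⊓
      centralizer ((thompsonSubgroup p G).map f : Set H)) := by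
  rw [omegaCenterThompson, EA.omegaOne_map_of_injective _ hf,
    map_inf_centralizer_of_injective f hf]

theorem map_omegaCenterThompson_equiv (e : G ≃* H) :
    (omegaCenterThompson p G).map (e : G →* H) = omegaCenterThompson p H := by
  rw [map_omegaCenterThompson_of_injective _ e.injective, Thompson.thompson_map_equiv]
  rfl

theorem omegaCenterThompson_ea : IsElementaryAbelian p (omegaCenterThompson p G) :=
  EA.omegaOne_center _

theorem omegaOne_center_le_omegaCenterThompson [Finite G] :
    omegaOne p (center G) ≤ omegaCenterThompson p G :=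
  EA.omegaOne_le_iff.2 fun _ hx hp => EA.mem_omegaOne
    ⟨Thompson.mem_thompson_of_centralizes hp (center_le_centralizer _ hx),
      center_le_centralizer _ hx⟩ hp

theorem characteristic_center_map (e : G ≃* H) : (center G).map (e : G →* H) = center H := by
  ext y
  obtain ⟨x, rfl⟩ := e.surjective y
  refine (mem_map_iff_mem (f := (e : G →* H)) e.injective).trans ?_
  simp only [mem_center_iff]
  refine ⟨fun h g => ?_, fun h g => e.injective (by simpa using h (e g))⟩
  obtain ⟨g, rfl⟩ := e.surjective g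
  rw [← map_mul, h, map_mul]

theorem map_omegaOne_center_equiv (e : G ≃* H) :
    (omegaOne p (center G)).map (e : G →* H) = omegaOne p (center H) := by
  rw [EA.omegaOne_map_of_injective _ e.injective]
  congr 1
  exact characteristic_center_map e

theorem quadratic_conj {V : Subgroup G} [V.Normal] {a : G}
    (ha : ⁅⁅V, zpowers a⁆, zpowers a⁆ = ⊥) (m : G) :
    ⁅⁅V, zpowers (m * a * m⁻¹)⁆, zpowers (m * a * m⁻¹)⁆ = ⊥ := by
  have h := congrArg (Subgroup.map (MulAut.conj m).toMonoidHom) ha
  have hV : V.map (MulAut.conj m).toMonoidHom = V :=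
    mem_normalizer_iff_map_conj_eq.1 (le_normalizer_of_normal (K := ⊤) trivial)
  rwa [map_commutator, map_commutator, hV, MonoidHom.map_zpowers, Subgroup.map_bot] at h

/-- Frattini argument for a normal subgroup `D` that is a `p`-group modulo the normal
subgroup `C`. -/
theorem exists_normalizer_mul_of_pow_mem [Finite G] [Fact p.Prime] (S : Sylow p G)
    {C D : Subgroup G} [C.Normal] [D.Normal] (h : ∀ d ∈ D, ∃ k : ℕ, d ^ p ^ k ∈ C) (g : G) :
    ∃ m ∈ normalizer (((S : Subgroup G) ⊓ (D ⊔ C) : Subgroup G) : Set G), ∃ c ∈ C,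
      g = m * c := by
  have hP := isSylowIn_inf_normal S (D ⊔ C)
  obtain ⟨k, hk⟩ := (relIndex_eq_pow_iff C D).2 h
  rw [← relIndex_sup_right] at hk
  have h1 := hP.sup_eq_of_relIndex_eq_pow le_sup_right hk
  obtain ⟨n, hn, hng⟩ := hP.frattini_argument (g := g) (le_normalizer_of_normal (K := ⊤) trivial)
  rw [← h1, ← SetLike.mem_coe, mul_normal] at hn
  obtain ⟨y, hy, c, hc, rfl⟩ := hn
  refine ⟨y⁻¹ * (y * c * g), mul_mem (inv_mem (le_normalizer hy)) hng, g⁻¹ * c⁻¹ * g,
    ‹C.Normal›.conj_mem' _ (inv_mem hc) g, by group⟩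

/-- If no element of the Sylow subgroup `S` acts quadratically and nontrivially on `U`, and `G`
acts `p`-stably on the normal closure `V` of `U`, then the same holds for `V`. -/
theorem commutator_normalClosure_eq_bot [Finite G] [Fact p.Prime] (S : Sylow p G)
    {U : Subgroup G}
    (hU : ∀ x ∈ (S : Subgroup G), ⁅⁅U, zpowers x⁆, zpowers x⁆ = ⊥ → ⁅U, zpowers x⁆ = ⊥)
    (hst : IsPStableOn p (normalClosure (U : Set G))) {a : G} (haS : a ∈ (S : Subgroup G))
    (ha : ⁅⁅normalClosure (U : Set G), zpowers a⁆, zpowers a⁆ = ⊥) :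
    ⁅normalClosure (U : Set G), zpowers a⁆ = ⊥ := by
  obtain ⟨D, hD, haD, hDC⟩ := (mk_mem_pCore_quotient_iff a _).1 (hst a ha)
  rw [commutator_eq_bot_iff_le_centralizer, normalClosure, closure_le]
  intro v hv
  obtain ⟨u, hu, hv⟩ := Group.mem_conjugatesOfSet_iff.1 hv
  obtain ⟨g, rfl⟩ := isConj_iff.1 hv
  obtain ⟨m, hm, c, hc, rfl⟩ := exists_normalizer_mul_of_pow_mem S hDC g
  have h1 : c * u = u * c := (hc u (le_normalClosure hu)).symm
  have h2 : m⁻¹ * a * m⁻¹⁻¹ ∈ (S : Subgroup G) :=
    ((mem_normalizer_iff.1 (inv_mem hm) a).1 ⟨haS, mem_sup_left haD⟩).1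
  have h3 := hU _ h2 (le_bot_iff.1 (quadratic_conj ha m⁻¹ ▸
    commutator_mono (commutator_mono le_normalClosure le_rfl) le_rfl))
  have h4 := commutator_eq_bot_iff_le_centralizer.1 h3 hu _ (mem_zpowers _)
  rw [SetLike.mem_coe, zpowers_eq_closure, centralizer_closure, mem_centralizer_singleton_iff]
  calc m * c * u * (m * c)⁻¹ * a = m * (c * u) * c⁻¹ * m⁻¹ * a := by group
    _ = m * (u * (m⁻¹ * a * m⁻¹⁻¹)) * m⁻¹ := by rw [h1]; group
    _ = a * (m * (u * c) * c⁻¹ * m⁻¹) := by rw [← h4]; group
    _ = a * (m * c * u * (m * c)⁻¹) := by rw [← h1]; group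

end General

variable {S : Type u} [Group S] {p : ℕ}

theorem omegaOne_center_le_ws : omegaOne p (center S) ≤ stableNormalClosure p S :=
  le_sInf fun _ h => h.1

theorem ws_le_of_forall {W : Subgroup S} (h1 : omegaOne p (center S) ≤ W)
    (h2 : ∀ (H : Type u) [Group H] (τ : S →* H), IsStableEmbedding p τ → (W.map τ).Normal) :
    stableNormalClosure p S ≤ W :=
  sInf_le ⟨h1, h2⟩

theorem IsStableEmbedding.omegaCenterThompson_normal {H : Type u} [Group H] {τ : S →* H}
    (hτ : IsStableEmbedding p τ) : ((omegaCenterThompson p S).map τ).Normal := by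
  rw [map_omegaCenterThompson_of_injective τ hτ.1]
  have := hτ.2.2.2.2.1
  exact EA.omegaOne_normal _

theorem ws_le_omegaCenterThompson [Finite S] :
    stableNormalClosure p S ≤ omegaCenterThompson p S :=
  ws_le_of_forall omegaOne_center_le_omegaCenterThompson fun _ _ _ hτ =>
    IsStableEmbedding.omegaCenterThompson_normal hτ

theorem ws_ea [Finite S] : IsElementaryAbelian p (stableNormalClosure p S) :=
  EA.mono omegaCenterThompson_ea ws_le_omegaCenterThompson

theorem IsStableEmbedding.ws_normal [Finite S] {H : Type u} [Group H] {τ : S →* H}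
    (hτ : IsStableEmbedding p τ) : ((stableNormalClosure p S).map τ).Normal := by
  refine ⟨?_⟩
  rintro _ ⟨x, hx, rfl⟩ h
  obtain ⟨y, -, hy⟩ := (IsStableEmbedding.omegaCenterThompson_normal hτ).conj_mem _
    (mem_map_of_mem τ (ws_le_omegaCenterThompson hx)) h
  refine ⟨y, mem_sInf.2 fun W hW => ?_, hy⟩
  obtain ⟨z, hz, hz'⟩ := (hW.2 H τ hτ).conj_mem _ (mem_map_of_mem τ (mem_sInf.1 hx W hW)) h
  rwa [← hτ.1 (hz'.trans hy.symm)]

theorem IsStableEmbedding.comp_equiv {S' H : Type u} [Group S'] [Group H] {τ : S →* H}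
    (hτ : IsStableEmbedding p τ) (e : S' ≃* S) : IsStableEmbedding p (τ.comp (e : S' →* S)) := by
  obtain ⟨h1, h2, ⟨P, hP⟩, h4, h5, h6⟩ := hτ
  refine ⟨h1.comp e.injective, h2, ⟨P, ?_⟩, h4, ?_, ?_⟩
  · rw [hP, MonoidHom.range_comp, (MonoidHom.range_eq_top (f := (e : S' →* S))).2 e.surjective,
      ← MonoidHom.range_eq_map]
  · rwa [← map_map, Thompson.thompson_map_equiv]
  · rwa [← map_map, map_omegaCenterThompson_equiv]

theorem map_ws_le {S' : Type u} [Group S'] (e : S ≃* S') :
    (stableNormalClosure p S).map (e : S →* S') ≤ stableNormalClosure p S' := by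
  refine le_sInf fun W hW => map_le_iff_le_comap.2 (ws_le_of_forall ?_ fun H _ τ hτ => ?_)
  · rw [← map_le_iff_le_comap, map_omegaOne_center_equiv]
    exact hW.1
  · have := hW.2 H _ (IsStableEmbedding.comp_equiv hτ e.symm)
    rwa [← map_map, map_equiv_eq_comap_symm] at this

theorem map_ws_equiv {S' : Type u} [Group S'] (e : S ≃* S') :
    (stableNormalClosure p S).map (e : S →* S') = stableNormalClosure p S' := by
  refine le_antisymm (map_ws_le e) fun y hy => ?_
  exact ⟨e.symm y, map_ws_le e.symm (mem_map_of_mem _ hy), by simp⟩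

theorem ws_characteristic : (stableNormalClosure p S).Characteristic :=
  characteristic_iff_map_eq.2 fun e => map_ws_equiv e

theorem omegaOne_center_ne_bot {G : Type*} [Group G] [Finite G] [Fact p.Prime] [Nontrivial G]
    (hG : IsPGroup p G) : omegaOne p (center G) ≠ ⊥ := by
  have := hG.center_nontrivial
  have h1 : p ∣ Nat.card (center G) :=
    ((hG.to_subgroup _).card_eq_or_dvd).resolve_left Finite.one_lt_card.ne'
  obtain ⟨x, hx⟩ := exists_prime_orderOf_dvd_card' p h1
  intro h
  have h2 : (x : G) ∈ omegaOne p (center G) :=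
    EA.mem_omegaOne x.2 (by rw [← hx]; exact congrArg Subtype.val (pow_orderOf_eq_one x))
  rw [h, mem_bot] at h2
  rw [show x = 1 from Subtype.ext h2, orderOf_one] at hx
  exact (Fact.out : p.Prime).one_lt.ne hx

theorem ws_ne_bot [Finite S] [Fact p.Prime] [Nontrivial S] (hS : IsPGroup p S) :
    stableNormalClosure p S ≠ ⊥ := fun h =>
  omegaOne_center_ne_bot hS (le_bot_iff.1 (h ▸ omegaOne_center_le_ws))

/-- No element of `S` acts quadratically and nontrivially on `W(S)`. -/
theorem ws_commutator_eq_bot [Finite S] [Fact p.Prime] (x : S)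
    (hq : ⁅⁅stableNormalClosure p S, zpowers x⁆, zpowers x⁆ = ⊥) :
    ⁅stableNormalClosure p S, zpowers x⁆ = ⊥ := by
  obtain ⟨U, hU⟩ : ∃ U, Maximal (fun U : Subgroup S => omegaOne p (center S) ≤ U ∧
      U ≤ stableNormalClosure p S ∧
      ∀ x : S, ⁅⁅U, zpowers x⁆, zpowers x⁆ = ⊥ → ⁅U, zpowers x⁆ = ⊥) U :=
    Set.Finite.exists_maximal (s := {U : Subgroup S | omegaOne p (center S) ≤ U ∧
      U ≤ stableNormalClosure p S ∧
      ∀ x : S, ⁅⁅U, zpowers x⁆, zpowers x⁆ = ⊥ → ⁅U, zpowers x⁆ = ⊥}) (Set.toFinite _)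
      ⟨_, le_rfl, omegaOne_center_le_ws, fun x _ => commutator_eq_bot_iff_le_centralizer.2
        ((EA.omegaOne_le _).trans (center_le_centralizer _))⟩
  obtain ⟨h1, h2, h3⟩ := hU.prop
  have key : stableNormalClosure p S ≤ U := by
    refine ws_le_of_forall h1 fun H _ τ hτ => ?_
    have hW := IsStableEmbedding.ws_normal hτ
    obtain ⟨hinj, hfin, ⟨P, hP⟩, -, -, hst⟩ := hτ
    have hVW : normalClosure (U.map τ : Set H) ≤ (stableNormalClosure p S).map τ :=
      normalClosure_le_normal (map_mono h2)
    have hV : ((normalClosure (U.map τ : Set H)).comap τ).map τ =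
        normalClosure (U.map τ : Set H) := map_comap_eq_self (hVW.trans (map_le_range _ _))
    have hle : U ≤ (normalClosure (U.map τ : Set H)).comap τ :=
      map_le_iff_le_comap.1 le_normalClosure
    have h4 := hU.le_of_ge (y := (normalClosure (U.map τ : Set H)).comap τ)
      ⟨h1.trans hle, (comap_mono hVW).trans (comap_map_eq_self_of_injective hinj _).le, ?_⟩ hle
    · rw [le_antisymm hle h4, hV]
      infer_instance
    · intro y hy
      have hy' := congrArg (Subgroup.map τ) hy
      rw [map_commutator, map_commutator, hV, MonoidHom.map_zpowers, Subgroup.map_bot] at hy'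
      rw [← map_eq_bot_iff_of_injective _ hinj, map_commutator, hV, MonoidHom.map_zpowers]
      refine commutator_normalClosure_eq_bot P ?_
        (hst _ (hVW.trans (map_mono ws_le_omegaCenterThompson))) (hP ▸ ⟨y, rfl⟩) hy'
      rw [hP]
      rintro _ ⟨z, rfl⟩ hz
      rw [← MonoidHom.map_zpowers, ← map_commutator, ← map_commutator,
        map_eq_bot_iff_of_injective _ hinj] at hz
      rw [← MonoidHom.map_zpowers, ← map_commutator, h3 z hz, Subgroup.map_bot]
  rw [le_antisymm key h2] at hq ⊢
  exact h3 x hq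

end CL.PL
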