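import Cfsg.Agent.PLocal.WS
import Cfsg.Agent.PLocal.CharPLocal
import Cfsg.Agent.PLocal.Offender
import Cfsg.Agent.S0029

/-!
`W(S)` is normal in every action-`p`-stable group of characteristic `p`.
-/

set_option autoImplicit false

open Cfsg Subgroup
open scoped commutatorElement

namespace CL.PL

open CL.Transfer

variable {G : Type*} [Group G] {p : ℕ}

theorem mem_sectionKernel_iff {K N : Subgroup G} [N.Normal] {g : G} :
    g ∈ sectionKernel K N ↔ ∀ k ∈ K, g * k * g⁻¹ * k⁻¹ ∈ N := by
  rw [sectionKernel, mem_comap, mem_centralizer_iff]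
  constructor
  · intro h k hk
    have := h _ (mem_map_of_mem (QuotientGroup.mk' N) hk)
    rw [← QuotientGroup.eq_one_iff, ← QuotientGroup.mk'_apply]
    simp only [map_mul, map_inv, ← this]
    group
  · rintro h _ ⟨k, hk, rfl⟩
    have := h k hk
    rw [← QuotientGroup.eq_one_iff, ← QuotientGroup.mk'_apply] at this
    simp only [map_mul, map_inv] at this
    rw [mul_inv_eq_one, mul_inv_eq_iff_eq_mul] at this
    exact this.symm

theorem sectionKernel_normal (K N : Subgroup G) [N.Normal] [hK : K.Normal] :
    (sectionKernel K N).Normal :=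
  have := hK.map (QuotientGroup.mk' N) (QuotientGroup.mk'_surjective N)
  Normal.comap inferInstance _

/-- A `p'`-element normalizing a `p`-subgroup `K` and acting trivially on `K / Φ(K)` centralizes
`K`. -/
theorem mem_centralizer_of_frattini [Finite G] [Fact p.Prime] {K : Subgroup G}
    (hK : IsPGroup p K) {x : G} (hx : (orderOf x).Coprime p) (hxK : x ∈ normalizer (K : Set G))
    (h : ∀ a ∈ zpowers x, ∀ k ∈ K, a * k * a⁻¹ * k⁻¹ ∈ (frattini K).map K.subtype) :
    x ∈ centralizer (K : Set G) := by
  obtain ⟨e, he⟩ := IsPGroup.iff_card.1 (hK.to_subgroup (frattini K))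
  exact Cfsg.Agent.S0029.result (zpowers x) K (zpowers_le.2 hxK)
    (by rw [Nat.card_zpowers, he]; exact hx.pow_right e) h (mem_zpowers x)

/-- In a group of characteristic `p` the kernel of the action on `O_p(G) / Φ(O_p(G))` is a
`p`-group. -/
theorem isPGroup_sectionKernel_frattini [Finite G] [Fact p.Prime]
    (hc : centralizer (pCore p G : Set G) ≤ pCore p G) :
    IsPGroup p (sectionKernel (pCore p G) ((frattini (pCore p G)).map (pCore p G).subtype)) := by
  refine isPGroup_of_forall_coprime_eq_one fun x hx hx' => ?_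
  refine eq_one_of_mem_isPGroup_of_coprime (pCore_isPGroup p G) (hc ?_) hx'
  exact mem_centralizer_of_frattini (pCore_isPGroup p G) hx'
    (le_normalizer_of_normal (K := ⊤) trivial)
    fun a ha => mem_sectionKernel_iff.1 (zpowers_le.2 hx ha)

/-- If `G` has characteristic `p` and acts `p`-stably on `O_p(G) / Φ(O_p(G))`, then an element
acting quadratically on that section lies in `O_p(G)`. -/
theorem mem_pCore_of_stableOnSection [Finite G] [Fact p.Prime]
    (hc : centralizer (pCore p G : Set G) ≤ pCore p G)
    (hst : IsPStableOnSection p (pCore p G) ((frattini (pCore p G)).map (pCore p G).subtype))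
    {a : G} (ha : ⁅⁅pCore p G, zpowers a⁆, zpowers a⁆ ≤
      (frattini (pCore p G)).map (pCore p G).subtype) : a ∈ pCore p G := by
  obtain ⟨D, hD, -, hk, haD⟩ := hst a ha
  have := sectionKernel_normal (pCore p G) ((frattini (pCore p G)).map (pCore p G).subtype)
  refine le_pCore hD ((isPGroup_subgroup_iff D).2 fun d hd => ?_) haD
  obtain ⟨k, hk⟩ := (relIndex_eq_pow_iff _ D).1 hk d hd
  obtain ⟨j, hj⟩ := (isPGroup_subgroup_iff _).1 (isPGroup_sectionKernel_frattini hc) _ hk
  exact ⟨k + j, by rw [pow_add, pow_mul, hj]⟩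

theorem map_inclusion_eq_subgroupOf {P N : Subgroup G} (h : P ≤ N) (X : Subgroup P) :
    X.map (inclusion h) = (X.map P.subtype).subgroupOf N := by
  rw [← subtype_comp_inclusion h, ← map_map, subgroupOf,
    comap_map_eq_self_of_injective N.subtype_injective]

theorem ws_map_subtype_quadratic [Finite G] [Fact p.Prime] (P : Subgroup G) {x : G} (hx : x ∈ P)
    (hq : ⁅⁅(stableNormalClosure p P).map P.subtype, zpowers x⁆, zpowers x⁆ = ⊥) :
    ⁅(stableNormalClosure p P).map P.subtype, zpowers x⁆ = ⊥ := by
  have h1 : zpowers x = (zpowers (⟨x, hx⟩ : P)).map P.subtype := by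
    rw [MonoidHom.map_zpowers]; rfl
  rw [h1, ← map_commutator] at hq ⊢
  rw [← map_commutator, map_eq_bot_iff_of_injective _ P.subtype_injective] at hq
  rw [ws_commutator_eq_bot _ hq, Subgroup.map_bot]

theorem le_normalizer_ws (P : Subgroup G) :
    normalizer (P : Set G) ≤
      normalizer (((stableNormalClosure p P).map P.subtype : Subgroup G) : Set G) := by
  intro g hg
  have h := map_ws_equiv (p := p) (P.normalizerMonoidHom ⟨g, hg⟩ : P ≃* P)
  rw [mem_normalizer_iff_map_conj_eq]
  conv_rhs => rw [← h]
  rw [map_map, map_map]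
  rfl

theorem isStableEmbedding_inclusion [Finite G] [Fact p.Prime] (hst : IsActionPStable p G)
    (hc : centralizer (pCore p G : Set G) ≤ pCore p G) (S : Sylow p G) :
    IsStableEmbedding p (inclusion (le_normalizer.trans
      (Thompson.normalizer_le_normalizer_thompsonOf (p := p) (S : Subgroup G)))) := by
  refine ⟨inclusion_injective _, inferInstance, ⟨S.subtype (le_normalizer.trans
      (Thompson.normalizer_le_normalizer_thompsonOf (p := p) (S : Subgroup G))), ?_⟩,
    charP_normalizer hc (S.isPGroup'.to_le (Thompson.thompsonOf_le _)), ?_, ?_⟩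
  · rw [Sylow.coe_subtype, inclusion_range]
  · rw [map_inclusion_eq_subgroupOf]
    exact normal_in_normalizer
  · intro V _ hV
    refine hst.2.2 S V ?_
    rw [map_inclusion_eq_subgroupOf] at hV
    exact map_le_iff_le_comap.2 hV

/-- **Stellmacher's analogue of the ZJ-theorem.** -/
theorem ws_normal_of_actionPStable [Finite G] [Fact p.Prime] (hst : IsActionPStable p G)
    (hc : centralizer (pCore p G : Set G) ≤ pCore p G) (S : Sylow p G) :
    ((stableNormalClosure p (S : Subgroup G)).map (S : Subgroup G).subtype).Normal := by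
  set W := (stableNormalClosure p (S : Subgroup G)).map (S : Subgroup G).subtype with hW
  have hWe : IsElementaryAbelian p W := EA.map ws_ea _
  have hWS : W ≤ S := map_subtype_le _
  have hSW : (S : Subgroup G) ≤ normalizer (W : Set G) := le_normalizer.trans (le_normalizer_ws _)
  have hOW : pCore p G ≤ normalizer (W : Set G) := (pCore_le_sylow S).trans hSW
  have hq : ∀ x ∈ (S : Subgroup G), ⁅⁅W, zpowers x⁆, zpowers x⁆ = ⊥ → ⁅W, zpowers x⁆ = ⊥ :=
    fun x hx => ws_map_subtype_quadratic _ hx
  -- `W ≤ O_p(G)`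
  have hWO : W ≤ pCore p G := fun w hw => by
    refine mem_pCore_of_stableOnSection hc hst.2.1 (le_trans ?_ bot_le)
    rw [← EA.commutator_self hWe]
    exact commutator_mono ((commutator_mono le_rfl (zpowers_le.2 hw)).trans
      (le_normalizer_iff_commutator_le_right.1 hOW)) (zpowers_le.2 hw)
  -- the normal closure `V` of `W` is elementary abelian
  have hcomm : ∀ g : G, ∀ w ∈ W, ∀ w' ∈ W, w * (g * w' * g⁻¹) = (g * w' * g⁻¹) * w := by
    intro g w hw w' hw'
    have h1 : pCore p G ≤ normalizer ((W.map (MulAut.conj g).toMonoidHom : Subgroup G) : Set G) := by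
      rw [← map_pCore_equiv (MulAut.conj g)]
      exact (map_mono hOW).trans (le_normalizer_map _)
    have h2 : zpowers (g * w' * g⁻¹) ≤ W.map (MulAut.conj g).toMonoidHom :=
      zpowers_le.2 ⟨w', hw', rfl⟩
    have h3 := hq (g * w' * g⁻¹) (pCore_le_sylow S ((pCore_normal p G).conj_mem _ (hWO hw') g))
      (by
        rw [eq_bot_iff, ← EA.commutator_self (EA.map hWe (MulAut.conj g).toMonoidHom)]
        exact commutator_mono ((commutator_mono hWO h2).trans
          (le_normalizer_iff_commutator_le_right.1 h1)) h2)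
    exact (commutator_eq_bot_iff_le_centralizer.1 h3 hw _ (mem_zpowers _)).symm
  have hVe : IsElementaryAbelian p (normalClosure (W : Set G)) := by
    refine EA.closure ?_ ?_
    · intro a ha b hb
      obtain ⟨u, hu, ha⟩ := Group.mem_conjugatesOfSet_iff.1 ha
      obtain ⟨g, rfl⟩ := isConj_iff.1 ha
      obtain ⟨v, hv, hb⟩ := Group.mem_conjugatesOfSet_iff.1 hb
      obtain ⟨h, rfl⟩ := isConj_iff.1 hb
      have := hcomm (g⁻¹ * h) u hu v hv
      calc g * u * g⁻¹ * (h * v * h⁻¹) = g * (u * (g⁻¹ * h * v * (g⁻¹ * h)⁻¹)) * g⁻¹ := by group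
        _ = h * v * h⁻¹ * (g * u * g⁻¹) := by rw [this]; group
    · intro a ha
      obtain ⟨u, hu, ha⟩ := Group.mem_conjugatesOfSet_iff.1 ha
      obtain ⟨g, rfl⟩ := isConj_iff.1 ha
      rw [conj_pow, hWe.2 u hu]; group
  set V := normalClosure (W : Set G) with hV
  have hVS : V ≤ S := (normalClosure_le_normal hWO).trans (pCore_le_sylow S)
  -- `J(S)` centralizes `V`
  have hJ : thompsonSubgroupOf p (S : Subgroup G) ≤ centralizer (V : Set G) := by
    refine Thompson.thompsonOf_le_iff.2 fun A hA => ?_
    by_contra hne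
    have h1 : ⁅V, A⁆ ≠ ⊥ := fun h =>
      hne (le_centralizer_iff.1 (commutator_eq_bot_iff_le_centralizer.1 h))
    obtain ⟨h2, h3, h4⟩ := Offender.thompson_replacement hVS le_normalizer_of_normal hVe hA
    refine h4 h1 (commutator_eq_bot_iff_le_centralizer.2 (le_centralizer_iff.1 fun a ha => ?_))
    have h5 := commutator_normalClosure_eq_bot S hq (hst.1 V hVe) (h2.1 ha) (le_bot_iff.1
      (h3 ▸ commutator_mono (commutator_mono le_rfl (zpowers_le.2 ha)) (zpowers_le.2 ha)))
    exact le_centralizer_iff.1 (commutator_eq_bot_iff_le_centralizer.1 h5) (mem_zpowers a)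
  -- Frattini argument
  have hN : normalizer (thompsonSubgroupOf p (S : Subgroup G) : Set G) ≤ normalizer (W : Set G) := by
    have := IsStableEmbedding.ws_normal (isStableEmbedding_inclusion hst hc S)
    rw [map_inclusion_eq_subgroupOf] at this
    exact le_normalizer_of_normal_subgroupOf (hWS.trans (le_normalizer.trans
      (Thompson.normalizer_le_normalizer_thompsonOf _)))
  rw [← normalizer_eq_top_iff, eq_top_iff]
  intro g _
  obtain ⟨c, hc, hcg⟩ := (isSylowIn_inf_normal S (centralizer (V : Set G))).frattini_argument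
    (g := g) (le_normalizer_of_normal (K := ⊤) trivial)
  have h1 := Thompson.normalizer_le_normalizer_thompsonOf (p := p) _ hcg
  rw [Thompson.thompsonOf_eq_of_le (le_inf (Thompson.thompsonOf_le _) hJ) inf_le_left] at h1
  have h2 : c ∈ normalizer (W : Set G) :=
    centralizer_le_normalizer _ (centralizer_le le_normalClosure hc)
  exact (mul_mem_cancel_left h2).1 (hN h1)

end CL.PL
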