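import Cfsg.Agent.Base

/-!
Commutator lemmas for the Glauberman replacement theorem (Goldschmidt's form).
-/

set_option autoImplicit false

namespace CL.ZJ

open Subgroup
open scoped commutatorElement

variable {G : Type*} [Group G]

theorem comm_of_mem {A : Subgroup G} (hA : IsMulCommutative A) {x y : G} (hx : x ∈ A)
    (hy : y ∈ A) : x * y = y * x :=
  setLike_mul_comm hx hy

theorem isMulCommutative_of_forall {A : Subgroup G} (h : ∀ x ∈ A, ∀ y ∈ A, x * y = y * x) :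
    IsMulCommutative A :=
  .of_setLike_mul_comm h

theorem isMulCommutative_of_le {A B : Subgroup G} (hB : IsMulCommutative B) (h : A ≤ B) :
    IsMulCommutative A :=
  isMulCommutative_of_forall fun _ hx _ hy => comm_of_mem hB (h hx) (h hy)

theorem centralizer_sup (A B : Subgroup G) :
    centralizer ((A ⊔ B : Subgroup G) : Set G) = centralizer (A : Set G) ⊓ centralizer (B : Set G) := by
  apply le_antisymm
  · exact le_inf (centralizer_le (by exact (le_sup_left : A ≤ A ⊔ B)))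
      (centralizer_le (by exact (le_sup_right : B ≤ A ⊔ B)))
  · rw [le_centralizer_iff, sup_le_iff]
    exact ⟨le_centralizer_iff.mp inf_le_left, le_centralizer_iff.mp inf_le_right⟩

theorem isMulCommutative_sup {A B : Subgroup G} (hA : IsMulCommutative A)
    (hB : IsMulCommutative B) (h : A ≤ centralizer (B : Set G)) : IsMulCommutative ↥(A ⊔ B) := by
  rw [← le_centralizer_iff_isMulCommutative, centralizer_sup, le_inf_iff, sup_le_iff, sup_le_iff]
  exact ⟨⟨le_centralizer_iff_isMulCommutative.mpr hA, le_centralizer_iff.mp h⟩,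
    ⟨h, le_centralizer_iff_isMulCommutative.mpr hB⟩⟩

theorem centralizer_sSup (𝒜 : Set (Subgroup G)) :
    centralizer ((sSup 𝒜 : Subgroup G) : Set G) = ⨅ A ∈ 𝒜, centralizer (A : Set G) := by
  apply le_antisymm
  · exact le_iInf₂ fun A hA => centralizer_le (by exact (le_sSup hA : A ≤ sSup 𝒜))
  · rw [le_centralizer_iff, sSup_le_iff]
    intro A hA
    exact le_centralizer_iff.mp (iInf₂_le A hA)

/-- If `A` normalizes `B` and centralizes `[B,B]`, then `[B,A]` centralizes `[B,B]`. -/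
theorem commutator_commutator_derived_eq_bot {A B : Subgroup G}
    (hc : ⁅⁅B, B⁆, A⁆ = ⊥) : ⁅⁅B, A⁆, ⁅B, B⁆⁆ = ⊥ := by
  apply commutator_commutator_eq_bot_of_rotate
  · rw [commutator_comm A, hc, commutator_bot_left]
  · rw [eq_bot_iff, ← hc]
    apply commutator_mono _ le_rfl
    exact commutator_mono (commutator_le_self B) le_rfl

/-- If `A` normalizes `B` and centralizes `[B,B]`, then `[B,A]'` is central in `B`. -/
theorem derived_commutator_le_center {A B : Subgroup G} (hAB : A ≤ normalizer (B : Set G))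
    (hc : ⁅⁅B, B⁆, A⁆ = ⊥) : ⁅⁅B, A⁆, ⁅B, A⁆⁆ ≤ B ⊓ centralizer (B : Set G) := by
  have hK : ⁅B, A⁆ ≤ B := le_normalizer_iff_commutator_le_left.mp hAB
  have h1 := commutator_commutator_derived_eq_bot hc
  rw [commutator_comm] at h1
  refine le_inf ((commutator_le_self _).trans hK) ?_
  rw [← commutator_eq_bot_iff_le_centralizer]
  apply commutator_commutator_eq_bot_of_rotate
  · rw [eq_bot_iff, ← h1]
    exact commutator_mono (commutator_mono hK le_rfl) le_rfl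
  · rw [eq_bot_iff, ← h1]
    exact commutator_mono (commutator_mono le_rfl hK) le_rfl

/-- The key symmetric computation. -/
theorem commutator_sq_eq_one {A B : Subgroup G} (hAB : A ≤ normalizer (B : Set G))
    (hc : ⁅⁅B, B⁆, A⁆ = ⊥) (hA : IsMulCommutative A) {b : G} (hb : b ∈ B)
    (hW : ⁅⁅closure {g : G | ∃ a ∈ A, g = b⁻¹ * a * b * a⁻¹}, A⁆, A⁆ = ⊥)
    {a a' : G} (ha : a ∈ A) (ha' : a' ∈ A) :
    ⁅b⁻¹ * a * b * a⁻¹, b⁻¹ * a' * b * a'⁻¹⁆ ^ 2 = 1 := by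
  have hK : ⁅B, A⁆ ≤ B := le_normalizer_iff_commutator_le_left.mp hAB
  have hZ := derived_commutator_le_center hAB hc
  have hKB := commutator_commutator_derived_eq_bot hc
  rw [commutator_eq_bot_iff_le_centralizer] at hKB hc hW
  set W := closure {g : G | ∃ a ∈ A, g = b⁻¹ * a * b * a⁻¹} with hWdef
  -- membership facts
  have memK : ∀ c ∈ A, b⁻¹ * c * b * c⁻¹ ∈ ⁅B, A⁆ := fun c hc' => by
    have := commutator_mem_commutator (B.inv_mem hb) hc'
    simpa [commutatorElement_def] using this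
  have memW : ∀ c ∈ A, b⁻¹ * c * b * c⁻¹ ∈ W := fun c hc' => subset_closure ⟨c, hc', rfl⟩
  have nK : ∀ c ∈ A, ∀ k ∈ ⁅B, A⁆, c * k * c⁻¹ ∈ ⁅B, A⁆ := fun c hc' k hk =>
    (mem_normalizer_iff.mp (normalizer_commutator_ge_right B A hc') k).mp hk
  -- `φ k = ⁅k, b⁆` is multiplicative on `K`
  have phi_mul : ∀ k₁ ∈ ⁅B, A⁆, ∀ k₂ ∈ ⁅B, A⁆, ⁅k₁ * k₂, b⁆ = ⁅k₂, b⁆ * ⁅k₁, b⁆ := by
    intro k₁ h₁ k₂ h₂
    have := hKB h₁ _ (commutator_mem_commutator (hK h₂) hb)
    rw [commutatorElement_mul_left_eq_conj_mul, ← this]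
    group
  -- formula for the commutator
  have key : ∀ c ∈ A, ∀ c' ∈ A, ⁅b⁻¹ * c * b * c⁻¹, b⁻¹ * c' * b * c'⁻¹⁆ =
      ⁅(b⁻¹ * c * b * c⁻¹)⁻¹ * (c' * (b⁻¹ * c * b * c⁻¹) * c'⁻¹), b⁆⁻¹ := by
    intro c hc1 c' hc'
    have hx := memK c hc1
    have hxW := memW c hc1
    have hcen := hZ (commutator_mem_commutator hx (memK c' hc'))
    generalize b⁻¹ * c * b * c⁻¹ = x at hx hxW hcen
    -- v = x⁻¹ c' x c'⁻¹ is centralized by A
    have hv : x⁻¹ * (c' * x * c'⁻¹) ∈ centralizer (A : Set G) := by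
      have := hW (commutator_mem_commutator (W.inv_mem hxW) hc')
      simpa [commutatorElement_def, mul_assoc] using this
    have hv' := hv c' hc'
    set v := x⁻¹ * (c' * x * c'⁻¹) with hvdef
    have hvK : v ∈ ⁅B, A⁆ := mul_mem (inv_mem hx) (nK c' hc' x hx)
    have e1 : c'⁻¹ * x * c' = x * v⁻¹ := by
      have h1 : c' * x * c'⁻¹ = x * v := by rw [hvdef]; group
      have h2 : x = c'⁻¹ * (x * v) * c' := by rw [← h1]; group
      have h3 : c'⁻¹ * v * c' = v := by rw [mul_assoc, ← hv']; group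
      calc c'⁻¹ * x * c' = c'⁻¹ * (x * v) * c' * (c'⁻¹ * v * c')⁻¹ := by group
        _ = x * v⁻¹ := by rw [← h2, h3]
    -- invariance of the commutator under A
    have e2 : ⁅x, c' * b * c'⁻¹⁆ = ⁅c'⁻¹ * x * c', b⁆ := by
      have h1 : c'⁻¹ * x * c' ∈ ⁅B, A⁆ := by
        simpa using nK c'⁻¹ (inv_mem hc') x hx
      have h2 := hc (commutator_mem_commutator (hK h1) hb) c' hc'
      calc ⁅x, c' * b * c'⁻¹⁆ = c' * ⁅c'⁻¹ * x * c', b⁆ * c'⁻¹ := by
            simp only [commutatorElement_def]; group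
        _ = ⁅c'⁻¹ * x * c', b⁆ := by rw [h2]; group
    have e3 : ⁅x, b⁻¹ * c' * b * c'⁻¹⁆ = b⁻¹ * (⁅x, b⁆⁻¹ * ⁅x, c' * b * c'⁻¹⁆) * b := by
      simp only [commutatorElement_def]; group
    have e4 : ⁅x, b⁆⁻¹ * ⁅x, c' * b * c'⁻¹⁆ = ⁅v, b⁆⁻¹ := by
      rw [e2, e1, phi_mul x hx v⁻¹ (inv_mem hvK)]
      have h1 : ⁅v⁻¹, b⁆ = ⁅v, b⁆⁻¹ := by
        have := phi_mul v hvK v⁻¹ (inv_mem hvK)
        rw [mul_inv_cancel, commutatorElement_one_left] at this
        exact eq_inv_of_mul_eq_one_left this.symm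
      have h2 : ⁅x, b⁆ ∈ ⁅B, A⁆ := by
        have := (mem_normalizer_iff.mp (normalizer_commutator_ge_left B A hb) x⁻¹).mp (inv_mem hx)
        have := mul_mem hx this
        simpa [commutatorElement_def, mul_assoc] using this
      have h3 := hKB h2 _ (commutator_mem_commutator (hK (inv_mem hvK)) hb)
      rw [h3, ← h1]; group
    have e5 := (mem_inf.mp hcen).2 b hb
    rw [e4] at e3
    calc ⁅x, b⁻¹ * c' * b * c'⁻¹⁆ = b * ⁅x, b⁻¹ * c' * b * c'⁻¹⁆ * b⁻¹ := by rw [e5]; group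
      _ = ⁅v, b⁆⁻¹ := by rw [e3]; group
  -- symmetry
  have hx := memK a ha
  have hy := memK a' ha'
  have k1 := key a ha a' ha'
  have k2 := key a' ha' a ha
  have hcomm := comm_of_mem hA ha ha'
  have rel : (b⁻¹ * a * b * a⁻¹) * (a * (b⁻¹ * a' * b * a'⁻¹) * a⁻¹) =
      (b⁻¹ * a' * b * a'⁻¹) * (a' * (b⁻¹ * a * b * a⁻¹) * a'⁻¹) := by
    calc _ = b⁻¹ * (a * a') * b * (a * a')⁻¹ := by group
      _ = b⁻¹ * (a' * a) * b * (a' * a)⁻¹ := by rw [hcomm]
      _ = _ := by group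
  generalize b⁻¹ * a * b * a⁻¹ = x at *
  generalize b⁻¹ * a' * b * a'⁻¹ = y at *
  have hvK : x⁻¹ * (a' * x * a'⁻¹) ∈ ⁅B, A⁆ := mul_mem (inv_mem hx) (nK a' ha' x hx)
  have huK : y⁻¹ * (a * y * a⁻¹) ∈ ⁅B, A⁆ := mul_mem (inv_mem hy) (nK a ha y hy)
  have e : x⁻¹ * (a' * x * a'⁻¹) = ⁅x⁻¹, y⁻¹⁆ * (y⁻¹ * (a * y * a⁻¹)) := by
    calc x⁻¹ * (a' * x * a'⁻¹) = x⁻¹ * y⁻¹ * (y * (a' * x * a'⁻¹)) := by group
      _ = x⁻¹ * y⁻¹ * (x * (a * y * a⁻¹)) := by rw [rel]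
      _ = _ := by simp only [commutatorElement_def]; group
  have hcK := commutator_mem_commutator (inv_mem hx) (inv_mem hy)
  have hcen := (mem_inf.mp (hZ hcK)).2 b hb
  have e' : ⁅⁅x⁻¹, y⁻¹⁆, b⁆ = 1 := commutatorElement_eq_one_iff_mul_comm.mpr hcen.symm
  rw [e, phi_mul _ (commutator_le_self _ hcK) _ huK, e', mul_one, ← k2] at k1
  rw [pow_two]
  nth_rewrite 2 [k1]
  rw [← commutatorElement_inv y x, inv_mul_cancel]

/-- Goldschmidt's lemma, second part. -/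
theorem sq_eq_one_of_mem_derived {A B : Subgroup G} (hAB : A ≤ normalizer (B : Set G))
    (hc : ⁅⁅B, B⁆, A⁆ = ⊥) (hA : IsMulCommutative A) {b : G} (hb : b ∈ B)
    (hW : ⁅⁅closure {g : G | ∃ a ∈ A, g = b⁻¹ * a * b * a⁻¹}, A⁆, A⁆ = ⊥) :
    ∀ w ∈ ⁅closure {g : G | ∃ a ∈ A, g = b⁻¹ * a * b * a⁻¹},
      closure {g : G | ∃ a ∈ A, g = b⁻¹ * a * b * a⁻¹}⁆, w ^ 2 = 1 := by
  have hK : ⁅B, A⁆ ≤ B := le_normalizer_iff_commutator_le_left.mp hAB
  have hZ := derived_commutator_le_center hAB hc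
  have hWK : closure {g : G | ∃ a ∈ A, g = b⁻¹ * a * b * a⁻¹} ≤ ⁅B, A⁆ := by
    rw [closure_le]
    rintro _ ⟨a, ha, rfl⟩
    have := commutator_mem_commutator (B.inv_mem hb) ha
    simpa [commutatorElement_def] using this
  -- the subgroup of central elements of `B` with square one
  let Z₂ : Subgroup G :=
    { carrier := {z | z ∈ B ⊓ centralizer (B : Set G) ∧ z ^ 2 = 1}
      one_mem' := ⟨one_mem _, one_pow 2⟩
      mul_mem' := by
        rintro x y ⟨hx, hx2⟩ ⟨hy, hy2⟩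
        refine ⟨mul_mem hx hy, ?_⟩
        have : Commute x y := (mem_inf.mp hy).2 x (mem_inf.mp hx).1
        rw [this.mul_pow, hx2, hy2, one_mul]
      inv_mem' := by
        rintro x ⟨hx, hx2⟩
        exact ⟨inv_mem hx, by rw [inv_pow, hx2, inv_one]⟩ }
  have mul_left : ∀ x ∈ ⁅B, A⁆, ∀ y ∈ ⁅B, A⁆, ∀ z ∈ ⁅B, A⁆, ⁅x * y, z⁆ = ⁅y, z⁆ * ⁅x, z⁆ := by
    intro x hx y hy z hz
    have := (mem_inf.mp (hZ (commutator_mem_commutator hy hz))).2 x (hK hx)
    rw [commutatorElement_mul_left_eq_conj_mul, this]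
    group
  have step : ∀ z ∈ ⁅B, A⁆, (∀ a ∈ A, ⁅b⁻¹ * a * b * a⁻¹, z⁆ ∈ Z₂) →
      ∀ x ∈ closure {g : G | ∃ a ∈ A, g = b⁻¹ * a * b * a⁻¹}, ⁅x, z⁆ ∈ Z₂ := by
    intro z hz h x hx
    induction hx using closure_induction with
    | mem x hx => obtain ⟨a, ha, rfl⟩ := hx; exact h a ha
    | one => rw [commutatorElement_one_left]; exact one_mem _
    | mul x y hx hy ihx ihy => rw [mul_left x (hWK hx) y (hWK hy) z hz]; exact mul_mem ihy ihx
    | inv x hx ih =>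
      have := mul_left x (hWK hx) x⁻¹ (inv_mem (hWK hx)) z hz
      rw [mul_inv_cancel, commutatorElement_one_left] at this
      rw [eq_inv_of_mul_eq_one_left this.symm]
      exact inv_mem ih
  have main : ⁅closure {g : G | ∃ a ∈ A, g = b⁻¹ * a * b * a⁻¹},
      closure {g : G | ∃ a ∈ A, g = b⁻¹ * a * b * a⁻¹}⁆ ≤ Z₂ := by
    rw [commutator_le]
    intro x hx y hy
    refine step y (hWK hy) (fun a ha => ?_) x hx
    rw [← commutatorElement_inv]
    refine inv_mem (step _ (hWK (subset_closure ⟨a, ha, rfl⟩)) (fun a' ha' => ?_) y hy)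
    exact ⟨hZ (commutator_mem_commutator (hWK (subset_closure ⟨a', ha', rfl⟩))
      (hWK (subset_closure ⟨a, ha, rfl⟩))), commutator_sq_eq_one hAB hc hA hb hW ha' ha⟩
  intro w hw
  exact (main hw).2

end CL.ZJ
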