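import Cfsg.Agent.PLocal.ZJReplace

/-!
The family of abelian subgroups of exponent dividing `e` of largest order in a subgroup `T`
(`e = 0`: abelian Thompson subgroup; `e = p`: elementary abelian Thompson subgroup), with the
replacement property.
-/

set_option autoImplicit false

namespace CL.ZJ

open Subgroup Cfsg
open scoped commutatorElement

variable {G : Type*} [Group G]

/-- Abelian subgroups of `T` of exponent dividing `e`, of largest order among such. -/
def fam (e : ℕ) (T : Subgroup G) : Set (Subgroup G) :=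
  {A | A ≤ T ∧ IsMulCommutative A ∧ (∀ a ∈ A, a ^ e = 1) ∧
    ∀ B : Subgroup G, B ≤ T → IsMulCommutative B → (∀ b ∈ B, b ^ e = 1) → Nat.card B ≤ Nat.card A}

/-- The Thompson subgroup attached to `fam e T`. -/
def J (e : ℕ) (T : Subgroup G) : Subgroup G := sSup (fam e T)

/-- The centre of `J e T`. -/
def Z (e : ℕ) (T : Subgroup G) : Subgroup G := J e T ⊓ centralizer (J e T : Set G)

variable {e : ℕ} {T : Subgroup G}

theorem fam_nonempty [Finite G] (e : ℕ) (T : Subgroup G) : (fam e T).Nonempty := by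
  have hfin : {A : Subgroup G | A ≤ T ∧ IsMulCommutative A ∧ ∀ a ∈ A, a ^ e = 1}.Finite :=
    Set.toFinite _
  obtain ⟨A, hA, hmax⟩ := Set.exists_max_image _ (fun A : Subgroup G => Nat.card A) hfin
    ⟨⊥, bot_le, inferInstance, fun a ha => by rw [mem_bot.mp ha, one_pow]⟩
  exact ⟨A, hA.1, hA.2.1, hA.2.2, fun B h1 h2 h3 => hmax B ⟨h1, h2, h3⟩⟩

theorem le_J {A : Subgroup G} (hA : A ∈ fam e T) : A ≤ J e T := le_sSup hA

theorem J_le : J e T ≤ T := sSup_le fun _ hA => hA.1

theorem ZJ_le_J : Z e T ≤ J e T := inf_le_left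

theorem ZJ_le : Z e T ≤ T := ZJ_le_J.trans J_le

theorem ZJ_le_centralizer : Z e T ≤ centralizer (J e T : Set G) := inf_le_right

theorem ZJ_le_centralizer_of_mem {A : Subgroup G} (hA : A ∈ fam e T) :
    Z e T ≤ centralizer (A : Set G) :=
  ZJ_le_centralizer.trans (centralizer_le (by exact le_J hA))

theorem ZJ_comm : IsMulCommutative (Z e T) :=
  isMulCommutative_of_forall fun _ hx _ hy => hy.2 _ hx.1

theorem mem_fam_of_card_le {A B : Subgroup G} (hA : A ∈ fam e T) (hBT : B ≤ T)
    (hB : IsMulCommutative B) (hBe : ∀ b ∈ B, b ^ e = 1) (hc : Nat.card A ≤ Nat.card B) :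
    B ∈ fam e T :=
  ⟨hBT, hB, hBe, fun C h1 h2 h3 => (hA.2.2.2 C h1 h2 h3).trans hc⟩

/-- Elements of `T` centralizing a member `A` and killed by `e` lie in `A`. -/
theorem mem_of_mem_centralizer [Finite G] {A : Subgroup G} (hA : A ∈ fam e T) {x : G}
    (hxT : x ∈ T) (hx : x ∈ centralizer (A : Set G)) (hxe : x ^ e = 1) : x ∈ A := by
  have h1 : IsMulCommutative ↥(A ⊔ zpowers x) :=
    isMulCommutative_sup hA.2.1 inferInstance (le_centralizer_iff.mp (zpowers_le.mpr hx))
  have h2 : ∀ y ∈ A ⊔ zpowers x, y ^ e = 1 := by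
    intro y hy
    rw [← SetLike.mem_coe, coe_mul_of_right_le_normalizer_left _ _
      ((zpowers_le.mpr hx).trans (centralizer_le_normalizer _))] at hy
    obtain ⟨a, ha, z, hz, rfl⟩ := hy
    have hc : Commute a z := (zpowers_le.mpr hx) hz a ha
    obtain ⟨k, rfl⟩ := hz
    show (a * x ^ k) ^ e = 1
    rw [hc.mul_pow, hA.2.2.1 a ha, one_mul, ← zpow_natCast, ← zpow_mul, mul_comm, zpow_mul,
      zpow_natCast, hxe, one_zpow]
  have h3 := hA.2.2.2 _ (sup_le hA.1 (zpowers_le.mpr hxT)) h1 h2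
  rw [eq_of_le_of_card_ge le_sup_left h3]
  exact mem_sup_right (mem_zpowers x)

theorem fam_subset_of_le {S A : Subgroup G} (hA : A ∈ fam e S) (hAT : A ≤ T) (hTS : T ≤ S) :
    fam e T ⊆ fam e S := fun _ hB =>
  mem_fam_of_card_le hA (hB.1.trans hTS) hB.2.1 hB.2.2.1 (hB.2.2.2 A hAT hA.2.1 hA.2.2.1)

theorem mem_fam_of_le {S A : Subgroup G} (hA : A ∈ fam e S) (hAT : A ≤ T) (hTS : T ≤ S) :
    A ∈ fam e T :=
  ⟨hAT, hA.2.1, hA.2.2.1, fun B h1 h2 h3 => hA.2.2.2 B (h1.trans hTS) h2 h3⟩

theorem J_le_J_of_le {S A : Subgroup G} (hA : A ∈ fam e S) (hAT : A ≤ T) (hTS : T ≤ S) :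
    J e T ≤ J e S := sSup_le_sSup (fam_subset_of_le hA hAT hTS)

theorem fam_eq_of_J_le [Finite G] {S : Subgroup G} (hJ : J e S ≤ T) (hTS : T ≤ S) :
    fam e T = fam e S := by
  obtain ⟨A, hA⟩ := fam_nonempty e S
  exact Set.Subset.antisymm (fam_subset_of_le hA ((le_J hA).trans hJ) hTS)
    fun B hB => mem_fam_of_le hB ((le_J hB).trans hJ) hTS

theorem J_eq_of_J_le [Finite G] {S : Subgroup G} (hJ : J e S ≤ T) (hTS : T ≤ S) :
    J e T = J e S := by
  rw [J, J, fam_eq_of_J_le hJ hTS]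

theorem ZJ_eq_of_J_le [Finite G] {S : Subgroup G} (hJ : J e S ≤ T) (hTS : T ≤ S) :
    Z e T = Z e S := by
  rw [Z, Z, J_eq_of_J_le hJ hTS]

/-- The intersection of the family. -/
theorem mem_sInf_fam_iff [Finite G] {x : G} :
    x ∈ sInf (fam e T) ↔ x ∈ Z e T ∧ x ^ e = 1 := by
  constructor
  · intro hx
    rw [mem_sInf] at hx
    obtain ⟨A, hA⟩ := fam_nonempty e T
    refine ⟨⟨le_J hA (hx A hA), ?_⟩, hA.2.2.1 x (hx A hA)⟩
    show x ∈ centralizer (J e T : Set G)
    rw [J, centralizer_sSup]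
    simp only [mem_iInf]
    intro B hB
    exact le_centralizer_iff_isMulCommutative.mpr hB.2.1 (hx B hB)
  · rintro ⟨hx, hxe⟩
    exact mem_sInf.mpr fun A hA =>
      mem_of_mem_centralizer hA (ZJ_le hx) (ZJ_le_centralizer_of_mem hA hx) hxe

theorem mem_ZJ_of_mem_centralizer [Finite G] {x : G} (hxT : x ∈ T)
    (hx : x ∈ centralizer (J e T : Set G)) (hxe : x ^ e = 1) : x ∈ Z e T := by
  obtain ⟨A, hA⟩ := fam_nonempty e T
  exact ⟨le_J hA (mem_of_mem_centralizer hA hxT (centralizer_le (by exact le_J hA) hx) hxe), hx⟩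

section Map

variable {G' : Type*} [Group G'] {f : G →* G'}

theorem isMulCommutative_of_map (hf : Function.Injective f) {A : Subgroup G}
    (h : IsMulCommutative (A.map f)) : IsMulCommutative A :=
  isMulCommutative_of_forall fun x hx y hy => hf (by
    rw [map_mul, map_mul]
    exact comm_of_mem h (mem_map_of_mem f hx) (mem_map_of_mem f hy))

theorem map_mem_fam_iff (hf : Function.Injective f) {A : Subgroup G} :
    A.map f ∈ fam e (T.map f) ↔ A ∈ fam e T := by
  have hpow : ∀ B : Subgroup G, (∀ b ∈ B.map f, b ^ e = 1) ↔ ∀ b ∈ B, b ^ e = 1 := by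
    intro B
    constructor
    · intro h b hb
      exact hf (by rw [map_pow, map_one]; exact h _ (mem_map_of_mem f hb))
    · rintro h _ ⟨b, hb, rfl⟩
      rw [← map_pow, h b hb, map_one]
  constructor
  · rintro ⟨h1, h2, h3, h4⟩
    refine ⟨(map_le_map_iff_of_injective hf).mp h1, isMulCommutative_of_map hf h2,
      (hpow A).mp h3, fun B g1 g2 g3 => ?_⟩
    have := h4 (B.map f) (map_mono g1) inferInstance ((hpow B).mpr g3)
    rwa [card_map_of_injective hf, card_map_of_injective hf] at this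
  · rintro ⟨h1, h2, h3, h4⟩
    refine ⟨map_mono h1, inferInstance, (hpow A).mpr h3, fun B g1 g2 g3 => ?_⟩
    have hB : (B.comap f).map f = B := map_comap_eq_self (g1.trans (map_le_range f T))
    rw [← hB] at g1 g2 g3 ⊢
    rw [card_map_of_injective hf, card_map_of_injective hf]
    exact h4 _ ((map_le_map_iff_of_injective hf).mp g1) (isMulCommutative_of_map hf g2)
      ((hpow _).mp g3)

theorem fam_map (hf : Function.Injective f) :
    fam e (T.map f) = (fun A : Subgroup G => A.map f) '' fam e T := by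
  ext B
  constructor
  · intro hB
    have h : (B.comap f).map f = B := map_comap_eq_self (hB.1.trans (map_le_range f T))
    exact ⟨B.comap f, (map_mem_fam_iff hf).mp (h.symm ▸ hB), h⟩
  · rintro ⟨A, hA, rfl⟩
    exact (map_mem_fam_iff hf).mpr hA

theorem J_map (hf : Function.Injective f) : J e (T.map f) = (J e T).map f := by
  rw [J, J, fam_map hf, sSup_image, sSup_eq_iSup]
  simp only [Subgroup.map_iSup]

theorem inf_centralizer_map (hf : Function.Injective f) (A B : Subgroup G) :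
    A.map f ⊓ centralizer (B.map f : Set G') = (A ⊓ centralizer (B : Set G)).map f := by
  apply le_antisymm
  · rintro _ ⟨⟨a, ha, rfl⟩, h⟩
    refine ⟨a, ⟨ha, fun b hb => hf ?_⟩, rfl⟩
    rw [map_mul, map_mul]
    exact h _ (mem_map_of_mem f hb)
  · rintro _ ⟨a, ⟨ha, h⟩, rfl⟩
    refine ⟨mem_map_of_mem f ha, ?_⟩
    rintro _ ⟨b, hb, rfl⟩
    rw [← map_mul, ← map_mul, h b hb]

theorem ZJ_map (hf : Function.Injective f) : Z e (T.map f) = (Z e T).map f := by
  rw [Z, Z, J_map hf, inf_centralizer_map hf]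

end Map

theorem normalizer_le_normalizer_J : normalizer (T : Set G) ≤ normalizer (J e T : Set G) := by
  intro g hg
  rw [mem_normalizer_iff_map_conj_eq] at hg ⊢
  rw [← J_map (f := (MulAut.conj g : G →* G)) (MulAut.conj g).injective, hg]

theorem normalizer_le_normalizer_centralizer (A : Subgroup G) :
    normalizer (A : Set G) ≤ normalizer (centralizer (A : Set G) : Set G) := by
  refine le_normalizer_iff.mpr fun n hn c hc a ha => ?_
  have := hc _ ((mem_normalizer_iff''.mp hn a).mp ha)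
  calc a * (n * c * n⁻¹) = n * (n⁻¹ * a * n * c) * n⁻¹ := by group
    _ = _ := by rw [this]; group

theorem normalizer_J_le_normalizer_ZJ :
    normalizer (J e T : Set G) ≤ normalizer (Z e T : Set G) :=
  (le_inf le_rfl (normalizer_le_normalizer_centralizer _)).trans inf_normalizer_le_normalizer_inf

theorem normalizer_le_normalizer_ZJ : normalizer (T : Set G) ≤ normalizer (Z e T : Set G) :=
  normalizer_le_normalizer_J.trans normalizer_J_le_normalizer_ZJ

/-! ### Identification with the definitions of the prelude -/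

theorem fam_zero_top : fam 0 (⊤ : Subgroup G) = maxAbelianSubgroups G := by
  ext A
  simp [fam, maxAbelianSubgroups]

theorem fam_top (p : ℕ) : fam p (⊤ : Subgroup G) = maxElementaryAbelianSubgroups p G := by
  ext A
  simp only [fam, maxElementaryAbelianSubgroups, IsElementaryAbelian, le_top, true_and,
    Set.mem_ofPred_eq, true_implies, and_assoc, and_imp]

theorem map_top_subtype (T : Subgroup G) : (⊤ : Subgroup T).map T.subtype = T := by
  rw [← MonoidHom.range_eq_map, range_subtype]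

theorem fam_eq_image (e : ℕ) (T : Subgroup G) :
    fam e T = (fun A : Subgroup T => A.map T.subtype) '' fam e (⊤ : Subgroup T) := by
  rw [← fam_map T.subtype_injective, map_top_subtype]

theorem fam_zero_eq (T : Subgroup G) :
    fam 0 T = (fun A : Subgroup T => A.map T.subtype) '' maxAbelianSubgroups T := by
  rw [fam_eq_image, fam_zero_top]

theorem fam_eq_elem (p : ℕ) (T : Subgroup G) :
    fam p T = (fun A : Subgroup T => A.map T.subtype) '' maxElementaryAbelianSubgroups p T := by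
  rw [fam_eq_image, fam_top]

theorem J_top (p : ℕ) : J p (⊤ : Subgroup G) = thompsonSubgroup p G := by
  rw [J, fam_top, thompsonSubgroup]

theorem J_zero_top : J 0 (⊤ : Subgroup G) = thompsonSubgroupA G := by
  rw [J, fam_zero_top, thompsonSubgroupA]

theorem J_eq_thompsonSubgroupOf (p : ℕ) (T : Subgroup G) : J p T = thompsonSubgroupOf p T := by
  rw [thompsonSubgroupOf, ← J_top, ← J_map T.subtype_injective, map_top_subtype]

theorem J_zero_eq_thompsonSubgroupAOf (T : Subgroup G) : J 0 T = thompsonSubgroupAOf T := by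
  rw [thompsonSubgroupAOf, ← J_zero_top, ← J_map T.subtype_injective, map_top_subtype]

theorem ZJ_eq_centerThompsonOf (p : ℕ) (T : Subgroup G) : Z p T = centerThompsonOf p T := by
  rw [Z, centerThompsonOf, J_eq_thompsonSubgroupOf]

theorem ZJ_zero_eq_centerThompsonAOf (T : Subgroup G) : Z 0 T = centerThompsonAOf T := by
  rw [Z, centerThompsonAOf, J_zero_eq_thompsonSubgroupAOf]

/-! ### The replacement property -/

theorem exists_mem_fam_le_normalizer_top [Finite G] {p : ℕ} [Fact p.Prime] (hG : IsPGroup p G)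
    (he : e = 0 ∨ Odd e) (D : Subgroup G) [hD : D.Normal] (B : Subgroup G) [B.Normal]
    (hB2 : p = 2 → IsMulCommutative B) {U : Subgroup G} (hU : U ∈ fam e D) (hBU : ⁅B, B⁆ ≤ U)
    (hnU : ¬ B ≤ U) :
    ∃ A ∈ fam e D, ⁅B, B⁆ ≤ A ∧ ¬ B ≤ A ∧ B ≤ normalizer (A : Set G) := by
  obtain ⟨A, ⟨hA, hBA, hnA⟩, hmax⟩ := Set.Finite.exists_maximalFor
    (fun A : Subgroup G => normalizer (A : Set G)) {A | A ∈ fam e D ∧ ⁅B, B⁆ ≤ A ∧ ¬ B ≤ A}
    (Set.toFinite _) ⟨U, hU, hBU, hnU⟩
  refine ⟨A, hA, hBA, hnA, ?_⟩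
  by_contra hnot
  obtain ⟨b, hb, hbN, hbA⟩ := exists_mem_normalizer_normalizer hG.isNilpotent B _ hnot
  have h : ReplHyp B A b := ⟨inferInstance, hA.2.1, hBA, hb, hbN, hbA⟩
  have hmem : repl A b ∈ fam e D := by
    refine mem_fam_of_card_le hA (ReplHyp.repl_le_sup.trans (sup_le hA.1 ?_)) (h.repl_comm hG hB2)
      ?_ h.card_repl.ge
    · intro x hx
      simpa [mul_assoc] using hD.conj_mem _ (hA.1 (mem_conjInv.mp hx)) b⁻¹
    · rcases he with rfl | he
      · simp
      · exact h.pow_eq_one_of_odd he hA.2.2.1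
  exact h.norm_lt_norm_repl.2
    (hmax ⟨hmem, h.derived_le_repl, h.not_le_repl⟩ h.norm_le_norm_repl)

/-- Replacement inside a `p`-subgroup `S` of an arbitrary finite group. -/
theorem exists_mem_fam_le_normalizer [Finite G] {p : ℕ} [Fact p.Prime] {S : Subgroup G}
    (hS : IsPGroup p S) (he : e = 0 ∨ Odd e) {D : Subgroup G} (hDS : D ≤ S)
    (hD : S ≤ normalizer (D : Set G)) {B : Subgroup G} (hBS : B ≤ S)
    (hB : S ≤ normalizer (B : Set G)) (hB2 : p = 2 → IsMulCommutative B) {U : Subgroup G}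
    (hU : U ∈ fam e D) (hBU : ⁅B, B⁆ ≤ U) (hnU : ¬ B ≤ U) :
    ∃ A ∈ fam e D, ⁅B, B⁆ ≤ A ∧ ¬ B ≤ A ∧ B ≤ normalizer (A : Set G) := by
  have hinj := S.subtype_injective
  obtain ⟨D, rfl⟩ : ∃ D' : Subgroup S, D'.map S.subtype = D :=
    ⟨D.subgroupOf S, map_subgroupOf_eq_of_le hDS⟩
  obtain ⟨B, rfl⟩ : ∃ B' : Subgroup S, B'.map S.subtype = B :=
    ⟨B.subgroupOf S, map_subgroupOf_eq_of_le hBS⟩
  have hn : ∀ X : Subgroup S, S ≤ normalizer (X.map S.subtype : Set G) → X.Normal := by
    intro X hX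
    have := (normal_subgroupOf_iff_le_normalizer (map_subtype_le X)).mpr hX
    rwa [subgroupOf, comap_map_eq_self_of_injective hinj] at this
  have := hn D hD
  have := hn B hB
  rw [fam_map hinj] at hU
  obtain ⟨U, hU, rfl⟩ := hU
  rw [← map_commutator, map_le_map_iff_of_injective hinj] at hBU
  rw [map_le_map_iff_of_injective hinj] at hnU
  obtain ⟨A, hA, h1, h2, h3⟩ := exists_mem_fam_le_normalizer_top hS he D B
    (fun h => isMulCommutative_of_map hinj (hB2 h)) hU hBU hnU
  refine ⟨A.map S.subtype, (map_mem_fam_iff hinj).mpr hA, ?_, ?_, ?_⟩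
  · rw [← map_commutator]; exact map_mono h1
  · rwa [map_le_map_iff_of_injective hinj]
  · exact (map_mono h3).trans (le_normalizer_map _)

end CL.ZJ
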