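import Cfsg.Agent.PLocal.ZJTheorem

/-!
`Ω₁(Z(J_e(S)))` and the intersection of the elementary abelian subgroups of largest order.
-/

set_option autoImplicit false

namespace CL.ZJ

open Subgroup Cfsg

variable {G : Type*} [Group G]

theorem mem_omegaOne_of_comm {H : Subgroup G} (hH : IsMulCommutative H) {p : ℕ} {x : G} :
    x ∈ omegaOne p H ↔ x ∈ H ∧ x ^ p = 1 := by
  refine ⟨fun hx => ?_, fun hx => subset_closure hx⟩
  induction hx using closure_induction with
  | mem x hx => exact hx
  | one => exact ⟨one_mem _, one_pow p⟩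
  | mul x y _ _ hx hy =>
    have : Commute x y := comm_of_mem hH hx.1 hy.1
    exact ⟨mul_mem hx.1 hy.1, by rw [this.mul_pow, hx.2, hy.2, one_mul]⟩
  | inv x _ hx => exact ⟨inv_mem hx.1, by rw [inv_pow, hx.2, inv_one]⟩

theorem omegaOne_map {G' : Type*} [Group G'] {f : G →* G'} (hf : Function.Injective f) (p : ℕ)
    (H : Subgroup G) : omegaOne p (H.map f) = (omegaOne p H).map f := by
  rw [omegaOne, omegaOne, MonoidHom.map_closure]
  congr 1
  ext y
  constructor
  · rintro ⟨⟨x, hx, rfl⟩, hp⟩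
    exact ⟨x, ⟨hx, hf (by rw [map_pow, map_one]; exact hp)⟩, rfl⟩
  · rintro ⟨x, ⟨hx, hp⟩, rfl⟩
    exact ⟨mem_map_of_mem f hx, by rw [← map_pow, hp, map_one]⟩

theorem sInf_fam_eq_omegaOne [Finite G] (e : ℕ) (T : Subgroup G) :
    sInf (fam e T) = omegaOne e (Z e T) := by
  ext x
  rw [mem_sInf_fam_iff, mem_omegaOne_of_comm ZJ_comm]

theorem omegaCenterThompson_eq (p : ℕ) : omegaCenterThompson p G = omegaOne p (Z p ⊤) := by
  rw [omegaCenterThompson, Z, J_top]

theorem omegaCenterThompson_map_subtype (p : ℕ) (T : Subgroup G) :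
    (omegaCenterThompson p T).map T.subtype = omegaOne p (Z p T) := by
  rw [omegaCenterThompson_eq, ← omegaOne_map T.subtype_injective, ← ZJ_map T.subtype_injective,
    map_top_subtype]

theorem omegaOne_characteristic (p : ℕ) (H : Subgroup G) [hH : H.Characteristic] :
    (omegaOne p H).Characteristic :=
  characteristic_iff_map_eq.mpr fun φ => by
    rw [← omegaOne_map (f := φ.toMonoidHom) φ.injective, characteristic_iff_map_eq.mp hH φ]

theorem normalizer_le_normalizer_omegaOne (p : ℕ) (H : Subgroup G) :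
    normalizer (H : Set G) ≤ normalizer (omegaOne p H : Set G) := by
  intro g hg
  rw [mem_normalizer_iff_map_conj_eq] at hg ⊢
  rw [← omegaOne_map (f := (MulAut.conj g : G →* G)) (MulAut.conj g).injective, hg]

theorem omegaOne_normal (p : ℕ) (H : Subgroup G) [hH : H.Normal] : (omegaOne p H).Normal := by
  rw [← normalizer_eq_top_iff, eq_top_iff, ← normalizer_eq_top H]
  exact normalizer_le_normalizer_omegaOne p H

theorem omegaOne_Z_eq_omegaOne_centralizer [Finite G] (e : ℕ) (T : Subgroup G) :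
    omegaOne e (Z e T) = omegaOne e (T ⊓ centralizer (J e T : Set G)) := by
  rw [omegaOne, omegaOne]
  congr 1
  ext x
  exact ⟨fun h => ⟨⟨ZJ_le h.1, h.1.2⟩, h.2⟩,
    fun h => ⟨mem_ZJ_of_mem_centralizer h.1.1 h.1.2 h.2, h.2⟩⟩

end CL.ZJ
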