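import Cfsg.Agent.PLocal.ZJComm

/-!
The Glauberman replacement theorem (Goldschmidt's form).
-/

set_option autoImplicit false

namespace CL.ZJ

open Subgroup
open scoped commutatorElement

variable {G : Type*} [Group G]

/-- Normalizer condition relative to a nilpotent overgroup. -/
theorem exists_mem_normalizer_of_lt {H K : Subgroup G} (hK : Group.IsNilpotent K) (h : H < K) :
    ∃ x ∈ K, x ∈ normalizer (H : Set G) ∧ x ∉ H := by
  have hlt : H.subgroupOf K < ⊤ := by
    rw [lt_top_iff_ne_top, Ne, subgroupOf_eq_top]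
    exact h.2
  have := Group.normalizerCondition_of_isNilpotent (G := K) _ hlt
  rw [← subgroupOf_normalizer_eq h.le] at this
  obtain ⟨x, hx1, hx2⟩ := SetLike.exists_of_lt this
  exact ⟨x, x.2, hx1, hx2⟩

/-- `S0649` in general form. -/
theorem exists_mem_normalizer_normalizer (hG : Group.IsNilpotent G) (B : Subgroup G) [B.Normal]
    (N : Subgroup G) (hnot : ¬ B ≤ N) : ∃ b ∈ B, b ∈ normalizer (N : Set G) ∧ b ∉ N := by
  have hlt : N < B ⊔ N := lt_of_le_of_ne le_sup_right fun h => hnot (h ▸ le_sup_left)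
  obtain ⟨x, hx, hxN, hxn⟩ := exists_mem_normalizer_of_lt (K := B ⊔ N) inferInstance hlt
  rw [← SetLike.mem_coe, normal_mul] at hx
  obtain ⟨b, hb, n, hn, rfl⟩ := hx
  refine ⟨b, hb, ?_, fun h => hxn (mul_mem h hn)⟩
  have := mul_mem hxN (inv_mem (le_normalizer hn))
  simpa using this

/-- power formula in class two -/
theorem mul_pow_of_central {x y c : G} (h : y * x = x * y * c) (hx : Commute c x)
    (hy : Commute c y) (n : ℕ) : (x * y) ^ n = x ^ n * y ^ n * c ^ (n.choose 2) := by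
  have h1 : ∀ k : ℕ, y ^ k * x = x * y ^ k * c ^ k := by
    intro k
    induction k with
    | zero => simp
    | succ k ih =>
      calc y ^ (k + 1) * x = y ^ k * (y * x) := by rw [pow_succ, mul_assoc]
        _ = (y ^ k * x) * y * c := by rw [h]; simp only [mul_assoc]
        _ = x * y ^ k * (c ^ k * y) * c := by rw [ih]; simp only [mul_assoc]
        _ = x * y ^ (k + 1) * c ^ (k + 1) := by
          rw [(hy.pow_left k).eq, pow_succ, pow_succ]; simp only [mul_assoc]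
  induction n with
  | zero => simp
  | succ n ih =>
    have e : (n + 1).choose 2 = n + n.choose 2 := by
      rw [Nat.choose_succ_succ' n 1, Nat.choose_one_right]
    calc (x * y) ^ (n + 1) = x ^ n * y ^ n * (c ^ (n.choose 2) * (x * y)) := by
          rw [pow_succ, ih]; simp only [mul_assoc]
      _ = x ^ n * (y ^ n * x) * y * c ^ (n.choose 2) := by
          rw [((hx.mul_right hy).pow_left _).eq]; simp only [mul_assoc]
      _ = x ^ n * x * y ^ n * (c ^ n * y) * c ^ (n.choose 2) := by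
          rw [h1]; simp only [mul_assoc]
      _ = _ := by
          rw [(hy.pow_left n).eq, e, pow_add c, pow_succ x n, pow_succ y n]; simp only [mul_assoc]

/-- The conjugate `b⁻¹ A b`. -/
abbrev conjInv (A : Subgroup G) (b : G) : Subgroup G := A.map (MulAut.conj (b⁻¹)).toMonoidHom

theorem mem_conjInv {A : Subgroup G} {b x : G} : x ∈ conjInv A b ↔ b * x * b⁻¹ ∈ A := by
  constructor
  · rintro ⟨a, ha, rfl⟩
    simpa [mul_assoc] using ha
  · intro h
    exact ⟨_, h, by simp [mul_assoc]⟩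

/-- The subgroup `[A, b]`. -/
abbrev commEl (A : Subgroup G) (b : G) : Subgroup G :=
  closure {g : G | ∃ a ∈ A, g = a * b⁻¹ * a⁻¹ * b}

/-- The replacement `A* = (A ∩ A^b)[A,b]`. -/
abbrev repl (A : Subgroup G) (b : G) : Subgroup G := (A ⊓ conjInv A b) ⊔ commEl A b

/-- The hypotheses of the replacement theorem. -/
structure ReplHyp (B A : Subgroup G) (b : G) : Prop where
  normal : B.Normal
  comm : IsMulCommutative A
  derived_le : ⁅B, B⁆ ≤ A
  mem : b ∈ B
  mem_norm : b ∈ normalizer ((normalizer (A : Set G) : Subgroup G) : Set G)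
  not_mem : b ∉ normalizer (A : Set G)

namespace ReplHyp

variable {B A : Subgroup G} {b : G} (h : ReplHyp B A b)
include h

theorem comm_mem {x y : G} (hx : x ∈ B) (hy : y ∈ B) : x * y * x⁻¹ * y⁻¹ ∈ A :=
  h.derived_le (commutator_mem_commutator hx hy)

theorem conjInv_comm : IsMulCommutative (conjInv A b) := by
  have := h.comm
  infer_instance

theorem conj_mem_norm {n : G} (hn : n ∈ normalizer (A : Set G)) :
    b * n * b⁻¹ ∈ normalizer (A : Set G) := (mem_normalizer_iff.mp h.mem_norm n).mp hn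

theorem conj_mem_norm' {n : G} (hn : n ∈ normalizer (A : Set G)) :
    b⁻¹ * n * b ∈ normalizer (A : Set G) := (mem_normalizer_iff''.mp h.mem_norm n).mp hn

theorem conj_mem_conjInv {n x : G} (hn : n ∈ normalizer (A : Set G)) (hx : x ∈ conjInv A b) :
    n * x * n⁻¹ ∈ conjInv A b := by
  rw [mem_conjInv] at hx ⊢
  have := (mem_normalizer_iff.mp (h.conj_mem_norm hn) _).mp hx
  convert this using 1
  group

theorem norm_le_norm_conjInv : normalizer (A : Set G) ≤ normalizer (conjInv A b : Set G) :=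
  le_normalizer_iff.mpr fun _ hn _ hx => h.conj_mem_conjInv hn hx

theorem conjInv_le_norm : conjInv A b ≤ normalizer (A : Set G) := by
  intro x hx
  have := h.conj_mem_norm' (le_normalizer (mem_conjInv.mp hx))
  simpa [mul_assoc] using this

theorem inf_B_le : A ⊓ B ≤ A ⊓ conjInv A b := by
  rintro a ⟨ha, haB⟩
  refine ⟨ha, mem_conjInv.mpr ?_⟩
  have := mul_mem (h.comm_mem h.mem haB) ha
  simpa using this

theorem derived_le_D : ⁅B, B⁆ ≤ A ⊓ conjInv A b :=
  le_trans (le_inf h.derived_le (commutator_le_self B)) h.inf_B_le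

/-- `b⁻¹ d b ∈ D` for `d ∈ D`. -/
theorem conj_mem_D' {d : G} (hd : d ∈ A ⊓ conjInv A b) : b⁻¹ * d * b ∈ A ⊓ conjInv A b := by
  obtain ⟨hd1, hd2⟩ := mem_inf.mp hd
  refine mem_inf.mpr ⟨?_, mem_conjInv.mpr (by simpa [mul_assoc] using hd1)⟩
  have ha : b * d * b⁻¹ ∈ A := mem_conjInv.mp hd2
  have hc : (b * d * b⁻¹)⁻¹ * d ∈ B := by
    have := mul_mem h.mem (h.normal.conj_mem _ (inv_mem h.mem) d⁻¹)
    convert this using 1
    group
  have hcA : (b * d * b⁻¹)⁻¹ * d ∈ A := mul_mem (inv_mem ha) hd1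
  have := mul_mem (mul_mem hd1 (h.comm_mem (inv_mem h.mem) hc)) hcA
  convert this using 1
  group

theorem mem_norm_D [Finite G] : b ∈ normalizer ((A ⊓ conjInv A b : Subgroup G) : Set G) := by
  have : b⁻¹ ∈ normalizer ((A ⊓ conjInv A b : Subgroup G) : Set G) :=
    mem_normalizer_fintype fun n hn => by simpa using h.conj_mem_D' hn
  simpa using inv_mem this

theorem norm_le_norm_D :
    normalizer (A : Set G) ≤ normalizer ((A ⊓ conjInv A b : Subgroup G) : Set G) :=
  le_trans (le_inf le_rfl h.norm_le_norm_conjInv) inf_normalizer_le_normalizer_inf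

theorem commutator_mem_D {x y : G} (hx : x ∈ A) (hy : y ∈ conjInv A b) :
    x * y * x⁻¹ * y⁻¹ ∈ A ⊓ conjInv A b := by
  refine mem_inf.mpr ⟨?_, mul_mem (h.conj_mem_conjInv (le_normalizer hx) hy) (inv_mem hy)⟩
  have := mul_mem hx ((mem_normalizer_iff.mp (h.conjInv_le_norm hy) _).mp (inv_mem hx))
  simpa [mul_assoc] using this

omit h in
theorem conj_inv_mem_conjInv {a : G} (ha : a ∈ A) : b⁻¹ * a⁻¹ * b ∈ conjInv A b :=
  mem_conjInv.mpr (by simpa [mul_assoc] using ha)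

omit h in
theorem gen_mem_sup {a : G} (ha : a ∈ A) : a * b⁻¹ * a⁻¹ * b ∈ A ⊔ conjInv A b := by
  have := mul_mem (mem_sup_left (T := conjInv A b) ha)
    (mem_sup_right (S := A) (conj_inv_mem_conjInv (b := b) ha))
  simpa [mul_assoc] using this

omit h in
theorem commEl_le_sup : commEl A b ≤ A ⊔ conjInv A b := by
  rw [closure_le]
  rintro _ ⟨a, ha, rfl⟩
  exact gen_mem_sup ha

omit h in
theorem repl_le_sup : repl A b ≤ A ⊔ conjInv A b :=
  sup_le (inf_le_left.trans le_sup_left) commEl_le_sup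

theorem sup_le_norm : A ⊔ conjInv A b ≤ normalizer (A : Set G) :=
  sup_le le_normalizer h.conjInv_le_norm

theorem commEl_le_B : commEl A b ≤ B := by
  rw [closure_le]
  rintro _ ⟨a, ha, rfl⟩
  exact mul_mem (h.normal.conj_mem _ (inv_mem h.mem) a) h.mem

theorem sup_le_centralizer_D :
    A ⊔ conjInv A b ≤ centralizer ((A ⊓ conjInv A b : Subgroup G) : Set G) := by
  refine sup_le ?_ ?_
  · exact fun x hx d hd => comm_of_mem h.comm hd.1 hx
  · exact fun x hx d hd => comm_of_mem h.conjInv_comm hd.2 hx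

theorem commutator_sup_le_D : ⁅A ⊔ conjInv A b, A⁆ ≤ A ⊓ conjInv A b := by
  rw [commutator_le]
  intro x hx a ha
  rw [← SetLike.mem_coe, coe_mul_of_right_le_normalizer_left _ _ h.conjInv_le_norm] at hx
  obtain ⟨u, hu, v, hv, rfl⟩ := hx
  have h1 := inv_mem (h.commutator_mem_D ha hv)
  have h2 := (mem_normalizer_iff.mp (h.norm_le_norm_D (le_normalizer hu)) _).mp h1
  have h3 := comm_of_mem h.comm hu ha
  convert h2 using 1
  simp only [commutatorElement_def]
  calc u * v * a * (u * v)⁻¹ * a⁻¹ = u * v * a * v⁻¹ * (a * u)⁻¹ := by group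
    _ = u * v * a * v⁻¹ * (u * a)⁻¹ := by rw [h3]
    _ = _ := by group

theorem commEl_comm [Finite G] {p : ℕ} [Fact p.Prime] (hG : IsPGroup p G)
    (hB2 : p = 2 → IsMulCommutative B) : IsMulCommutative (commEl A b) := by
  by_cases hp : p = 2
  · exact isMulCommutative_of_le (hB2 hp) h.commEl_le_B
  have hWeq : commEl A b = closure {g : G | ∃ a ∈ A, g = b⁻¹ * a * b * a⁻¹} := by
    apply le_antisymm <;> rw [closure_le] <;> rintro _ ⟨a, ha, rfl⟩
    · have : b⁻¹ * a * b * a⁻¹ ∈ closure {g : G | ∃ a ∈ A, g = b⁻¹ * a * b * a⁻¹} :=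
        subset_closure ⟨a, ha, rfl⟩
      simpa [mul_assoc] using inv_mem this
    · have : a * b⁻¹ * a⁻¹ * b ∈ commEl A b := subset_closure ⟨a, ha, rfl⟩
      simpa [mul_assoc] using inv_mem this
  have hN := h.normal
  have hc : ⁅⁅B, B⁆, A⁆ = ⊥ := by
    rw [commutator_eq_bot_iff_le_centralizer]
    exact h.derived_le.trans (le_centralizer_iff_isMulCommutative.mpr h.comm)
  have hW : ⁅⁅commEl A b, A⁆, A⁆ = ⊥ := by
    rw [commutator_eq_bot_iff_le_centralizer]
    exact ((commutator_mono commEl_le_sup le_rfl).trans h.commutator_sup_le_D).trans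
      (inf_le_left.trans (le_centralizer_iff_isMulCommutative.mpr h.comm))
  rw [hWeq] at hW ⊢
  have := sq_eq_one_of_mem_derived le_normalizer_of_normal hc h.comm h.mem hW
  rw [← commutator_self_eq_bot_iff, eq_bot_iff]
  intro w hw
  have h2 := orderOf_dvd_of_pow_eq_one (this w hw)
  obtain ⟨k, hk⟩ := hG w
  have h3 := orderOf_dvd_of_pow_eq_one hk
  have hcop : Nat.Coprime 2 (p ^ k) :=
    ((Nat.coprime_primes Nat.prime_two Fact.out).mpr (Ne.symm hp)).pow_right k
  exact orderOf_eq_one_iff.mp (Nat.eq_one_of_dvd_coprimes hcop h2 h3)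

theorem repl_comm [Finite G] {p : ℕ} [Fact p.Prime] (hG : IsPGroup p G)
    (hB2 : p = 2 → IsMulCommutative B) : IsMulCommutative (repl A b) :=
  isMulCommutative_sup (isMulCommutative_of_le h.comm inf_le_left) (h.commEl_comm hG hB2)
    (le_centralizer_iff.mp (commEl_le_sup.trans h.sup_le_centralizer_D))

theorem gen_mul_gen {a a' : G} (ha : a ∈ A) (ha' : a' ∈ A) :
    ∃ d ∈ A ⊓ conjInv A b, (a * b⁻¹ * a⁻¹ * b) * (a' * b⁻¹ * a'⁻¹ * b) =
      d * (a * a' * b⁻¹ * (a * a')⁻¹ * b) := by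
  have h1 := inv_mem (h.commutator_mem_D ha' (conj_inv_mem_conjInv ha))
  have h2 := (mem_normalizer_iff.mp (h.norm_le_norm_D (le_normalizer ha)) _).mp h1
  refine ⟨_, h2, ?_⟩
  have h3 := comm_of_mem h.comm ha ha'
  calc _ = a * (a' * (b⁻¹ * a⁻¹ * b) * a'⁻¹ * (b⁻¹ * a⁻¹ * b)⁻¹)⁻¹ * a⁻¹ *
      (a * a' * b⁻¹ * (a' * a)⁻¹ * b) := by group
    _ = _ := by rw [← h3]

theorem exists_of_mem_repl {x : G} (hx : x ∈ repl A b) :
    ∃ d ∈ A ⊓ conjInv A b, ∃ a ∈ A, x = d * (a * b⁻¹ * a⁻¹ * b) := by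
  let T : Subgroup G :=
    { carrier := {x | ∃ d ∈ A ⊓ conjInv A b, ∃ a ∈ A, x = d * (a * b⁻¹ * a⁻¹ * b)}
      one_mem' := ⟨1, one_mem _, 1, one_mem _, by group⟩
      mul_mem' := by
        rintro _ _ ⟨d, hd, a, ha, rfl⟩ ⟨d', hd', a', ha', rfl⟩
        obtain ⟨d'', hd'', e⟩ := h.gen_mul_gen ha ha'
        refine ⟨d * d' * d'', mul_mem (mul_mem hd hd') hd'', a * a', mul_mem ha ha', ?_⟩
        have := h.sup_le_centralizer_D (gen_mem_sup ha) d' hd'
        calc _ = d * (a * b⁻¹ * a⁻¹ * b * d') * (a' * b⁻¹ * a'⁻¹ * b) := by group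
          _ = d * d' * ((a * b⁻¹ * a⁻¹ * b) * (a' * b⁻¹ * a'⁻¹ * b)) := by rw [← this]; group
          _ = _ := by rw [e]; group
      inv_mem' := by
        rintro _ ⟨d, hd, a, ha, rfl⟩
        obtain ⟨d'', hd'', e⟩ := h.gen_mul_gen (inv_mem ha) ha
        refine ⟨d⁻¹ * d''⁻¹, mul_mem (inv_mem hd) (inv_mem hd''), a⁻¹, inv_mem ha, ?_⟩
        have h1 := h.sup_le_centralizer_D (gen_mem_sup ha) d hd
        have e' : a⁻¹ * b⁻¹ * a⁻¹⁻¹ * b = d'' * (a * b⁻¹ * a⁻¹ * b)⁻¹ := by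
          rw [eq_mul_inv_iff_mul_eq, e]; group
        rw [e', h1]
        group }
  have : repl A b ≤ T := by
    refine sup_le (fun d hd => ⟨d, hd, 1, one_mem _, by group⟩) ?_
    rw [closure_le]
    rintro _ ⟨a, ha, rfl⟩
    exact ⟨1, one_mem _, a, ha, by group⟩
  exact this hx

theorem mem_D_of_gen_mem {a : G} (ha : a ∈ A) [Finite G] (hg : a * b⁻¹ * a⁻¹ * b ∈ A) :
    a ∈ A ⊓ conjInv A b := by
  have h1 : b⁻¹ * a⁻¹ * b ∈ A := by
    simpa [mul_assoc] using mul_mem (inv_mem ha) hg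
  have h2 : b⁻¹ * a⁻¹ * b ∈ A ⊓ conjInv A b := mem_inf.mpr ⟨h1, conj_inv_mem_conjInv ha⟩
  have h3 := (mem_normalizer_iff''.mp h.mem_norm_D a⁻¹).mpr h2
  simpa using inv_mem h3

theorem inf_repl_eq [Finite G] : repl A b ⊓ A = A ⊓ conjInv A b := by
  refine le_antisymm ?_ (le_inf le_sup_left inf_le_left)
  intro x hx
  obtain ⟨hx1, hx2⟩ := mem_inf.mp hx
  obtain ⟨d, hd, a, ha, rfl⟩ := h.exists_of_mem_repl hx1
  have h1 : a * b⁻¹ * a⁻¹ * b ∈ A := by
    simpa using mul_mem (inv_mem (mem_inf.mp hd).1) hx2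
  have h2 := h.mem_D_of_gen_mem ha h1
  have h3 := mul_mem h2 (h.conj_mem_D' (inv_mem h2))
  exact mul_mem hd (by simpa [mul_assoc] using h3)

omit h in
theorem repl_sup_eq : repl A b ⊔ A = conjInv A b ⊔ A := by
  refine le_antisymm (sup_le (repl_le_sup.trans (sup_comm _ _).le) le_sup_right)
    (sup_le ?_ le_sup_right)
  rintro _ ⟨a, ha, rfl⟩
  have h1 : a⁻¹ * b⁻¹ * a⁻¹⁻¹ * b ∈ repl A b :=
    mem_sup_right (subset_closure ⟨a⁻¹, inv_mem ha, rfl⟩)
  have := mul_mem (mem_sup_right (S := repl A b) ha) (mem_sup_left (T := A) h1)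
  simpa [mul_assoc] using this

omit h in
theorem card_sup_mul_card_inf [Finite G] {H K : Subgroup G} (hHK : H ≤ normalizer (K : Set G)) :
    Nat.card ↥(H ⊔ K) * Nat.card ↥(H ⊓ K) = Nat.card H * Nat.card K := by
  have hN : (K.subgroupOf (H ⊔ K)).Normal := normal_subgroupOf_sup_of_le_normalizer hHK
  have h1 : (K.subgroupOf (H ⊔ K)).relIndex (H.subgroupOf (H ⊔ K) ⊔ K.subgroupOf (H ⊔ K)) =
    (K.subgroupOf (H ⊔ K)).relIndex (H.subgroupOf (H ⊔ K)) := relIndex_sup_right _ _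
  rw [← subgroupOf_sup le_sup_left le_sup_right, subgroupOf_self, relIndex_top_right,
    relIndex_subgroupOf le_sup_left] at h1
  have h2 := (K.subgroupOf (H ⊔ K)).card_mul_index
  have h3 := (K.subgroupOf H).card_mul_index
  rw [Nat.card_congr (subgroupOfEquivOfLe le_sup_right).toEquiv, h1] at h2
  rw [← inf_subgroupOf_left, Nat.card_congr (subgroupOfEquivOfLe inf_le_left).toEquiv,
    inf_subgroupOf_left] at h3
  rw [← h2, ← h3, relIndex]
  ring

theorem card_repl [Finite G] : Nat.card (repl A b) = Nat.card A := by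
  have h1 := card_sup_mul_card_inf (repl_le_sup.trans h.sup_le_norm)
  have h2 := card_sup_mul_card_inf h.conjInv_le_norm
  rw [repl_sup_eq, h.inf_repl_eq, inf_comm, h2] at h1
  rw [← Nat.eq_of_mul_eq_mul_right Nat.card_pos h1]
  exact card_map_of_injective (MulAut.conj b⁻¹).injective

theorem derived_le_repl : ⁅B, B⁆ ≤ repl A b := h.derived_le_D.trans le_sup_left

theorem repl_le_norm : repl A b ≤ normalizer (A : Set G) := repl_le_sup.trans h.sup_le_norm

theorem inf_lt_repl_inf [Finite G] : A ⊓ B < repl A b ⊓ B := by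
  refine lt_of_le_of_ne (le_inf (h.inf_B_le.trans le_sup_left) inf_le_right) fun heq => ?_
  apply h.not_mem
  have : b⁻¹ ∈ normalizer (A : Set G) := by
    refine mem_normalizer_fintype fun a ha => ?_
    have h1 : a⁻¹ * b⁻¹ * a⁻¹⁻¹ * b ∈ commEl A b := subset_closure ⟨a⁻¹, inv_mem ha, rfl⟩
    have h2 : a⁻¹ * b⁻¹ * a⁻¹⁻¹ * b ∈ A ⊓ B :=
      heq ▸ mem_inf.mpr ⟨mem_sup_right h1, h.commEl_le_B h1⟩
    have := mul_mem ha (mem_inf.mp h2).1
    simpa [mul_assoc] using this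
  simpa using inv_mem this

theorem not_le_repl : ¬ B ≤ repl A b := fun hle => h.not_mem (h.repl_le_norm (hle h.mem))

theorem repl_inf_lt : repl A b ⊓ B < B :=
  lt_of_le_of_ne inf_le_right fun heq => h.not_le_repl (heq ▸ inf_le_left)

theorem mem_norm_repl [Finite G] : b ∈ normalizer (repl A b : Set G) := by
  refine mem_normalizer_fintype fun x hx => ?_
  obtain ⟨d, hd, a, ha, rfl⟩ := h.exists_of_mem_repl hx
  have h1 : a * b⁻¹ * a⁻¹ * b ∈ commEl A b := subset_closure ⟨a, ha, rfl⟩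
  have h2 := (mem_normalizer_iff.mp h.mem_norm_D d).mp hd
  have h3 := h.derived_le_D (commutator_mem_commutator h.mem (h.commEl_le_B h1))
  have := mul_mem (mul_mem (mem_sup_left (T := commEl A b) h2) (mem_sup_left h3))
    (mem_sup_right h1)
  show _ ∈ repl A b
  convert this using 1
  simp only [commutatorElement_def]
  group

theorem norm_le_norm_repl : normalizer (A : Set G) ≤ normalizer (repl A b : Set G) := by
  refine le_normalizer_iff.mpr fun n hn x hx => ?_
  obtain ⟨d, hd, a, ha, rfl⟩ := h.exists_of_mem_repl hx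
  have h1 := (mem_normalizer_iff.mp (h.norm_le_norm_D hn) d).mp hd
  have ha' : n * a * n⁻¹ ∈ A := (mem_normalizer_iff.mp hn a).mp ha
  have h2 : (n * a * n⁻¹) * b⁻¹ * (n * a * n⁻¹)⁻¹ * b ∈ commEl A b := subset_closure ⟨_, ha', rfl⟩
  have hcN : b⁻¹ * n * b * n⁻¹ ∈ normalizer (A : Set G) := mul_mem (h.conj_mem_norm' hn) (inv_mem hn)
  have hcB : b⁻¹ * n * b * n⁻¹ ∈ B := by
    have := mul_mem (inv_mem h.mem) (h.normal.conj_mem _ h.mem n)
    simpa [mul_assoc] using this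
  have hy := conj_inv_mem_conjInv (b := b) ha'
  set y := b⁻¹ * (n * a * n⁻¹)⁻¹ * b with hydef
  set c := b⁻¹ * n * b * n⁻¹ with hcdef
  have h3 : y⁻¹ * (c⁻¹ * y * c⁻¹⁻¹) ∈ conjInv A b :=
    mul_mem (inv_mem hy) (h.conj_mem_conjInv (inv_mem hcN) hy)
  have h4 : y⁻¹ * (c⁻¹ * y * c⁻¹⁻¹) ∈ B := by
    have := mul_mem (h.normal.conj_mem _ (inv_mem hcB) y⁻¹) hcB
    simpa [mul_assoc] using this
  have h5 := h.conj_mem_D' (h.inf_B_le (mem_inf.mpr ⟨mem_conjInv.mp h3,
    h.normal.conj_mem _ h4 b⟩))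
  have := mul_mem (mul_mem (mem_sup_left (T := commEl A b) h1) (mem_sup_right h2))
    (mem_sup_left h5)
  convert this using 1
  rw [hydef, hcdef]
  group

theorem norm_lt_norm_repl [Finite G] :
    normalizer (A : Set G) < normalizer (repl A b : Set G) :=
  lt_of_le_of_ne h.norm_le_norm_repl fun heq => h.not_mem (heq ▸ h.mem_norm_repl)

theorem pow_eq_one_of_odd {e : ℕ} (he : Odd e) (hA : ∀ a ∈ A, a ^ e = 1) :
    ∀ x ∈ repl A b, x ^ e = 1 := by
  intro x hx
  obtain ⟨d, hd, a, ha, rfl⟩ := h.exists_of_mem_repl hx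
  have h1 : Commute d (a * b⁻¹ * a⁻¹ * b) := h.sup_le_centralizer_D (gen_mem_sup ha) d hd
  rw [h1.mul_pow, hA d (mem_inf.mp hd).1, one_mul]
  have hy := conj_inv_mem_conjInv (b := b) ha
  have hc := inv_mem (h.commutator_mem_D (inv_mem ha) (inv_mem hy))
  have hye : (b⁻¹ * a⁻¹ * b) ^ e = 1 := by
    have := conj_pow (a := b⁻¹) (b := a⁻¹) (i := e)
    rw [inv_inv] at this
    rw [this, hA _ (inv_mem ha)]
    group
  have e1 : a * b⁻¹ * a⁻¹ * b = a * (b⁻¹ * a⁻¹ * b) := by group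
  rw [e1]
  generalize b⁻¹ * a⁻¹ * b = y at *
  have hx : Commute (a⁻¹ * y⁻¹ * a⁻¹⁻¹ * y⁻¹⁻¹)⁻¹ a :=
    h.sup_le_centralizer_D (mem_sup_left ha) _ hc
  have hy' : Commute (a⁻¹ * y⁻¹ * a⁻¹⁻¹ * y⁻¹⁻¹)⁻¹ y :=
    h.sup_le_centralizer_D (mem_sup_right hy) _ hc
  rw [mul_pow_of_central (by group) hx hy', hA a ha, hye, one_mul, one_mul]
  obtain ⟨k, rfl⟩ := he
  have : (2 * k + 1).choose 2 = (2 * k + 1) * k := by
    rw [Nat.choose_two_right, Nat.add_sub_cancel, ← mul_assoc, mul_comm _ 2, mul_assoc,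
      Nat.mul_div_cancel_left _ two_pos]
  rw [this, pow_mul, hA _ (mem_inf.mp hc).1, one_pow]

theorem exponent_repl_dvd [Finite G] {p : ℕ} [Fact p.Prime] (hG : IsPGroup p G) (hp : p ≠ 2) :
    Monoid.exponent (repl A b) ∣ Monoid.exponent A := by
  have hodd : Odd (Monoid.exponent A) := by
    obtain ⟨k, hk⟩ := (hG.to_subgroup A).exists_card_eq
    have h1 : Monoid.exponent A ∣ p ^ k := hk ▸ Group.exponent_dvd_nat_card
    exact ((Fact.out : p.Prime).odd_of_ne_two hp).pow.of_dvd_nat h1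
  rw [Monoid.exponent_dvd_iff_forall_pow_eq_one]
  intro x
  ext
  exact h.pow_eq_one_of_odd hodd
    (fun a ha => congrArg Subtype.val (Monoid.pow_exponent_eq_one (⟨a, ha⟩ : A))) x x.2

end ReplHyp

end CL.ZJ
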